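import Cfsg.Agent.H2.Norm
import Cfsg.Agent.H3.ZJ
import Cfsg.Agent.H1.HallTop
import Cfsg.Agent.H7.PGrp
import Cfsg.Agent.H5.Subnormal

/-! The Hughes-Thompson-Kegel theorem. -/

namespace H7

open Subgroup
open scoped IsMulCommutative

theorem norm_fixed_abstract {A V : Type*} [Group A] [CommGroup V] [MulDistribMulAction A V]
    (Q : Subgroup A) [Finite Q] (x : A) (hxQ : ∀ y ∈ Q, x * y * x⁻¹ ∈ Q) {p : ℕ} (hp : p.Prime)
    (h1 : ∀ y ∈ Q, (y * x) ^ p = 1) (v : V)
    (h2 : ∀ y ∈ Q, ∏ i ∈ Finset.range p, (y * x) ^ i • v = 1) {z : A} (hz : z ∈ Q) :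
    z • v ^ Nat.card Q = v ^ Nat.card Q := by
  classical
  have := Fintype.ofFinite Q
  have hmem : ∀ (i : ℕ) (y : A), y ∈ Q → (y * x) ^ i * (x ^ i)⁻¹ ∈ Q := by
    intro i y hy
    induction i with
    | zero => simp
    | succ i ih =>
      have : (y * x) ^ (i + 1) * (x ^ (i + 1))⁻¹ = y * (x * ((y * x) ^ i * (x ^ i)⁻¹) * x⁻¹) := by
        rw [pow_succ' (y * x), pow_succ' x]; group
      rw [this]; exact Q.mul_mem hy (hxQ _ ih)
  have key : ∏ y : Q, ∏ i ∈ Finset.range p, ((y : A) * x) ^ i • v = 1 :=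
    Finset.prod_eq_one fun y _ => h2 y y.2
  rw [Finset.prod_comm] at key
  obtain ⟨n, hn⟩ : ∃ n, p = n + 1 := ⟨p - 1, by have := hp.pos; omega⟩
  rw [hn, Finset.prod_range_succ'] at key
  have hone : z • ∏ i ∈ Finset.range n, ∏ y : Q, ((y : A) * x) ^ (i + 1) • v =
      ∏ i ∈ Finset.range n, ∏ y : Q, ((y : A) * x) ^ (i + 1) • v := by
    rw [Finset.smul_prod']
    refine Finset.prod_congr rfl fun i hi => ?_
    rw [Finset.mem_range] at hi
    have hcop : (i + 1).Coprime p :=
      (Nat.coprime_of_lt_prime (by omega) (by omega) hp).symm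
    let c : Q → Q := fun y => ⟨_, hmem (i + 1) y y.2⟩
    have hc : Function.Injective c := by
      intro y z h
      have h' : ((y : A) * x) ^ (i + 1) * (x ^ (i + 1))⁻¹ = (z * x) ^ (i + 1) * (x ^ (i + 1))⁻¹ :=
        congrArg Subtype.val h
      have := H2.eq_of_pow_eq_pow_of_coprime hp.one_lt (h1 y y.2) (h1 z z.2) hcop
        (mul_right_cancel h')
      exact Subtype.ext (mul_right_cancel this)
    have hb : Function.Bijective c := Finite.injective_iff_bijective.1 hc
    have : ∏ y : Q, ((y : A) * x) ^ (i + 1) • v = ∏ y : Q, (y : A) • (x ^ (i + 1) • v) := by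
      refine Fintype.prod_bijective c hb _ _ fun y => ?_
      simp only [c, ← mul_smul]
      congr 1; group
    rw [this]
    exact H2.prod_smul_fixed Q _ hz
  simp only [pow_zero, one_smul, Finset.prod_const, Finset.card_univ] at key
  rw [Nat.card_eq_fintype_card, eq_inv_of_mul_eq_one_right key, smul_inv', hone]

variable {G : Type*} [Group G]

theorem mul_pow_eq_norm (V : Subgroup G) [V.Normal] [IsMulCommutative V] (v : V) (a : G) (n : ℕ) :
    ((v : G) * a) ^ n = (∏ i ∈ Finset.range n, MulAut.conjNormal (a ^ i) v : V) * a ^ n := by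
  induction n with
  | zero => simp
  | succ n ih =>
    rw [pow_succ, ih, Finset.prod_range_succ, pow_succ, Subgroup.coe_mul, MulAut.conjNormal_apply]
    group

theorem le_centralizer_of_coset [Finite G] {V Q : Subgroup G} [V.Normal] [IsMulCommutative V]
    {r p : ℕ} (hr : r.Prime) (hV : ∀ v ∈ V, v ^ r = 1) (hc : (Nat.card Q).Coprime r)
    (hp : p.Prime) {x : G} (hx : x ∈ normalizer (Q : Set G))
    (h : ∀ v ∈ V, ∀ y ∈ Q, (v * (y * x)) ^ p = 1) : Q ≤ centralizer (V : Set G) := by
  letI : MulDistribMulAction G V := MulDistribMulAction.compHom V (MulAut.conjNormal : G →* MulAut V)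
  intro z hz v hv
  have h0 : ∀ y ∈ Q, (y * x) ^ p = 1 := fun y hy => by simpa using h 1 (one_mem _) y hy
  have h1 := norm_fixed_abstract Q x (fun y hy => conj_mem_of_mem_normalizer hx hy) hp h0
    (⟨v, hv⟩ : V) (fun y hy => by
      have := mul_pow_eq_norm V ⟨v, hv⟩ (y * x) p
      rw [h v hv y hy, h0 y hy, mul_one] at this
      exact Subtype.ext this.symm) hz
  rw [smul_pow'] at h1
  have h2 := H2.eq_of_pow_eq_pow_of_coprime hr.one_lt (Subtype.ext (hV _ (z • (⟨v, hv⟩ : V)).2))
    (Subtype.ext (hV _ hv)) hc h1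
  exact (mul_inv_eq_iff_eq_mul.1 (congrArg Subtype.val h2)).symm

theorem kegel.{u} {Γ : Type u} [Group Γ] [Finite Γ] {p : ℕ} (hp : p.Prime) (K : Subgroup Γ)
    [K.Normal] (hK : K ≠ ⊤) (h : ∀ x, x ∉ K → x ^ p = 1) : Group.IsNilpotent K := by
  induction hn : Nat.card Γ using Nat.strong_induction_on generalizing Γ with
  | _ n ih =>
  have hsub : ∀ H : Subgroup Γ, H ≠ ⊤ → ¬ H ≤ K → ∀ L, L ≤ K → L ≤ H → Group.IsNilpotent L := by
    intro H h1 h2 L h3 h4
    have := H1.isNilpotent_map (ih _ (hn ▸ H1.card_lt_card_of_ne_top h1) (K.subgroupOf H)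
      (fun e => h2 (subgroupOf_eq_top.1 e)) (fun x hx => Subtype.ext (h x hx)) rfl) H.subtype
    rw [subgroupOf_map_subtype] at this
    exact H1.isNilpotent_of_le this (le_inf h3 h4)
  have hfr : ∀ (q : ℕ) [Fact q.Prime] (Q : Subgroup Γ), Cfsg.IsPiHallOf {q} Q K →
      ∃ a ∈ normalizer (Q : Set Γ), a ∉ K := by
    intro q _ Q hQ
    by_contra h1
    push Not at h1
    have := H1.sylowOf_frattini_sup hQ le_top le_normalizer_of_normal
    rw [sup_eq_left.2 (fun x hx => h1 x hx.2)] at this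
    exact hK this
  by_cases hs : ∃ N : Subgroup Γ, N.Normal ∧ N ≠ ⊥ ∧ N ≤ K ∧ Group.IsSolvable N
  · obtain ⟨N, hN, h1, h2, h3⟩ := hs
    obtain ⟨V, r, hV, h4, h5, hr, hc, he, hVr, hmin⟩ := H1.exists_minimal_normal_elementary N h3 h1
    haveI := Fact.mk hr
    have hVK := h5.trans h2
    haveI := ih _ (hn ▸ H1.card_quotient_lt h4) (K.map (QuotientGroup.mk' V)) (fun e => hK (by
      have := congrArg (comap (QuotientGroup.mk' V)) e
      rwa [comap_map_eq, QuotientGroup.ker_mk', sup_eq_left.2 hVK, comap_top] at this))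
      (fun x hx => by
        obtain ⟨y, rfl⟩ := QuotientGroup.mk'_surjective V x
        rw [← map_pow, h y fun hy => hx ⟨y, hy, rfl⟩, map_one]) rfl
    obtain ⟨R, hR⟩ := H1.exists_sylowOf r K
    obtain ⟨⟨z, hz1, hz2⟩, hz⟩ := (nontrivial_iff_exists_ne_one _).1 ((nontrivial_iff_ne_bot _).2
      (inf_centralizer_ne_bot (H1.IsPiHallOf.isPGroup hR) hVr le_normalizer_of_normal h4))
      |> fun ⟨z, a, b⟩ => (⟨⟨z, a⟩, b⟩ : ∃ z : (V ⊓ centralizer (R : Set Γ) : Subgroup Γ), z.1 ≠ 1)
    have h6 : K ≤ centralizer {z} := H1.le_of_forall_sylowOf_le fun q _ _ => by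
      by_cases e : q = r
      · subst e
        exact ⟨R, hR, fun y hy => mem_centralizer_singleton_iff.2 (hz2 y hy)⟩
      · obtain ⟨Q, hQ⟩ := H1.exists_sylowOf q K
        obtain ⟨a, ha, ha'⟩ := hfr q Q hQ
        refine ⟨Q, hQ, le_trans (le_centralizer_of_coset hr he (H1.IsPGroup.coprime_card
          (H1.IsPiHallOf.isPGroup hQ) ((Nat.coprime_primes hr Fact.out).2 (Ne.symm e))) hp ha
          fun v hv y hy => h _ fun h7 => ha' ?_) (centralizer_le (by simpa using hz1))⟩
        rwa [mul_mem_cancel_left (hVK hv), mul_mem_cancel_left (H1.IsPiHallOf.le' hQ hy)] at h7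
    have h7 := (hmin (V ⊓ centralizer (K : Set Γ)) inferInstance inf_le_left).resolve_left
      fun e => hz (by
        rw [← mem_bot, ← e]
        exact ⟨hz1, fun y hy => mem_centralizer_singleton_iff.1 (h6 hy)⟩)
    refine Subgroup.isNilpotent_of_ker_le_center ((QuotientGroup.mk' V).subgroupMap K) ?_
    intro x hx
    have h8 : (x : Γ) ∈ V := (QuotientGroup.eq_one_iff _).1 (congrArg Subtype.val hx)
    rw [← h7] at h8
    exact mem_center_iff.2 fun y => Subtype.ext (h8.2 y y.2)
  push Not at hs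
  by_cases hK0 : K = ⊥
  · rw [hK0]; infer_instance
  have hnp : ∀ q : ℕ, q.Prime → ¬ IsPGroup q K := fun q hq e => hs K inferInstance hK0 le_rfl (by
    haveI := Fact.mk hq
    haveI := e.isNilpotent
    infer_instance)
  obtain ⟨q, hq, hq1, hq2⟩ : ∃ q : ℕ, q.Prime ∧ q ∣ Nat.card K ∧ q ≠ 2 := by
    by_contra h1
    push Not at h1
    exact hnp 2 Nat.prime_two (H1.isPiNat_card_singleton_iff.1 h1)
  haveI := Fact.mk hq
  obtain ⟨S⟩ : Nonempty (Sylow q K) := inferInstance
  obtain ⟨a, ha, ha'⟩ := hfr q _ (H1.isPiHallOf_sylow S)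
  have hZ := H4.map_centerThompsonOf (n := q) (S : Subgroup K)
    (H4.inf_ker_eq_bot_of_injective _ K.subtype_injective)
  have h1 : Group.IsNilpotent ((normalizer (Cfsg.centerThompsonOf q (S : Subgroup K) : Set K)).map
      K.subtype) := by
    refine hsub (normalizer ((Cfsg.centerThompsonOf q (S : Subgroup K)).map K.subtype : Set Γ))
      (fun e => ?_) (fun e => ha' (e ?_)) _ (map_subtype_le _) (le_normalizer_map _)
    · refine hs _ (normalizer_eq_top_iff.1 e) (fun e2 => ?_) (map_subtype_le _)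
        (H1.isSolvable_map (H1.isSolvable_of_comm' (H4.isMulCommutative_centerThompsonOf _)) _)
      rw [map_eq_bot_iff_of_injective _ K.subtype_injective] at e2
      exact H4.centerThompsonOf_ne_bot S.2 (S.ne_bot_of_dvd_card hq1) e2
    · rw [hZ]; exact H4.normalizer_le_normalizer_centerThompsonOf _ ha
  haveI := Group.nilpotent_of_mulEquiv (equivMapOfInjective
    (normalizer (Cfsg.centerThompsonOf q (S : Subgroup K) : Set K)) K.subtype
    K.subtype_injective).symm
  have h2 := H3.hasNormalPComplement_iff_coprime.1 (H3.glauberman_thompson hq2 (Or.inr rfl) S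
    (H3.hasNormalPComplement_of_isNilpotent _))
  set L := (Cfsg.pResidual q K).map K.subtype
  haveI : L.Normal := H1.normal_map_char K _
  have h3 : L ⊔ zpowers a ≠ ⊤ := by
    intro e
    have h4 := H1.sup_inf_assoc_of_le_normalizer (A := L) (B := zpowers a) (map_subtype_le _)
      (Or.inr le_normalizer_of_normal)
    haveI := Fact.mk hp
    have h5 : orderOf a = p := orderOf_eq_prime (h a ha') fun e => ha' (e ▸ one_mem _)
    rw [e, top_inf_eq, (eq_or_eq_bot_of_card_prime (p := p) (by rw [Nat.card_zpowers, h5])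
      inf_le_left).resolve_right fun e => ha' (inf_eq_left.1 e (mem_zpowers a)), sup_bot_eq] at h4
    rw [h4, card_map_of_injective K.subtype_injective] at hq1
    exact (hq.coprime_iff_not_dvd.1 h2.symm) hq1
  have h4 := hsub _ h3 (fun e => ha' (e (mem_sup_right (mem_zpowers a)))) L (map_subtype_le _)
    le_sup_left
  have h5 : L = ⊥ := by
    by_contra e
    exact hs L inferInstance e (map_subtype_le _) inferInstance
  rw [map_eq_bot_iff_of_injective _ K.subtype_injective] at h5
  exact absurd (H3.pResidual_eq_bot_iff.1 h5) (hnp q hq)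

end H7
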