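import Mathlib
import Cfsg.Prelude.Def_JankoFourType
import Cfsg.Prelude.Def_MonsterType
import Cfsg.Prelude.Def_Spor_J4

/-! Groups of shape `2^(1+12).3.M22.2`. -/

set_option autoImplicit false
open Subgroup

namespace H7B

structure St {C : Type*} [Group C] (Q N M : Subgroup C) [N.Normal] : Prop where
  nQ : Q.Normal
  nM : M.Normal
  hQN : Q ≤ N
  hNM : N ≤ M
  hM : M.index = 2
  hQ : Cfsg.IsExtraspecial 2 Q
  hcard : Nat.card Q = 2 ^ 13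
  hN : Nat.card N = 3 * Nat.card Q
  hcent : ⁅M, N⁆ ≤ Q
  hperf : M ≤ ⁅M, M⁆ ⊔ Q
  h2c : centralizer (Q : Set C) ≤ Q
  hout : ∀ c : C, (∀ m ∈ M, c * m * c⁻¹ * m⁻¹ ∈ N) → c ∈ M
  hM22 : Cfsg.Spor.IsoM22 (M ⧸ N.subgroupOf M)

end H7B
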