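import Cfsg.Agent.H7.J4a
import Cfsg.Agent.H27.MCls
import Cfsg.Agent.H27.MSub
import Cfsg.Agent.S2038

/-! The first seven relators of the presentation of `J4` define `M24`. -/

set_option maxRecDepth 100000
set_option autoImplicit false

namespace H7.J4
open H27 H28 Cfsg MulAction
open scoped commutatorElement

def mN : List Net := [z2bN, (.cons 1 0x104554 (.cons 2 0x120030 (.cons 4 0x50c04 (.cons 8 0xa6 (.cons 16 0x6e (.cons 8 0x22 (.cons 4 0x800 (.cons 2 0x220210 (.cons 1 0x154140 .nil))))))))), (.cons 1 0x401414 (.cons 2 0x110120 (.cons 4 0xa0c08 (.cons 8 0x51 (.cons 16 0x9d (.cons 8 0x91 (.cons 4 0x400 (.cons 2 0x210030 (.cons 1 0x451000 .nil)))))))))]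
/-- the second generator in `M24` -/
noncomputable def my : MM := mm (mN.getD 1 .nil)
theorem mN_acts : ActsL 24 GE.e (mN.map mm) mN := actsL_mm (by decide +kernel)
theorem mN_rels : Rels (mN.map mm) j4m_R := fun w hw => MM_faithful fun i hi => by
  rw [ev_smul mN_acts w hi, fixR_of_relA (K := 5) (n := 24) (Ns := mN) (R := j4m_R) (by decide +kernel)
    (by decide +kernel) w hw i hi]
theorem mN_eq : mN.map mm = [z2b, my, my⁻¹] := by
  have := mN_rels [1, 2] (by decide +kernel)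
  rw [ev_cons, ev_single] at this
  rw [show my⁻¹ = mm (mN.getD 2 .nil) from (eq_inv_of_mul_eq_one_right this).symm]; rfl
theorem mN_top : cl (mN.map mm) = ⊤ := by
  rw [← Subgroup.card_eq_iff_eq_top]
  refine le_antisymm (Subgroup.card_le_card_group _) ?_
  rw [card_MM]
  exact le_card_cl (K := 5) GE.injOn mN_acts [([1, 3, 0, 0, 5, 1, 2, 2], (.cons 1 0x401414 (.cons 2 0x110120 (.cons 4 0xa0c08 (.cons 8 0x51 (.cons 16 0x9d (.cons 8 0x91 (.cons 4 0x400 (.cons 2 0x210030 (.cons 1 0x451000 .nil)))))))))), ([3, 7, 4, 7, 3], .nil), ([5, 9, 5, 9, 5, 7, 5, 7, 4, 7, 5, 8], (.cons 1 0x15104 (.cons 2 0x133102 (.cons 4 0xb0504 (.cons 8 0xac (.cons 16 0x78 (.cons 8 0x78 (.cons 4 0x40900 (.cons 2 0x232000 (.cons 1 0x4014 .nil)))))))))), ([10, 8, 11, 7, 10, 8, 7, 11], (.cons 1 0x401414 (.cons 2 0x110120 (.cons 4 0xa0c08 (.cons 8 0x51 (.cons 16 0x9d (.cons 8 0x91 (.cons 4 0x400 (.cons 2 0x210030 (.cons 1 0x451000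 .nil)))))))))), ([13, 9, 12, 12, 11, 9], (.cons 1 0x104554 (.cons 2 0x120030 (.cons 4 0x50c04 (.cons 8 0xa6 (.cons 16 0x6e (.cons 8 0x22 (.cons 4 0x800 (.cons 2 0x220210 (.cons 1 0x154140 .nil)))))))))), ([11, 13, 11, 13, 13, 14, 11, 12, 11, 12], (.cons 1 0x104554 (.cons 2 0x120030 (.cons 4 0x50c04 (.cons 8 0xa6 (.cons 16 0x6e (.cons 8 0x22 (.cons 4 0x800 (.cons 2 0x220210 (.cons 1 0x154140 .nil)))))))))), ([14, 14, 14, 17, 17, 15], (.cons 1 0x104554 (.cons 2 0x120030 (.cons 4 0x50c04 (.cons 8 0xa6 (.cons 16 0x6e (.cons 8 0x22 (.cons 4 0x800 (.cons 2 0x220210 (.cons 1 0x154140 .nil)))))))))), ([15, 15, 16, 19], (.cons 1 0x401414 (.cons 2 0x110120 (.cons 4 0xa0c08 (.cons 8 0x51 (.cons 16 0x9d (.cons 8 0x91 (.cons 4 0x400 (.cons 2 0x210030 (.cons 1 0x451000 .nil)))))))))), ([15, 4, 11, 1, 14, 3], (.cons 1 0x14544 (.cons 2 0x311310 (.cons 4 0x80e06 (.cons 8 0x93 (.cons 16 0x63 (.cons 8 0x61 (.cons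 4 0x40800 (.cons 2 0x20010 (.cons 1 0x40444 .nil)))))))))), ([17, 7, 13, 6, 16, 7, 12, 4, 16], (.cons 1 0x1514 (.cons 2 0x33200 (.cons 4 0xf0600 (.cons 8 0xa5 (.cons 16 0x83 (.cons 8 0x81 (.cons 4 0x90600 (.cons 2 0x20200 (.cons 1 0x4404 .nil)))))))))), ([3, 3, 3, 0, 2, 1, 2], (.cons 1 0x401010 (.cons 2 0x310330 (.cons 4 0xa0600 (.cons 8 0x67 (.cons 16 0x3f (.cons 8 0xf (.cons 4 0x600 (.cons 2 0x300 (.cons 1 0x554550 .nil)))))))))), ([3, 4, 2, 4, 3, 4, 3], (.cons 1 0x410110 (.cons 2 0x332200 (.cons 4 0x50f08 (.cons 8 0x84 (.cons 16 0xbc (.cons 8 0x2c (.cons 4 0xa0000 (.cons 2 0x312200 (.cons 1 0x51100 .nil)))))))))), ([0, 2, 2, 2, 0, 2, 1, 3], (.cons 1 0x440 (.cons 2 0x12330 (.cons 4 0x100 (.cons 8 0x26 (.cons 16 0x56 (.cons 8 0x16 (.cons 4 0x60500 (.cons 2 0x20000 (.cons 1 0x401440 .nil)))))))))), ([2, 2, 2, 5, 3, 4, 4], (.cons 1 0x555000 (.cons 2 0x121330 (.cons 4 0xc0600 (.cons 8 0xad (.cons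 16 0x7d (.cons 8 0xd (.cons 4 0x40f00 (.cons 2 0x12000 (.cons 1 0x440500 .nil)))))))))), ([5, 7, 7, 4, 6, 4, 6, 4, 7, 4, 4], (.cons 1 0x54110 (.cons 2 0x330110 (.cons 4 0x30d00 (.cons 8 0xa4 (.cons 16 0xb4 (.cons 8 0x94 (.cons 4 0x30000 (.cons 2 0x211100 (.cons 1 0x405100 .nil)))))))))), ([2, 5, 3, 4, 1, 1], (.cons 1 0x414140 (.cons 2 0x103120 (.cons 4 0x300 (.cons 8 0xcd (.cons 16 0xad (.cons 8 0x8d (.cons 4 0x40400 (.cons 2 0x112200 (.cons 1 0x50140 .nil)))))))))), ([3, 7, 4, 4, 6, 4, 6, 5], (.cons 1 0x544140 (.cons 2 0x221200 (.cons 4 0x30700 (.cons 8 0xf1 (.cons 16 0x91 (.cons 8 0x11 (.cons 2 0x311200 (.cons 1 0x544140 .nil))))))))), ([8, 5, 8, 8, 8, 7, 7, 4, 6, 9], (.cons 1 0x141400 (.cons 2 0x333300 (.cons 4 0x600 (.cons 8 0x9a (.cons 16 0x5a (.cons 8 0x1a (.cons 4 0x60800 (.cons 2 0x111000 (.cons 1 0x505400 .nil)))))))))), ([3, 0, 0, 5, 0, 5, 0, 3], (.cons 1 0x141400 (.cons 2 0x333300 (.cons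 4 0x600 (.cons 8 0x9a (.cons 16 0x5a (.cons 8 0x1a (.cons 4 0x60800 (.cons 2 0x111000 (.cons 1 0x505400 .nil))))))))))] [19, 20, 21, 18, 17, 16, 15, 14, 13, 12, 11, 10, 9, 8, 7, 6, 5, 4, 3, 2, 1, 0] [(0, 1, 3), (2, 1, 8), (1, 2, 2), (3, 1, 2), (4, 1, 3), (5, 2, 3), (6, 2, 1)] (by decide +kernel)

/-- inverse of a letter -/
def iv (g : ℕ) : ℕ := if g = 1 then 2 else if g = 2 then 1 else g

variable {G : Type} [Group G] {a b : G}

theorem ev_iv (h : a * a = 1) (w : List ℕ) : ev [a, b, b⁻¹] (w.map iv).reverse = (ev [a, b, b⁻¹] w)⁻¹ := by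
  induction w with
  | nil => simp [ev_nil]
  | cons g w ih =>
    rw [List.map_cons, List.reverse_cons, ev_append, ih, ev_cons (w := w), mul_inv_rev, ev_single]
    congr 1
    rcases g with _ | _ | _ | g
    · exact eq_inv_of_mul_eq_one_right h
    · rfl
    · simp [iv]
    · simp [iv]

theorem rels7 (h1 : a ^ 2 = 1) (h2 : b ^ 3 = 1) (h3 : (a * b) ^ 23 = 1) (h4 : (a⁻¹ * b⁻¹ * a * b) ^ 12 = 1)
    (h5 : (a⁻¹ * (b * a * b)⁻¹ * a * (b * a * b)) ^ 5 = 1) (h6 : (a * b * ((a * b * a * (b⁻¹)) ^ 3)) ^ 4 = 1)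
    (h7 : ((a * b * a * b * a * (b⁻¹)) ^ 3) * ((a * b * a * (b⁻¹) * a * (b⁻¹)) ^ 3) = 1) :
    Rels [a, b, b⁻¹] j4m_R := by
  have hX : a⁻¹ = a := inv_eq_of_mul_eq_one_right (by rwa [← sq])
  simp only [mul_inv_rev, hX, pow_succ, pow_zero, one_mul, mul_assoc] at h1 h2 h3 h4 h5 h6 h7
  simp only [Rels, j4m_R, List.forall_mem_cons, ev_cons, ev_nil, List.getD_cons_zero, List.getD_cons_succ, mul_one]
  simp [h1, h2, h3, h4, h5, h6, h7]

theorem pows (hr : Rels [a, b, b⁻¹] j4m_R) : a * a = 1 ∧ b ^ 3 = 1 ∧ (a * b) ^ 23 = 1 := by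
  have h1 := hr [0, 0] (by decide +kernel)
  have h2 := hr (pwW 3 [1]) (by decide +kernel)
  have h3 := hr (pwW 23 [0, 1]) (by decide +kernel)
  rw [ev_pwW] at h2 h3
  simp only [ev_cons, ev_nil, List.getD_cons_zero, List.getD_cons_succ, mul_one] at h1 h2 h3
  exact ⟨h1, h2, h3⟩

theorem triv (hr : Rels [a, b, b⁻¹] j4m_R) (ht : cl [a, b, b⁻¹] = ⊤) {A : Type} [Group A] (f : G →* A)
    (h : Commute (f a) (f b)) (g : G) : f g = 1 := by
  obtain ⟨h1, h2, h3⟩ := pows hr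
  have e1 : f a ^ 2 = 1 := by rw [sq, ← map_mul, h1, map_one]
  have e2 : f b ^ 3 = 1 := by rw [← map_pow, h2, map_one]
  have e3 : (f a * f b) ^ 23 = 1 := by rw [← map_mul, ← map_pow, h3, map_one]
  have e4 : (f a * f b) ^ 24 = 1 := by
    rw [h.mul_pow, show 24 = 2 * 12 from rfl, pow_mul, e1, show 2 * 12 = 3 * 8 from rfl, pow_mul, e2]; simp
  rw [pow_succ, e3, one_mul] at e4
  have e5 : f b ^ 2 = 1 := by rw [eq_inv_of_mul_eq_one_right e4, inv_pow, e1, inv_one]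
  rw [pow_succ, e5, one_mul] at e2
  rw [e2, mul_one] at e4
  refine (show (⊤ : Subgroup G) ≤ f.ker from ht ▸ cl_le ?_) (Subgroup.mem_top g)
  simp [e2, e4]

theorem comm (hr : Rels [a, b, b⁻¹] j4m_R) (ht : cl [a, b, b⁻¹] = ⊤) (σ : G →* MM) (hs : Function.Surjective σ)
    (ha : σ a = z2b) {v : G} (hv : σ v = 1) : v * a * v⁻¹ = a := by
  obtain ⟨e, h0, he⟩ := j4m_cert.acts (Ω := Via (MulAut.conj : G →* MulAut G) G) (xs := [a, b, b⁻¹]) rfl
    (j4m_i2 G _ rfl hr) a fun w hw => by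
      have := j4m_i1 G _ rfl hr (0 :: (w ++ 0 :: (w.map iv).reverse))
        ((by decide +kernel : ∀ w ∈ j4m_Sb, 0 :: (w ++ 0 :: (w.map iv).reverse) ∈ j4m_W1) w hw)
      rw [ev_cons, ev_append, ev_cons, ev_iv (pows hr).1, ← mul_assoc (ev _ w)] at this
      exact (eq_inv_of_mul_eq_one_right this).trans (inv_eq_of_mul_eq_one_right (pows hr).1)
  let O : Set G := Set.range fun g : G => g * a * g⁻¹
  have hsub : O ⊆ (e : ℕ → G) '' Set.Iio 31878 := by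
    rintro _ ⟨g, rfl⟩
    obtain ⟨i, hi, h⟩ := acts_smul_mem he (ht ▸ Subgroup.mem_top g) (show 0 < 31878 by norm_num)
    exact ⟨i, hi, by rw [← h, h0]; rfl⟩
  have hfin : ((e : ℕ → G) '' Set.Iio 31878).Finite := (Set.finite_Iio _).image _
  have h1 : O.ncard ≤ 31878 :=
    (Set.ncard_le_ncard hsub hfin).trans ((Set.ncard_image_le (Set.finite_Iio _)).trans (by simp))
  have h2 : σ '' O = orbit (ConjAct MM) z2b := by
    ext g
    constructor
    · rintro ⟨_, ⟨k, rfl⟩, rfl⟩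
      exact ⟨ConjAct.toConjAct (σ k), by simp [ConjAct.smul_def, ha]⟩
    · rintro ⟨k, rfl⟩
      obtain ⟨k, hk⟩ := hs (ConjAct.ofConjAct k)
      exact ⟨_, ⟨k, rfl⟩, by simp [ConjAct.smul_def, ha, hk]⟩
  have h3 : (σ '' O).ncard = 31878 := by
    have := (stabilizer (ConjAct MM) z2b).card_mul_index
    rw [index_stabilizer, ← Subgroup.nat_card_centralizer_nat_card_stabilizer, card_cent_z2b,
      show Nat.card (ConjAct MM) = _ from card_MM] at this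
    rw [h2]; omega
  have hf := hfin.subset hsub
  refine Set.injOn_of_ncard_image_eq (le_antisymm (Set.ncard_image_le hf) (h3 ▸ h1)) hf ⟨v, rfl⟩ ⟨1, by simp⟩ ?_
  simp [hv]

theorem inj (hr : Rels [a, b, b⁻¹] j4m_R) (ht : cl [a, b, b⁻¹] = ⊤) (σ : G →* MM) (hs : Function.Surjective σ)
    (ha : σ a = z2b) : Function.Injective σ := by
  have hc : σ.ker ≤ Subgroup.center G := fun v hv => Subgroup.mem_center_iff.2 fun g => by
    let C := Subgroup.centralizer (σ.ker : Set G)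
    have haC : a ∈ C := fun u hu => mul_inv_eq_iff_eq_mul.1 (comm hr ht σ hs ha hu)
    have := triv hr ht (QuotientGroup.mk' C) (by
      rw [show QuotientGroup.mk' C a = 1 from (QuotientGroup.eq_one_iff _).2 haC]; exact Commute.one_left _) g
    exact ((QuotientGroup.eq_one_iff _).1 this v hv).symm
  have hp : ∀ g, g ∈ commutator G := fun g => by
    rw [← Abelianization.ker_of]; exact triv hr ht _ (Commute.all _ _) g
  choose s hs' using hs
  have key : ∀ g, ∃ z ∈ Subgroup.center G, g = s (σ g) * z := fun g =>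
    ⟨(s (σ g))⁻¹ * g, hc (by simp [MonoidHom.mem_ker, hs']), by simp⟩
  have : Finite (commutatorSet G) := by
    refine Set.Finite.subset (Set.finite_range fun p : MM × MM => ⁅s p.1, s p.2⁆) ?_
    rintro _ ⟨g, h, rfl⟩
    obtain ⟨y, hy, e1⟩ := key g
    obtain ⟨z, hz, e2⟩ := key h
    refine ⟨(σ g, σ h), ?_⟩
    rw [Subgroup.mem_center_iff] at hy hz
    conv_rhs => rw [e1, e2]
    simp only [commutatorElement_def, mul_inv_rev]
    rw [mul_assoc _ y, ← hy, mul_assoc _ (_ * z * y), mul_assoc _ y, mul_inv_cancel_left, mul_assoc (s (σ h)) z, ← hz]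
    group
  have : Finite G := Finite.of_surjective (fun g : commutator G => (g : G)) fun g => ⟨⟨g, hp g⟩, rfl⟩
  obtain ⟨π, hπ⟩ := Cfsg.Agent.S2038.result.2 G σ ⟨fun g => ⟨_, hs' g⟩, hc, fun g _ => hp g⟩
  rw [← MonoidHom.ker_eq_bot_iff, eq_bot_iff]
  intro v hv
  obtain ⟨k, hk⟩ := hπ ⟨v, hv⟩
  rw [Subsingleton.elim k 1, map_one] at hk
  exact congrArg Subtype.val hk.symm

theorem mcl {H K : Type} [Group H] [Group K] (f : H →* K) (xs : List H) : (cl xs).map f = cl (xs.map f) := by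
  rw [cl, MonoidHom.map_closure]
  congr 1
  ext g
  simp

theorem iso (hr : Rels [a, b, b⁻¹] j4m_R) (h1 : a ≠ 1) : Nonempty (cl [a, b] ≃* MM) := by
  obtain ⟨z, m, hz, hm, hm'⟩ : ∃ z m : MM, z = z2b ∧ Rels [z, m, m⁻¹] j4m_R ∧ cl [z, m, m⁻¹] = ⊤ :=
    ⟨z2b, my, rfl, mN_eq ▸ mN_rels, mN_eq ▸ mN_top⟩
  let Γ := cl [(a, z), (b, m), (b, m)⁻¹]
  let A : Γ := ⟨(a, z), mem_cl List.mem_cons_self⟩
  let B : Γ := ⟨(b, m), mem_cl (List.mem_cons_of_mem _ List.mem_cons_self)⟩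
  have hR : Rels [A, B, B⁻¹] j4m_R := fun w hw => Subtype.ext ((ev_map Γ.subtype _ w).symm.trans (by
    have := ev_zip (xs := [a, b, b⁻¹]) (ys := [z, m, m⁻¹]) rfl w
    rw [hr w hw, hm w hw] at this
    exact this))
  have ht : cl [A, B, B⁻¹] = ⊤ := by
    apply Subgroup.map_injective Γ.subtype_injective
    rw [← MonoidHom.range_eq_map, Subgroup.range_subtype, mcl]; rfl
  let σ : Γ →* MM := (MonoidHom.snd _ _).comp Γ.subtype
  let π : Γ →* G := (MonoidHom.fst _ _).comp Γ.subtype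
  have hs : Function.Surjective σ := MonoidHom.range_eq_top.1 (by
    rw [MonoidHom.range_eq_map, ← ht, mcl]; exact hm')
  let e := MulEquiv.ofBijective σ ⟨inj hR ht σ hs hz, hs⟩
  have := simple_MM
  have := e.isSimpleGroup
  have hπ : Function.Injective π := by
    rw [← MonoidHom.ker_eq_bot_iff]
    refine (π.normal_ker.eq_bot_or_eq_top).resolve_right fun h => h1 ?_
    exact (show A ∈ π.ker from h ▸ Subgroup.mem_top A)
  have hg : π.range = cl [a, b] := by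
    rw [MonoidHom.range_eq_map, ← ht, mcl]
    change cl [a, b, b⁻¹] = _
    refine le_antisymm (cl_le ?_) (cl_le fun g hg => mem_cl ?_)
    · simp only [List.forall_mem_cons]
      exact ⟨mem_cl (by simp), mem_cl (by simp), inv_mem (mem_cl (by simp)), by simp⟩
    · simp only [List.mem_cons, List.not_mem_nil, or_false] at hg
      rcases hg with rfl | rfl <;> simp
  exact ⟨((MulEquiv.subgroupCongr hg).symm.trans (MonoidHom.ofInjective hπ).symm).trans e⟩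

end H7.J4
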