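import Mathlib
import Cfsg.Prelude.Def_Classical

/-! Set-up for the identification of `PSp4(3)` by an involution centralizer. -/

set_option autoImplicit false

namespace H7J

abbrev S := Matrix.SpecialLinearGroup (Fin 2) (ZMod 3)

/-- The wreath product `SL2(3) wr 2`. -/
@[ext] structure P where
  a : S
  b : S
  s : Bool
  deriving Fintype

instance : DecidableEq P := fun x y => decidable_of_iff (x.a = y.a ∧ x.b = y.b ∧ x.s = y.s) P.ext_iff.symm

instance : Group P where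
  mul x y := if x.s then ⟨x.a * y.b, x.b * y.a, !y.s⟩ else ⟨x.a * y.a, x.b * y.b, y.s⟩
  one := ⟨1, 1, false⟩
  inv x := if x.s then ⟨x.b⁻¹, x.a⁻¹, true⟩ else ⟨x.a⁻¹, x.b⁻¹, false⟩
  mul_assoc := by
    rintro ⟨a, b, _ | _⟩ ⟨c, d, _ | _⟩ ⟨e, f, _ | _⟩ <;> exact P.ext (mul_assoc _ _ _) (mul_assoc _ _ _) rfl
  one_mul := by rintro ⟨a, b, s⟩; exact P.ext (one_mul _) (one_mul _) rfl
  mul_one := by rintro ⟨a, b, _ | _⟩ <;> exact P.ext (mul_one _) (mul_one _) rfl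
  inv_mul_cancel := by rintro ⟨a, b, _ | _⟩ <;> exact P.ext (inv_mul_cancel _) (inv_mul_cancel _) rfl

def qi : S := ⟨!![0, 1; 2, 0], by decide⟩
def qj : S := ⟨!![1, 1; 1, 2], by decide⟩
def qk : S := qi * qj
def qw : S := ⟨!![1, 1; 0, 1], by decide⟩
def k0 : P := ⟨-1, -1, false⟩
def z0 : P := ⟨1, -1, false⟩
def tq (q : S) : P := ⟨q, q⁻¹, true⟩
/-- The five points of the line `V`. -/
def pt : Fin 5 → P := ![z0, tq 1, tq qi, tq qj, tq qk]
def a0 : P := pt 1 * pt 2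

variable {G : Type*} [Group G]

structure Hy (ψ : P →* G) : Prop where
  ker : ∀ p, ψ p = 1 ↔ p = 1 ∨ p = k0
  cz : ∀ g, g * ψ z0 = ψ z0 * g ↔ g ∈ ψ.range

structure H2 (ψ : P →* G) : Prop extends Hy ψ where
  na : ¬ IsConj (ψ z0) (ψ a0)
  nb : ¬ IsConj (ψ z0) (ψ (pt 1 * z0))
  nv : ∀ σ : Equiv.Perm (Fin 5), Equiv.Perm.sign σ = 1 → ∃ n : G, ∀ i, n * ψ (pt i) * n⁻¹ = ψ (pt (σ i))

def KA (ψ : P →* G) : Prop :=
  ∀ x, IsConj (ψ z0) x → x * ψ a0 = ψ a0 * x → ∃ i, x = ψ (pt i)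

/-- The relations of the reflection group `G33`. -/
structure R33 (s t u v w : G) : Prop where
  ss : s * s = 1
  tt : t * t = 1
  uu : u * u = 1
  vv : v * v = 1
  ww : w * w = 1
  st : (s * t) ^ 3 = 1
  tu : (t * u) ^ 3 = 1
  uv : (u * v) ^ 3 = 1
  tw : (t * w) ^ 3 = 1
  uw : (u * w) ^ 3 = 1
  su : s * u = u * s
  sv : s * v = v * s
  sw : s * w = w * s
  tv : t * v = v * t
  vw : v * w = w * v
  tr : (u * t * u * w) ^ 3 = 1

theorem card_P : Nat.card P = 1152 := by rw [Nat.card_eq_fintype_card]; decide +kernel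

end H7J
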