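import Cfsg.Agent.H7.J4o
import Cfsg.Agent.H7.J4c
import Cfsg.Agent.H29.J4m2
import Cfsg.Agent.H1.Crit

/-! The presented group `J4` is simple of the right order. -/

set_option autoImplicit false

namespace H7.JD
open H27 H28 Cfsg Cfsg.Spor H29.J4m Subgroup
open scoped commutatorElement

theorem j_top : closure {jx, jy, jt} = ⊤ := by
  rw [← PresentedGroup.closure_range_of]
  congr 1
  ext g
  constructor
  · rintro (rfl | rfl | rfl) <;> exact ⟨_, rfl⟩
  · rintro ⟨i, rfl⟩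
    cases i <;> simp

theorem j_bd : ((closure {jx, jy, je}).index ≠ 0 ∧ (closure {jx, jy, je}).index ≤ 173067389) ∧
    Bd (closure {jx, jy, je}) (2048 * 244823040) := by
  have h : ∀ r ∈ J4.extra, PresentedGroup.mk (coxRelators J4.edges ∪ {r | r ∈ J4.extra}) r = 1 :=
    fun r hr => PresentedGroup.one_of_mem (Or.inr hr)
  simp only [J4.extra, List.forall_mem_cons, map_mul, map_pow, map_inv] at h
  obtain ⟨h1, h2, h3, h4, h5, h6, h7, h8, h9, h10, h11, h12, -⟩ := h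
  exact ⟨up h1 h2 h3 h4 h5 h6 h7 h8 h9 h10 h11 h12 j_top _ (subset_closure (Or.inl rfl))
    (subset_closure (Or.inr (Or.inl rfl))) (subset_closure (Or.inr (Or.inr rfl))), bd h1 h2 h3 h4 h5 h6 h7 h8 h9 h10 h11 h12⟩

theorem j_core {M : Type} [Group M] (φ : J4 →* M)
    (hp : ∀ p ∈ [29,31,37,43], ∃ g : J4, φ g ^ p = 1 ∧ ¬ Commute (φ g) (φ jx)) {a b : J4}
    (a1 : φ a ^ 11 = 1) (a2 : φ b ^ 11 = 1) (a3 : φ ⁅a,b⁆ ^ 11 = 1) (a4 : Commute (φ ⁅a,b⁆) (φ a))
    (a5 : Commute (φ ⁅a,b⁆) (φ b)) (a6 : ¬ Commute (φ ⁅a,b⁆) (φ jx)) (hex : ¬ Commute (φ je) (φ jx))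
    (hgen : ∀ N : Subgroup J4, N.Normal → φ.ker ≤ N → je ∈ N → N = ⊤) {E : Subgroup M} (hE : Nat.card E = 2 ^ 11)
    (heE : φ je ∈ E) (hEl : E ≤ (Subgroup.closure {jx, jy, je}).map φ) (hxE : φ jx ∈ Subgroup.normalizer (E : Set M))
    (hyE : φ jy ∈ Subgroup.normalizer (E : Set M)) :
    (closure {jx, jy, je}).index = 173067389 ∧ IsJ4 J4 ∧ Function.Injective φ := by
  obtain ⟨⟨i0, i1⟩, hf, hb⟩ := j_bd
  have hcJ := (closure {jx, jy, je}).card_mul_index
  have : Finite J4 := Nat.finite_of_card_ne_zero (hcJ ▸ Nat.mul_ne_zero Nat.card_pos.ne' i0)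
  let ψ := φ.rangeRestrict
  have hs : Function.Surjective ψ := φ.rangeRestrict_surjective
  have hv : ∀ {g h : φ.range}, Commute g h ↔ Commute (g : M) h := fun {g h} =>
    ⟨fun c => c.map φ.range.subtype, fun c => Commute.of_map φ.range.subtype_injective c⟩
  have : Finite φ.range := Finite.of_surjective _ hs
  obtain ⟨e⟩ := H7.J4.main
  have := simple_MM
  have ks := e.isSimpleGroup
  let K0 := cl [jx, jy]
  have hx0 : jx ∈ K0 := mem_cl (by simp)
  have hinj : Function.Injective (ψ.comp K0.subtype) := by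
    rw [← MonoidHom.ker_eq_bot_iff]
    refine ((ψ.comp K0.subtype).normal_ker.eq_bot_or_eq_top).resolve_right fun h => hex ?_
    have : ψ jx = 1 := (show (⟨jx, hx0⟩ : K0) ∈ (ψ.comp K0.subtype).ker from h ▸ mem_top _)
    rw [show φ jx = 1 from congrArg Subtype.val this]
    exact Commute.one_right _
  let K := (ψ.comp K0.subtype).range
  let eK : K0 ≃* K := MonoidHom.ofInjective hinj
  have hKs : IsSimpleGroup K := eK.symm.isSimpleGroup
  have hK : Nat.card K = 244823040 := by rw [← Nat.card_congr eK.toEquiv, Nat.card_congr e.toEquiv, card_MM]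
  have hxK : ψ jx ∈ K := ⟨⟨jx, hx0⟩, rfl⟩
  have hyK : ψ jy ∈ K := ⟨⟨jy, mem_cl (by simp)⟩, rfl⟩
  have hEr : E ≤ φ.range := hEl.trans (map_le_range _ _)
  let E' := E.subgroupOf φ.range
  have hE' : Nat.card E' = 2 ^ 11 := by rw [← hE]; exact Nat.card_congr (subgroupOfEquivOfLe hEr).toEquiv
  have hKE : K ≤ normalizer (E' : Set φ.range) := by
    rintro _ ⟨⟨k, hk⟩, rfl⟩
    have : φ k ∈ normalizer (E : Set M) := cl_le (H := (normalizer (E : Set M)).comap φ) (by simp [hxE, hyE]) hk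
    exact mem_normalizer_iff.2 fun g => mem_normalizer_iff.1 this g
  have hH : E' ⊔ K = (closure {jx, jy, je}).map ψ := by
    refine le_antisymm (sup_le (fun g hg => ?_) ?_) ?_
    · obtain ⟨k, hk, h⟩ := hEl hg
      exact ⟨k, hk, Subtype.ext h⟩
    · rintro _ ⟨⟨k, hk⟩, rfl⟩
      exact ⟨k, cl_le (H := closure {jx, jy, je}) (by
        simp only [List.forall_mem_cons]
        exact ⟨subset_closure (by simp), subset_closure (by simp), by simp⟩) hk, rfl⟩
    · rw [map_le_iff_le_comap, closure_le]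
      rintro _ (rfl | rfl | rfl)
      exacts [mem_sup_right hxK, mem_sup_right hyK, mem_sup_left heE]
  have nc : ∀ {g : J4}, ¬ Commute (φ g) (φ jx) → ψ g ∉ center φ.range := fun {g} h c =>
    h (hv.1 (mem_center_iff.1 c (ψ jx)).symm)
  have hp' : ∀ p ∈ [29, 31, 37, 43], ∃ g : φ.range, g ^ p = 1 ∧ g ∉ center φ.range := fun p h =>
    let ⟨g, g1, g2⟩ := hp p h; ⟨ψ g, Subtype.ext g1, nc g2⟩
  have h11 : ∃ a b : φ.range, a ^ 11 = 1 ∧ b ^ 11 = 1 ∧ ⁅a, b⁆ ^ 11 = 1 ∧ Commute ⁅a, b⁆ a ∧ Commute ⁅a, b⁆ b ∧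
      ⁅a, b⁆ ∉ center φ.range := ⟨ψ a, ψ b, Subtype.ext a1, Subtype.ext a2, by
    rw [← map_commutatorElement]
    exact ⟨Subtype.ext a3, hv.2 a4, hv.2 a5, nc a6⟩⟩
  have hl := H1.Crit.low K E' hK hE' hKE (fun p h => let ⟨g, g1, g2⟩ := hp' p h; ⟨g, g1, fun c => g2 (c ▸ one_mem _)⟩)
    (let ⟨a, b, h1, h2, h3, h4, h5, h6⟩ := h11; ⟨a, b, h1, h2, h3, h4, h5, fun c => h6 (c ▸ one_mem _)⟩)
  have hi : (closure {jx, jy, je}).index = 173067389 :=
    le_antisymm i1 (Nat.le_of_dvd (Nat.pos_of_ne_zero i0) (hl.trans (hH ▸ index_map_dvd _ hs)))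
  have hd : Disjoint E' K := by
    rw [disjoint_iff_inf_le]
    have hn : (E'.subgroupOf K).Normal := normal_subgroupOf_of_le_normalizer hKE
    rcases hn.eq_bot_or_eq_top with h | h
    · rw [← disjoint_iff_inf_le]; exact subgroupOf_eq_bot.1 h
    · have := card_le_of_le (subgroupOf_eq_top.1 h)
      rw [hK, hE'] at this; omega
  have h1 : 2 ^ 11 * 244823040 ≤ Nat.card (E' ⊔ K : Subgroup φ.range) := by
    rw [← hE', ← hK, ← Nat.card_prod]
    exact Nat.card_le_card_of_injective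
      (fun g : E' × K => (⟨g.1 * g.2, mul_mem (mem_sup_left g.1.2) (mem_sup_right g.2.2)⟩ : (E' ⊔ K : Subgroup _)))
      fun g h c => mul_injective_of_disjoint hd (congrArg Subtype.val c)
  have h2 : 86775571046077562880 ≤ Nat.card φ.range := by
    rw [← (E' ⊔ K).card_mul_index]
    exact le_trans (by norm_num) (Nat.mul_le_mul h1 (Nat.le_of_dvd (Nat.pos_of_ne_zero index_ne_zero_of_finite) hl))
  have h3 : Nat.card J4 ≤ 86775571046077562880 := by
    rw [← hcJ]; exact (Nat.mul_le_mul hb i1).trans (by norm_num)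
  have h4 := Nat.card_le_card_of_surjective _ hs
  have hb' : Function.Bijective ψ := hs.bijective_of_nat_card_le (h3.trans h2)
  have hsim : IsSimpleGroup φ.range := H1.Crit.crit (le_antisymm (h4.trans h3) h2) K E' hKs hK hE' hKE
    (fun c => hex (hv.1 (c hxK (ψ je) heE))) (fun N hN hEN => by
      have := hgen (N.comap ψ) (hN.comap ψ) (fun g hg => by
        rw [mem_comap, show ψ g = 1 from Subtype.ext hg]; exact one_mem _) (hEN heE)
      rw [← map_comap_eq_self_of_surjective hs N, this, ← MonoidHom.range_eq_map, MonoidHom.range_eq_top.2 hs]) hp' h11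
  exact ⟨hi, ⟨(MulEquiv.ofBijective ψ hb').isSimpleGroup, le_antisymm h3 (h2.trans h4)⟩,
    fun g h c => hb'.1 (Subtype.ext c)⟩

theorem j_main : (closure {jx, jy, je}).index = 173067389 ∧ IsJ4 J4 ∧
    ∃ φ : J4 →* GL (Fin 112) (ZMod 2), Function.Injective φ := by
  obtain ⟨φ, hp, ⟨a, b, a1, a2, a3, a4, a5, a6⟩, hex, hgen, E, hE, heE, hEl, hxE, hyE⟩ := mat
  obtain ⟨h1, h2, h3⟩ := j_core φ hp a1 a2 a3 a4 a5 a6 hex hgen hE heE hEl hxE hyE
  exact ⟨h1, h2, φ, h3⟩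

end H7.JD
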