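import Cfsg.Agent.H6.ZS
import Cfsg.Agent.H1.FTLib
import Cfsg.Agent.H1.Super
import Cfsg.Agent.H7.PGrp

/-! Groups with cyclic Sylow 2-intersections. -/

set_option autoImplicit false
set_option linter.unusedSectionVars false

open Cfsg Subgroup
open scoped Pointwise

namespace H7

variable {G : Type*} [Group G] [Finite G]

theorem exists_sylow_ge_map_eq {p : ℕ} [Fact p.Prime] {G' : Type*} [Group G'] {f : G →* G'}
    (hf : Function.Surjective f) {D : Subgroup G} (hD : IsPGroup p D) (S' : Sylow p G')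
    (h : D.map f ≤ S') : ∃ S : Sylow p G, D ≤ S ∧ (S : Subgroup G).map f = S' := by
  have : Finite G' := Finite.of_surjective f hf
  obtain ⟨P, hP, hDP⟩ := H1.exists_sylowOf_ge (map_le_iff_le_comap.1 h) hD
  have h1 := H1.IsPiHallOf.map hP f
  rw [map_comap_eq_self_of_surjective hf] at h1
  have h2 := H1.IsPiHallOf.eq_of_le h1 le_rfl (H1.isPiNat_card_singleton_iff.2 S'.isPGroup') h1.1
  obtain ⟨S, hS⟩ := (H1.IsPiHallOf.isPGroup hP).exists_le_sylow
  exact ⟨S, hDP.trans hS, S'.is_maximal' (S.isPGroup'.map f) (h2.le.trans (map_mono hS))⟩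

theorem sylowInt_of_surjective {p : ℕ} [Fact p.Prime] {G' : Type*} [Group G'] {f : G →* G'}
    (hf : Function.Surjective f) {S' T' : Sylow p G'} (h : S' ≠ T') :
    ∃ S T : Sylow p G, S ≠ T ∧ ∃ D ≤ (S : Subgroup G) ⊓ T, D.map f = (S' : Subgroup G') ⊓ T' := by
  obtain ⟨D, hD, e⟩ := H1.exists_isPGroup_map_eq hf
    (S'.isPGroup'.to_le (inf_le_left : (S' : Subgroup G') ⊓ T' ≤ S'))
  obtain ⟨S, a1, a2⟩ := exists_sylow_ge_map_eq hf hD S' (e ▸ inf_le_left)
  obtain ⟨T, b1, b2⟩ := exists_sylow_ge_map_eq hf hD T' (e ▸ inf_le_right)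
  exact ⟨S, T, fun h1 => h (Sylow.ext (by rw [← a2, ← b2, h1])), D, le_inf a1 b1, e⟩

/-- cyclic Sylow 2-intersections -/
def CI (G : Type*) [Group G] : Prop :=
  ∀ S T : Sylow 2 G, S ≠ T → IsCyclic ((S : Subgroup G) ⊓ (T : Subgroup G) : Subgroup G)

theorem CI.of_surjective (h : CI G) {G' : Type*} [Group G'] {f : G →* G'}
    (hf : Function.Surjective f) : CI G' := fun S' T' hne => by
  obtain ⟨S, T, h1, D, h2, e⟩ := sylowInt_of_surjective hf hne
  have := h S T h1
  have := isCyclic_of_le h2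
  rw [← e]
  exact isCyclic_of_surjective _ (f.subgroupMap_surjective D)

theorem isPGroup_quot_cyclic_two {V : Subgroup G} (hV : IsPGroup 2 V) (hc : IsCyclic V) {x : G}
    (hx : x ∈ normalizer (V : Set G)) : ∃ k, x ^ 2 ^ k ∈ centralizer (V : Set G) := by
  obtain ⟨n, hn⟩ := hV.exists_card_eq
  have h1 : IsPGroup 2 (MulAut V) := by
    rcases n with _ | n
    · exact IsPGroup.of_card (n := 0) (by rw [IsCyclic.card_mulAut, hn]; rfl)
    · exact IsPGroup.of_card (n := n) (by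
        rw [IsCyclic.card_mulAut, hn, Nat.totient_prime_pow_succ Nat.prime_two]; simp)
  obtain ⟨k, hk⟩ := h1 (V.normalizerMonoidHom ⟨x, hx⟩)
  refine ⟨k, ?_⟩
  rw [← map_pow, ← MonoidHom.mem_ker, normalizerMonoidHom_ker, mem_subgroupOf] at hk
  exact hk

theorem mem_of_pow_mem_of_odd {X : Subgroup G} {x : G} (hx : Odd (orderOf x)) {k : ℕ}
    (h : x ^ 2 ^ k ∈ X) : x ∈ X := by
  obtain ⟨m, hm⟩ := exists_pow_eq_self_of_coprime
    (Nat.Coprime.pow_left k (Nat.coprime_two_left.2 hx))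
  exact hm ▸ X.pow_mem h m

theorem cent_of_odd_cyclic_two {V : Subgroup G} (hV : IsPGroup 2 V) (hc : IsCyclic V) {x : G}
    (hx : x ∈ normalizer (V : Set G)) (ho : Odd (orderOf x)) : x ∈ centralizer (V : Set G) :=
  let ⟨_, hk⟩ := isPGroup_quot_cyclic_two hV hc hx
  mem_of_pow_mem_of_odd ho hk

/-- `x` lies in at most one Sylow 2-subgroup -/
def UniqS (x : G) : Prop := ∀ S T : Sylow 2 G, x ∈ (S : Subgroup G) → x ∈ (T : Subgroup G) → S = T

theorem mem_sylow_of_mem_normalizer {p : ℕ} (S : Sylow p G) {x : G} {k : ℕ} (hx : x ^ p ^ k = 1)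
    (h : x ∈ normalizer ((S : Subgroup G) : Set G)) : x ∈ (S : Subgroup G) :=
  (((H6.isPGroup_zpowers hx).inf_normalizer_sylow S).le ⟨mem_zpowers x, h⟩).2

theorem UniqS.mem_normalizer {x g : G} (h : UniqS x) {S : Sylow 2 G} (hx : x ∈ (S : Subgroup G))
    (hg : g⁻¹ * x * g ∈ (S : Subgroup G)) : g ∈ normalizer ((S : Subgroup G) : Set G) :=
  Sylow.smul_eq_iff_mem_normalizer.1 (h _ _ ((H6.mem_sylow_smul S g x).2 hg) hx)

theorem UniqS.conj {x y : G} (h : UniqS x) (hc : IsConj x y) : UniqS y := by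
  obtain ⟨g, rfl⟩ := isConj_iff.1 hc
  intro S T h1 h2
  refine (MulAction.injective g⁻¹) (h _ _ ?_ ?_)
  · exact (H6.mem_sylow_smul S g⁻¹ x).2 (by simpa using h1)
  · exact (H6.mem_sylow_smul T g⁻¹ x).2 (by simpa using h2)

theorem UniqS.mem_of_commute {x z : G} (h : UniqS x) {S : Sylow 2 G} (hx : x ∈ (S : Subgroup G))
    (hz : orderOf z = 2) (hc : Commute z x) : z ∈ (S : Subgroup G) :=
  mem_sylow_of_mem_normalizer S (k := 1) (by rw [pow_one, ← hz, pow_orderOf_eq_one])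
    (h.mem_normalizer hx (by rwa [mul_assoc, ← hc.eq, inv_mul_cancel_left]))

theorem odd_or_exists_uniq {i : G} (hi : orderOf i = 2)
    (hA : ∀ y z, IsConj i y → orderOf z = 2 → Commute z y → IsConj i (y * z) → UniqS z)
    {a b : G} (ha : IsConj i a) (hb : IsConj i b) : Odd (orderOf (a * b)) ∨
      ∃ z ∈ zpowers (a * b), orderOf z = 2 ∧ Commute z a ∧ Commute z b ∧ UniqS z := by
  have a2 := H6.ord2_mul_self (H6.isConj_orderOf ha ▸ hi)
  have b2 := H6.ord2_mul_self (H6.isConj_orderOf hb ▸ hi)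
  refine (Nat.even_or_odd _).symm.imp_right fun he => ?_
  obtain ⟨h1, h2, h3⟩ := H6.exists_central_inv a2 b2 he
  refine ⟨_, pow_mem (mem_zpowers _) _, h1, h2, h3, hA a _ ha h1 h2 ?_⟩
  have h4 := fun k => H6.conj_pow_of_inverts (H6.inv_conj_mul a2 b2) k
  obtain ⟨k, hk | hk⟩ := Nat.even_or_odd' (orderOf (a * b) / 2)
  · refine ha.trans (isConj_iff.2 ⟨((a * b) ^ k)⁻¹, ?_⟩)
    rw [hk, inv_inv, ← h4 k, two_mul, pow_add]; group
  · refine hb.trans (isConj_iff.2 ⟨((a * b) ^ k)⁻¹, ?_⟩)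
    have e : b = a * (a * b) := by rw [← mul_assoc, a2, one_mul]
    rw [hk, inv_inv, ← h4 k, two_mul, pow_succ, pow_add]
    generalize a * b = r at *
    rw [e]; group

theorem wc_of_uniq (hCI : CI G) (S : Sylow 2 G) {i : G} (hi : orderOf i = 2)
    (hiS : i ∈ (S : Subgroup G)) (hU : UniqS i) {K : Subgroup G} (hK : Odd (Nat.card K))
    (hKS : (S : Subgroup G) ⊔ K = normalizer ((S : Subgroup G) : Set G))
    (hKi : K ≤ centralizer {i})
    (hA : ∀ y z, IsConj i y → orderOf z = 2 → Commute z y → IsConj i (y * z) → UniqS z)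
    {u : G} (hu : IsConj i u) (huS : u ∉ (S : Subgroup G)) : H6.WC (S : Subgroup G) i := by
  have h2 : ∀ {x}, IsConj i x → x * x = 1 := fun h => H6.ord2_mul_self (H6.isConj_orderOf h ▸ hi)
  obtain ⟨T, hT⟩ := (H6.isPGroup_zpowers_ord2 (h2 hu)).exists_le_sylow
  have huT : u ∈ (T : Subgroup G) := hT (mem_zpowers u)
  have hST : S ≠ T := fun h => huS (h ▸ huT)
  have hswap : ∀ x, IsConj i x → x ∈ (S : Subgroup G) →
      ∃ y, IsConj i y ∧ y * x * y⁻¹ = u ∧ y • S = T ∧ y • T = S := by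
    intro x hx hxS
    rcases odd_or_exists_uniq hi hA hx hu with ho | ⟨z, -, z1, z2, z3, z4⟩
    · obtain ⟨k, hk⟩ := H6.exists_pow_conj_of_odd (h2 hx) (h2 hu) ho
      obtain ⟨m, hm⟩ := H6.exists_sq_pow_of_odd (H6.odd_orderOf_pow ho k)
      have hy : IsConj i ((x * u) ^ k * x) := by
        refine hx.trans (isConj_iff.2 ⟨((x * u) ^ k) ^ m, ?_⟩)
        have := H6.conj_pow_of_inverts (H6.conj_pow_of_inverts (H6.inv_conj_mul (h2 hx) (h2 hu)) k) m
        conv_rhs => rw [← hm]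
        generalize ((x * u) ^ k) ^ m = R at this
        rw [← inv_inj, inv_inv] at this
        conv_rhs => rw [mul_assoc]; enter [2, 1]; rw [← this]
        group
      have e : (x * u) ^ k * x * x * ((x * u) ^ k * x)⁻¹ = u := by
        conv_rhs => rw [← hk]
        group
      have h3 : ((x * u) ^ k * x) • S = T := (hU.conj hu) _ _
        ((H6.mem_sylow_smul S _ u).2 (by
          generalize (x * u) ^ k * x = y at e
          rw [← e]; simpa [mul_assoc] using hxS)) huT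
      exact ⟨_, hy, e, h3, by rw [← h3, smul_smul, h2 hy, one_smul]⟩
    · exact absurd (z4 _ _ ((hU.conj hx).mem_of_commute hxS z1 z2)
        ((hU.conj hu).mem_of_commute huT z1 z3)) hST
  set Z := (S : Subgroup G) ⊓ (T : Subgroup G) with hZ
  have hZp : IsPGroup 2 Z := S.isPGroup'.to_le inf_le_left
  have hZc := hCI S T hST
  set E := normalizer ((S : Subgroup G) : Set G) ⊓ normalizer ((T : Subgroup G) : Set G) ⊓
    centralizer (Z : Set G) with hE
  have hZE : Z ≤ E := le_inf (inf_le_inf le_normalizer le_normalizer)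
    (le_centralizer_iff_isMulCommutative.2 inferInstance)
  have hEZ : E ≤ normalizer (Z : Set G) := inf_le_right.trans (centralizer_le_normalizer _)
  have hri : (Z.relIndex E).Coprime 2 := by
    refine ((Nat.Prime.coprime_iff_not_dvd Nat.prime_two).2
      (H1.isPiHallOf_singleton_iff.1 (H1.sylowOf_of_maximal hZE hZp fun Q a1 a2 a3 => ?_)).2.2).symm
    exact le_antisymm (le_inf
      ((le_inf le_rfl (a1.trans (inf_le_left.trans inf_le_left))).trans
        ((a2.inf_normalizer_sylow S).le.trans inf_le_right))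
      ((le_inf le_rfl (a1.trans (inf_le_left.trans inf_le_right))).trans
        ((a2.inf_normalizer_sylow T).le.trans inf_le_right))) a3
  obtain ⟨Q, q1, q2, q3, q4⟩ := H1.schurZassenhaus_exists hZE hEZ
    (H1.IsPGroup.coprime_card hZp hri)
  have hQo : (Nat.card Q).Coprime 2 := q4 ▸ hri
  have hEQ : E ≤ normalizer (Q : Set G) := q3 ▸ sup_le
    ((le_centralizer_iff.1 (q1.trans inf_le_right)).trans (centralizer_le_normalizer _))
    le_normalizer
  have hQi : ∀ d ∈ E, Odd (orderOf d) → d ∈ Q := by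
    intro d hd ho
    refine H1.le_of_coprime_relIndex (zpowers_le_of_mem hd) hEQ ?_ (mem_zpowers d)
    rw [← q3, H1.relIndex_sup_of_le_normalizer (hZE.trans hEQ), Nat.card_zpowers]
    exact (H1.IsPGroup.coprime_card hZp (Nat.coprime_two_right.2 ho)).symm.coprime_dvd_right
      (relIndex_dvd_card _ _)
  have htr : ∀ a b, IsConj i a → IsConj i b → a ∈ (S : Subgroup G) → b ∈ (S : Subgroup G) →
      ∃ d ∈ Q, d * a * d⁻¹ = b := by
    intro a b ha hb haS hbS
    obtain ⟨y, y1, y2, y3, y4⟩ := hswap a ha haS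
    obtain ⟨w, w1, w2, w3, w4⟩ := hswap b hb hbS
    have d1 : w * y ∈ normalizer ((S : Subgroup G) : Set G) :=
      Sylow.smul_eq_iff_mem_normalizer.1 (by rw [mul_smul, y3, w4])
    have d2 : w * y ∈ normalizer ((T : Subgroup G) : Set G) :=
      Sylow.smul_eq_iff_mem_normalizer.1 (by rw [mul_smul, y4, w3])
    have ho : Odd (orderOf (w * y)) := by
      refine (odd_or_exists_uniq hi hA w1 y1).resolve_right fun ⟨z, z0, z1, _, _, z4⟩ => hST ?_
      have z2 : z ^ 2 ^ 1 = 1 := by rw [pow_one, ← z1, pow_orderOf_eq_one]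
      exact z4 _ _ (mem_sylow_of_mem_normalizer S z2 (zpowers_le_of_mem d1 z0))
        (mem_sylow_of_mem_normalizer T z2 (zpowers_le_of_mem d2 z0))
    refine ⟨w * y, hQi _ ⟨⟨d1, d2⟩, cent_of_odd_cyclic_two hZp hZc (H1.le_normalizer_inf
      (zpowers_le_of_mem d1) (zpowers_le_of_mem d2) (mem_zpowers _)) ho⟩ ho, ?_⟩
    have : w * u * w⁻¹ = b := by
      rw [← w2, ← mul_assoc, ← mul_assoc, h2 w1, one_mul, mul_assoc, ← mul_inv_rev, h2 w1]; simp
    rw [← this, ← y2]; group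
  obtain ⟨s, hs, hsQ⟩ := H1.sz_conj_le (N := S) (A := K) (B := Q) (hKS ▸ le_sup_right)
    (H1.IsPGroup.coprime_card S.isPGroup' (Nat.coprime_two_right.2 hK))
    (H1.IsPGroup.coprime_card S.isPGroup' hQo)
    (hKS ▸ q1.trans (inf_le_left.trans inf_le_left))
  have hx0 : ∀ b, IsConj i b → b ∈ (S : Subgroup G) → b = s⁻¹ * i * s := by
    intro b hb hbS
    obtain ⟨d, hd, rfl⟩ := htr (s⁻¹ * i * s) b (isConj_iff.2 ⟨s⁻¹, by simp⟩) hb
      (mul_mem (mul_mem (inv_mem hs) hiS) hs) hbS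
    have := mem_centralizer_singleton_iff.1 (hKi (hsQ (H1.conj_mem_conj_smul hd)))
    calc _ = s⁻¹ * (s * d * s⁻¹ * i) * (s * d⁻¹) := by group
      _ = _ := by rw [this]; group
  refine ⟨hiS, fun g hg => ?_⟩
  rw [hx0 _ (isConj_iff.2 ⟨g, rfl⟩) hg, ← hx0 i (IsConj.refl i) hiS]

theorem isCyclic_pCore_of_CI (h : CI G) (hn : ¬ ∃ P : Sylow 2 G, (P : Subgroup G).Normal) :
    IsCyclic (pCore 2 G) := by
  obtain ⟨S⟩ : Nonempty (Sylow 2 G) := inferInstance
  obtain ⟨g, hg⟩ : ∃ g : G, g • S ≠ S := by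
    by_contra h1
    push Not at h1
    exact hn ⟨S, normalizer_eq_top_iff.1 (eq_top_iff.2 fun g _ =>
      Sylow.smul_eq_iff_mem_normalizer.1 (h1 g))⟩
  have := h _ _ hg
  exact isCyclic_of_le (le_inf (H1.pCore_le_sylow (g • S)) (H1.pCore_le_sylow S))

theorem isPGroup_of_solvable_of_cyclic (hO : pPrimeCore 2 G = ⊥) (hc : IsCyclic (pCore 2 G))
    (N : Subgroup G) [N.Normal] (hN : Group.IsSolvable N) : IsPGroup 2 N := by
  have h0 : pPrimeCore 2 N = ⊥ := by
    rw [← map_eq_bot_iff_of_injective _ N.subtype_injective, H1.map_pPrimeCore_subtype_eq, hO,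
      bot_inf_eq]
  have h1 : IsCyclic (pCore 2 N) := by
    have := isCyclic_of_le (H1.map_pCore_subtype_le 2 N)
    exact isCyclic_of_surjective _ (equivMapOfInjective _ _ N.subtype_injective).symm.surjective
  intro x
  obtain ⟨k, hk⟩ := isPGroup_quot_cyclic_two (H1.isPGroup_pCore 2) h1
    (le_normalizer_of_normal (mem_top x))
  obtain ⟨j, hj⟩ := H6.IsPGroup_pow_eq_one (H1.isPGroup_pCore 2) (H1.centralizer_pCore_le h0 hk)
  exact ⟨k + j, by rw [pow_add, pow_mul, hj]⟩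

theorem isSolvable_of_normal_sylow_two (P : Sylow 2 G) [(P : Subgroup G).Normal] :
    Group.IsSolvable G :=
  H1.isSolvable_of_normal_quotient P (by have := P.isPGroup'.isNilpotent; infer_instance)
    (H1.ft_not_two P.not_dvd_index)

theorem zpowers_eq_of_cyclic {W V : Subgroup G} (hW : IsPGroup 2 W) (hc : IsCyclic W)
    (hVW : V ≤ W) {z : G} (hz : z ∈ W) (hzV : z ∉ V) : V ≤ zpowers z := by
  obtain ⟨g, hg⟩ := hc.exists_generator
  intro v hv
  by_contra hn
  obtain ⟨a, ha⟩ := mem_powers_iff_mem_zpowers.2 (hg ⟨v, hVW hv⟩)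
  obtain ⟨b, hb⟩ := mem_powers_iff_mem_zpowers.2 (hg ⟨z, hz⟩)
  have ha' : (g : G) ^ a = v := congrArg Subtype.val ha
  have hb' : (g : G) ^ b = z := congrArg Subtype.val hb
  obtain ⟨k, hk⟩ := H6.IsPGroup_pow_eq_one hW g.2
  have key : ∀ (a : ℕ) (X : Subgroup G), (g : G) ^ a ∈ X → a ≠ 0 →
      (g : G) ^ 2 ^ a.factorization 2 ∈ X := by
    intro a X h1 h0
    have hc : (ordCompl[2] a).Coprime (orderOf ((g : G) ^ 2 ^ a.factorization 2)) :=
      ((Nat.coprime_ordCompl Nat.prime_two h0).symm.pow_right k).coprime_dvd_right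
        (orderOf_dvd_of_pow_eq_one (by rw [← pow_mul, mul_comm, pow_mul, hk, one_pow]))
    obtain ⟨m, hm⟩ := exists_pow_eq_self_of_coprime hc
    rw [← hm, ← pow_mul (g : G), Nat.ordProj_mul_ordCompl_eq_self]
    exact X.pow_mem h1 m
  have key2 : ∀ (a b : ℕ) (X : Subgroup G), (g : G) ^ a ∈ X → a ≠ 0 →
      a.factorization 2 ≤ b.factorization 2 → (g : G) ^ b ∈ X := by
    intro a b X h1 h0 h2
    obtain ⟨c, hc⟩ := (pow_dvd_pow 2 h2).trans (Nat.ordProj_dvd b 2)
    rw [hc, pow_mul]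
    exact X.pow_mem (key a X h1 h0) c
  have a0 : a ≠ 0 := by rintro rfl; exact hn (by rw [← ha', pow_zero]; exact one_mem _)
  have b0 : b ≠ 0 := by rintro rfl; exact hzV (by rw [← hb', pow_zero]; exact one_mem _)
  rcases le_total (a.factorization 2) (b.factorization 2) with h | h
  · exact hzV (hb' ▸ key2 a b V (ha' ▸ hv) a0 h)
  · exact hn (ha' ▸ key2 b a _ (hb' ▸ mem_zpowers _) b0 h)

theorem CI.le_zpowers (h : CI G) {H : Type*} [Group H] {π : G →* H} (hπ : Function.Surjective π)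
    (hk : π.ker ≤ pCore 2 G) {z : G} (hz : z ∉ π.ker) (h1 : ¬ UniqS (π z)) :
    π.ker ≤ zpowers z := by
  simp only [UniqS, not_forall] at h1
  obtain ⟨S', T', a1, a2, a3⟩ := h1
  have hc : ∀ S' : Sylow 2 H, IsPGroup 2 ((S' : Subgroup H).comap π) := fun S' =>
    S'.isPGroup'.comap_of_ker_isPGroup π ((H1.isPGroup_pCore 2).to_le hk)
  obtain ⟨S, b1, b2⟩ := exists_sylow_ge_map_eq hπ (hc S') S' (map_comap_le _ _)
  obtain ⟨T, c1, c2⟩ := exists_sylow_ge_map_eq hπ (hc T') T' (map_comap_le _ _)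
  exact zpowers_eq_of_cyclic (S.isPGroup'.to_le inf_le_left)
    (h S T fun e => a3 (Sylow.ext (by rw [← b2, ← c2, e])))
    (hk.trans (le_inf (H1.pCore_le_sylow S) (H1.pCore_le_sylow T))) ⟨b1 a1, c1 a2⟩ hz

theorem mem_cent_of_le_zpowers {V : Subgroup G} {z s : G} (h1 : V ≤ zpowers z) (h2 : Commute s z) :
    s ∈ centralizer (V : Set G) := by
  intro v hv
  obtain ⟨k, rfl⟩ := h1 hv
  exact (h2.zpow_right k).symm.eq

theorem exists_cent_compl_not_mem {C : Subgroup G} [C.Normal] (hC : C ≠ ⊤)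
    (h2 : IsPGroup 2 (G ⧸ C)) (S : Sylow 2 G) : ∃ K : Subgroup G, Odd (Nat.card K) ∧
      (S : Subgroup G) ⊔ K = normalizer ((S : Subgroup G) : Set G) ∧
      ∃ s ∈ (S : Subgroup G), s ∈ centralizer (K : Set G) ∧ s ∉ C := by
  have hSC : ¬ (S : Subgroup G) ≤ C := fun h1 => by
    have h3 := h2.card_eq_or_dvd
    rw [← index_eq_card, index_eq_one] at h3
    exact S.not_dvd_index ((h3.resolve_left hC).trans (index_dvd_of_le h1))
  have hri : ((S : Subgroup G).relIndex (normalizer ((S : Subgroup G) : Set G))).Coprime 2 :=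
    ((Nat.Prime.coprime_iff_not_dvd Nat.prime_two).2 fun hd => S.not_dvd_index
      (hd.trans (relIndex_dvd_index_of_le le_normalizer))).symm
  have hc := H1.IsPGroup.coprime_card S.isPGroup' hri
  obtain ⟨K, k1, -, k3, k4⟩ := H1.schurZassenhaus_exists (N := (S : Subgroup G))
    (M := normalizer ((S : Subgroup G) : Set G)) le_normalizer le_rfl hc
  have hKo : (Nat.card K).Coprime 2 := by rw [k4]; exact hri
  refine ⟨K, Nat.coprime_two_right.1 hKo, k3, ?_⟩
  by_contra h1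
  push Not at h1
  refine hSC (le_trans (H1.commutator_sup_centralizer k1
    (H1.IsPGroup.coprime_card S.isPGroup' hKo).symm
    (Or.inl (H1.ft_odd (Nat.coprime_two_right.1 hKo)))).ge ?_)
  have hKC : K ≤ C := H1.le_of_coprime_index (by
    rw [index_eq_card]; exact (H1.IsPGroup.coprime_card h2 hKo).symm)
  exact sup_le ((commutator_mono le_rfl hKC).trans (commutator_le_right _ _))
    fun x hx => h1 x hx.1 hx.2

theorem mem_of_pow_odd_mem {C : Subgroup G} [C.Normal] (h2 : IsPGroup 2 (G ⧸ C)) {x : G} {m : ℕ}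
    (hm : Odd m) (h : x ^ m ∈ C) : x ∈ C := by
  obtain ⟨k, hk⟩ := h2 (x : G ⧸ C)
  rw [← QuotientGroup.eq_one_iff]
  refine H6.eq_one_of_odd_of_two_pow (hm.of_dvd_nat (orderOf_dvd_of_pow_eq_one ?_)) hk
  rwa [← QuotientGroup.mk_pow, QuotientGroup.eq_one_iff]

theorem odd_card_of_uniq_outside {C : Subgroup G} [C.Normal] (h2 : IsPGroup 2 (G ⧸ C))
    (hO : pCore 2 G = ⊥) (hU : ∀ x, x ∉ C → UniqS x) {i : G} (hi : orderOf i = 2) (hiC : i ∉ C) :
    Odd (Nat.card C) := by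
  obtain ⟨S, hS⟩ := (H6.isPGroup_zpowers_ord2 (H6.ord2_mul_self hi)).exists_le_sylow
  rw [H6.odd_card_iff]
  intro t ht h3
  refine H6.ord2_ne_one h3 (mem_bot.1 (hO ▸ ?_))
  rw [H1.pCore_eq_normalCore_sylow S]
  intro g
  have h4 := H6.ord2_conj h3 g
  have hw := (inferInstance : C.Normal).conj_mem t ht g
  generalize g * t * g⁻¹ = w at h4 hw
  have hd : i * w ∉ C := fun h4 => hiC (by simpa using C.mul_mem h4 (C.inv_mem hw))
  obtain ⟨a, m, hm, ham⟩ := Nat.exists_eq_two_pow_mul_odd (orderOf_pos (i * w)).ne'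
  have hUe : UniqS ((i * w) ^ m) := hU _ fun h5 => hd (mem_of_pow_odd_mem h2 hm h5)
  obtain ⟨R, hR⟩ := (H6.isPGroup_zpowers (p := 2) (k := a) (x := (i * w) ^ m) (by
    rw [← pow_mul, mul_comm m, ← ham, pow_orderOf_eq_one])).exists_le_sylow
  have hmem : ∀ x : G, orderOf x = 2 → x * (i * w) * x⁻¹ = (i * w)⁻¹ →
      x ∈ (R : Subgroup G) := fun x hx h4 =>
    mem_sylow_of_mem_normalizer R (k := 1) (by rw [pow_one, ← hx, pow_orderOf_eq_one])
      (inv_mem_iff.1 (hUe.mem_normalizer (hR (mem_zpowers _)) (by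
        rw [inv_inv, H6.conj_pow_of_inverts h4]
        exact inv_mem (hR (mem_zpowers _)))))
  have i2 := H6.ord2_mul_self hi
  have w2 := H6.ord2_mul_self h4
  rw [hU i hiC S R (hS (mem_zpowers i)) (hmem _ hi (H6.inv_conj_mul i2 w2))]
  exact hmem _ h4 (H6.inv_conj_mul' i2 w2)

theorem le_zpowers_or {V : Subgroup G} (hV : IsPGroup 2 V) (hc : IsCyclic V)
    (h4 : ¬ ∀ v ∈ V, v * v = 1) {y z : G} (hy : y ∈ centralizer (V : Set G)) (hz : V ≤ zpowers z)
    (y2 : y * y ∈ V) (z2 : z * z ∈ V) (hzV : z ∉ V) (hyz : y⁻¹ * z * y * z⁻¹ ∈ V) :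
    V ≤ zpowers y ∨ V ≤ zpowers (y * z) := by
  have hzC := mem_cent_of_le_zpowers hz (Commute.refl z)
  have hg : V ≤ zpowers (z * z) := by
    intro v hv
    obtain ⟨k, rfl⟩ := hz hv
    obtain ⟨j, rfl | rfl⟩ := Int.even_or_odd' k
    · exact ⟨j, by simp only [zpow_mul, zpow_two]⟩
    · refine absurd ?_ hzV
      have := V.mul_mem (V.inv_mem (V.zpow_mem z2 j)) hv
      simpa only [zpow_add, zpow_mul, zpow_two, zpow_one, inv_mul_cancel_left] using this
  set w := z * z with hw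
  set V2 := zpowers (w * w) with hV2
  have hpar : ∀ v ∈ V, v ∈ V2 ∨ V ≤ zpowers v := by
    intro v hv
    obtain ⟨k, rfl⟩ := hg hv
    obtain ⟨j, rfl | rfl⟩ := Int.even_or_odd' k
    · exact Or.inl ⟨j, by simp only [zpow_mul, zpow_two]⟩
    · refine Or.inr (hg.trans (zpowers_le_of_mem ?_))
      rw [mem_zpowers_zpow_iff]
      obtain ⟨n, hn⟩ := H6.IsPGroup_pow_eq_one hV z2
      obtain ⟨l, -, hl⟩ := (Nat.dvd_prime_pow Nat.prime_two).1 (orderOf_dvd_of_pow_eq_one hn)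
      rw [hl, Int.gcd_eq_natAbs, Int.natAbs_natCast]
      exact (Nat.coprime_two_right.2 (Int.natAbs_odd.2 ⟨j, rfl⟩)).pow_right l
  have hsq : ∀ v : G, V ≤ zpowers v → v * v ≠ 1 := fun v hv h => h4 fun u hu => by
    obtain ⟨k, rfl⟩ := hv hu
    simp only
    rw [← (Commute.refl v).mul_zpow, h, one_zpow]
  by_contra hn
  push Not at hn
  have hp : ∀ x : G, ¬ V ≤ zpowers x → x * x ∈ V → x * x ∈ V2 := fun x h1 h2 =>
    (hpar _ h2).resolve_right fun h3 => h1 (h3.trans (zpowers_le_of_mem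
      (mul_mem (mem_zpowers x) (mem_zpowers x))))
  set c := y⁻¹ * z * y * z⁻¹ with hcd
  have e : y * z * (y * z) = y * y * c * w := by rw [hcd, hw]; group
  have c2 : c * c = 1 := by
    have h1 : c * z * (c * z) = w := by
      have := hy w z2
      calc c * z * (c * z) = y⁻¹ * (w * y) := by rw [hcd, hw]; group
        _ = w := by rw [this]; group
    have h2 := hzC c hyz
    calc c * c = c * (c * z) * z * w⁻¹ := by rw [hw]; group
      _ = c * (z * c) * z * w⁻¹ := by rw [h2]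
      _ = c * z * (c * z) * w⁻¹ := by group
      _ = 1 := by rw [h1]; group
  have hcV : c ∈ V2 := (hpar c hyz).resolve_right fun h => hsq c h c2
  have h1 := hp _ hn.2 (e ▸ V.mul_mem (V.mul_mem y2 hyz) z2)
  rw [e] at h1
  have h2 : w ∈ V2 := by
    have := V2.mul_mem (V2.inv_mem (V2.mul_mem (hp y hn.1 y2) hcV)) h1
    rwa [inv_mul_cancel_left] at this
  obtain ⟨k, hk⟩ := h2
  obtain ⟨n, hn'⟩ := H6.IsPGroup_pow_eq_one hV z2
  have h3 : w ^ (2 * k - 1) = 1 := by
    simp only at hk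
    rw [zpow_sub, zpow_mul, zpow_two, hk]; simp
  have h5 : w = 1 := H6.eq_one_of_odd_of_two_pow (by
    have := orderOf_dvd_iff_zpow_eq_one.2 h3
    exact (Int.natAbs_odd.2 ⟨k - 1, by ring⟩).of_dvd_nat (Int.natCast_dvd.1 this)) hn'
  exact hsq w hg (by rw [h5, mul_one])

theorem pCore_le_center_of_CI (h : CI G) (hO : pPrimeCore 2 G = ⊥) (hs : ¬ Group.IsSolvable G) :
    pCore 2 G ≤ center G := by
  have hVc : IsCyclic (pCore 2 G) := isCyclic_pCore_of_CI h fun ⟨P, _⟩ =>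
    hs (isSolvable_of_normal_sylow_two P)
  obtain ⟨H, _, _, π, hπ, hk, hO2⟩ : ∃ (H : Type _) (_ : Group H) (_ : Finite H) (π : G →* H),
      Function.Surjective π ∧ π.ker = pCore 2 G ∧ pCore 2 H = ⊥ :=
    ⟨G ⧸ pCore 2 G, inferInstance, inferInstance, _, QuotientGroup.mk'_surjective _,
      QuotientGroup.ker_mk' _, H1.pCore_quotient_pCore 2⟩
  have hJ := fun z => h.le_zpowers hπ hk.le (z := z)
  have hVp : IsPGroup 2 π.ker := hk ▸ H1.isPGroup_pCore 2
  have hVs : Group.IsSolvable π.ker := by have := hVp.isNilpotent; infer_instance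
  have hO' : pPrimeCore 2 H = ⊥ := by
    have h1 := isPGroup_of_solvable_of_cyclic hO hVc ((pPrimeCore 2 H).comap π)
      (H1.isSolvable_comap (H1.ft_odd (Nat.coprime_two_right.1 (H1.coprime_card_pPrimeCore 2))) _
        hVs)
    rw [← map_comap_eq_self_of_surjective hπ (pPrimeCore 2 H), Subgroup.map_eq_bot_iff, hk]
    exact H1.le_pCore h1
  rw [← hk] at hVc ⊢
  set V := π.ker with hV
  set C := centralizer (V : Set G) with hC
  have hVC : V ≤ C := le_centralizer_iff_isMulCommutative.2 inferInstance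
  have h2 : IsPGroup 2 (G ⧸ C) := fun x => by
    obtain ⟨x, rfl⟩ := QuotientGroup.mk_surjective x
    obtain ⟨k, hk⟩ := isPGroup_quot_cyclic_two hVp hVc (le_normalizer_of_normal (mem_top x))
    exact ⟨k, by rwa [← QuotientGroup.mk_pow, QuotientGroup.eq_one_iff]⟩
  by_contra hn
  have hC1 : C ≠ ⊤ := fun h1 => hn fun v hv => mem_center_iff.2 fun g =>
    ((h1 ▸ mem_top g : g ∈ C) v hv).symm
  obtain ⟨S⟩ : Nonempty (Sylow 2 G) := inferInstance
  obtain ⟨K, hKo, k3, s, hsS, hsK, hsC⟩ := exists_cent_compl_not_mem hC1 h2 S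
  obtain ⟨i, hi, his⟩ : ∃ i ∈ zpowers s, orderOf (π i) = 2 := by
    have h1 : IsPGroup 2 (zpowers (π s)) := by
      rw [← MonoidHom.map_zpowers]
      exact (S.isPGroup'.to_le (zpowers_le_of_mem hsS)).map π
    obtain ⟨t, ht, h2⟩ := H6.exists_ord2_mem_of_even (H := zpowers (π s)) (even_iff_two_dvd.2
      (h1.card_eq_or_dvd.resolve_left fun h2 => hsC (hVC (zpowers_eq_bot.1 (card_eq_one.1 h2)))))
    rw [← MonoidHom.map_zpowers] at ht
    obtain ⟨i, hi, rfl⟩ := ht
    exact ⟨i, hi, h2⟩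
  have hiV : i ∉ V := fun h1 => H6.ord2_ne_one his h1
  have hiJ : ¬ V ≤ zpowers i := fun h1 => hsC (mem_cent_of_le_zpowers h1 (by
    obtain ⟨k, rfl⟩ := hi; exact (Commute.refl s).zpow_right k))
  have hU : UniqS (π i) := by_contra fun h1 => hiJ (hJ i hiV h1)
  have hCn := (inferInstance : C.Normal).map π hπ
  have hcm : ∀ x, π x ∈ C.map π → x ∈ C := fun x hx => by
    rwa [← mem_comap, comap_map_eq_self hVC] at hx
  by_cases hiC : i ∈ C
  swap
  · have h3 : IsPGroup 2 (H ⧸ C.map π) := fun x => by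
      obtain ⟨x, rfl⟩ := QuotientGroup.mk_surjective x
      obtain ⟨x, rfl⟩ := hπ x
      obtain ⟨k, hk⟩ := h2 (x : G ⧸ C)
      rw [← QuotientGroup.mk_pow, QuotientGroup.eq_one_iff] at hk
      exact ⟨k, by rw [← QuotientGroup.mk_pow, QuotientGroup.eq_one_iff, ← map_pow]
                   exact mem_map_of_mem _ hk⟩
    have h1 := odd_card_of_uniq_outside h3 hO2 (fun x hx => by
      obtain ⟨x, rfl⟩ := hπ x
      by_contra h4
      exact hx (mem_map_of_mem _ (mem_cent_of_le_zpowers (hJ x (fun h5 => hx (mem_map_of_mem _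
        (hVC h5))) h4) (Commute.refl x)))) his fun h4 => hiC (hcm i h4)
    have := h2.isNilpotent
    exact hs (H1.isSolvable_of_normal_quotient C (H1.isSolvable_of_le
      (H1.isSolvable_comap (H1.ft_odd h1) π hVs) (le_comap_map _ _)) inferInstance)
  have h4 : ¬ ∀ v ∈ V, v * v = 1 := fun h4 => hn (by
    obtain ⟨g, hg⟩ := hVc.exists_generator
    have h5 : Nat.card V ∣ 2 := by
      rw [← orderOf_eq_card_of_forall_mem_zpowers hg]
      exact orderOf_dvd_of_pow_eq_one (Subtype.ext (by rw [pow_two]; exact h4 g g.2))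
    rcases (Nat.dvd_prime Nat.prime_two).1 h5 with h6 | h6
    · rw [card_eq_one.1 h6]; exact bot_le
    · intro v hv
      rw [mem_center_iff]
      intro g
      by_cases h7 : v = 1
      · simp [h7]
      obtain ⟨u, -, hu⟩ := (Nat.card_eq_two_iff' (1 : V)).1 h6
      have a1 := hu ⟨v, hv⟩ fun h => h7 (congrArg Subtype.val h)
      have a2 := hu ⟨_, (inferInstance : V.Normal).conj_mem v hv g⟩ fun h => h7 (by
        simpa using congrArg Subtype.val h)
      exact mul_inv_eq_iff_eq_mul.1 (congrArg Subtype.val (a2.trans a1.symm)))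
  have hcj : ∀ y, IsConj (π i) (π y) → y ∈ C ∧ y * y ∈ V ∧ ¬ V ≤ zpowers y := by
    intro y hy
    obtain ⟨g, hg⟩ := isConj_iff.1 hy
    obtain ⟨g, rfl⟩ := hπ g
    have a1 : y ∈ C := hcm y (hg ▸ hCn.conj_mem _ (mem_map_of_mem _ hiC) _)
    have a2 : orderOf (π y) = 2 := H6.isConj_orderOf hy ▸ his
    refine ⟨a1, by rw [hV, MonoidHom.mem_ker, map_mul]; exact H6.ord2_mul_self a2, fun a3 => ?_⟩
    have a4 : g * i * g⁻¹ * y⁻¹ ∈ V := by
      rw [hV, MonoidHom.mem_ker]; simp [hg]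
    have a5 : g * i * g⁻¹ ∈ zpowers y := by
      simpa using mul_mem (a3 a4) (mem_zpowers y)
    have a6 : g * i * g⁻¹ ∉ V := fun a6 => hiV (by
      simpa [mul_assoc] using (inferInstance : V.Normal).conj_mem _ a6 g⁻¹)
    have a7 : IsPGroup 2 (zpowers y) := by
      obtain ⟨k, hk⟩ := H6.IsPGroup_pow_eq_one hVp
        (show y * y ∈ V by rw [hV, MonoidHom.mem_ker, map_mul]; exact H6.ord2_mul_self a2)
      exact H6.isPGroup_zpowers (k := k + 1) (by rw [pow_succ', pow_mul, pow_two, hk])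
    have a8 := zpowers_eq_of_cyclic a7 inferInstance a3 a5 a6
    refine hiJ fun v hv => ?_
    obtain ⟨k, hk⟩ := a8 ((inferInstance : V.Normal).conj_mem v hv g)
    refine ⟨k, ?_⟩
    simp only [conj_zpow] at hk ⊢
    simpa using hk
  let S' := S.mapSurjective hπ
  have hiS' : π i ∈ (S' : Subgroup H) := ⟨i, zpowers_le_of_mem hsS hi, rfl⟩
  obtain ⟨g, hg⟩ : ∃ g, g * π i * g⁻¹ ∉ (S' : Subgroup H) := by
    by_contra h1
    push Not at h1
    refine H6.ord2_ne_one his (mem_bot.1 (hO2 ▸ ?_))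
    rw [H1.pCore_eq_normalCore_sylow S']
    exact h1
  have hw := wc_of_uniq (h.of_surjective hπ) S' his hiS' hU (K := K.map π)
    (hKo.of_dvd_nat (card_map_dvd _ _)) ?_ ?_ ?_ (isConj_iff.2 ⟨g, rfl⟩) hg
  · refine hg ?_
    rwa [mem_center_iff.1 (hw.mem_center hO') g, mul_inv_cancel_right]
  · rw [Sylow.coe_mapSurjective, ← Subgroup.map_sup, k3, ← map_comap_eq_self_of_surjective hπ
      (normalizer _), comap_normalizer_map_sylow π hπ S, Subgroup.map_sup, ← hV,
      (Subgroup.map_eq_bot_iff V).2 le_rfl, sup_bot_eq]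
  · rintro _ ⟨x, hx, rfl⟩
    rw [mem_centralizer_singleton_iff, ← map_mul, ← map_mul]
    exact congrArg π (zpowers_le_of_mem hsK hi x hx)
  · intro y z hy hz hc hyz
    obtain ⟨y, rfl⟩ := hπ y
    obtain ⟨z, rfl⟩ := hπ z
    by_contra h1
    have hzV : z ∉ V := fun h1 => H6.ord2_ne_one hz h1
    obtain ⟨a1, a2, a3⟩ := hcj y hy
    obtain ⟨-, -, b3⟩ := hcj (y * z) (by rwa [map_mul])
    refine (le_zpowers_or hVp hVc h4 a1 (hJ z hzV h1) a2 ?_ hzV ?_).elim a3 b3
    · rw [hV, MonoidHom.mem_ker, map_mul]; exact H6.ord2_mul_self hz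
    · rw [hV, MonoidHom.mem_ker]
      simp only [map_mul, map_inv]
      rw [mul_assoc _ (π z), hc.eq]; simp

end H7
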