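import Cfsg.Agent.H7.Bh
import Cfsg.Agent.H1.F22

/-! The subgroup of order three is inverted. -/

set_option autoImplicit false
open Subgroup H7B Cfsg Cfsg.Spor

namespace H7.B6

theorem tr {H : Type*} [Group H] [Finite H] (S : Subgroup H) (hS : ∀ x ∈ S, ∀ y ∈ S, x * y = y * x) (p : H)
    (hp : ∀ g, g * p = p * g) (hc : p ∈ commutator H) (o : orderOf p = 3) : 3 ∣ S.index := by
  letI : CommGroup S := { (inferInstance : Group S) with mul_comm := fun x y => Subtype.ext (hS _ x.2 _ y.2) }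
  have key : ∀ (k : ℕ) (g : H), g⁻¹ * p ^ k * g ∈ S → g⁻¹ * p ^ k * g = p ^ k := fun k g _ => by
    rw [mul_assoc, ← (Commute.pow_right (hp g) k).eq, inv_mul_cancel_left]
  have h1 := MonoidHom.transfer_eq_pow (MonoidHom.id S) p key
  rw [Abelianization.commutator_subset_ker _ hc] at h1
  rw [← o, orderOf_dvd_iff_pow_eq_one]
  exact (congrArg Subtype.val h1).symm

theorem nine {H : Type*} [Group H] [Finite H] {a b : H} (a3 : a ^ 3 = 1) (b3 : b ^ 3 = 1) (ab : a * b = b * a)
    (a1 : a ≠ 1) (ba : b ∉ zpowers a) : 9 ∣ Nat.card (closure ({a, b} : Set H)) := by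
  have : Fact (Nat.Prime 3) := ⟨by norm_num⟩
  have oa := orderOf_eq_prime a3 a1
  have ob := orderOf_eq_prime b3 (fun h => ba (h ▸ one_mem _))
  have cm : ∀ (x : zpowers a) (y : zpowers b), Commute ((zpowers a).subtype x) ((zpowers b).subtype y) := by
    rintro ⟨_, i, rfl⟩ ⟨_, j, rfl⟩
    exact (show Commute a b from ab).zpow_zpow i j
  have dj : Disjoint (zpowers a) (zpowers b) := by
    have : Fact (Nat.card (zpowers b)).Prime := ⟨by rw [Nat.card_zpowers, ob]; norm_num⟩
    rcases ((zpowers a).subgroupOf (zpowers b)).eq_bot_or_eq_top_of_prime_card with h | h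
    · exact subgroupOf_eq_bot.1 h
    · exact (ba (subgroupOf_eq_top.1 h (mem_zpowers b))).elim
  have inj : Function.Injective ((zpowers a).subtype.noncommCoprod (zpowers b).subtype cm) :=
    (MonoidHom.noncommCoprod_injective _ _ _).2 ⟨Subtype.val_injective, Subtype.val_injective, by simpa using dj⟩
  have h := card_dvd_of_le (H := ((zpowers a).subtype.noncommCoprod (zpowers b).subtype cm).range)
    (K := closure ({a, b} : Set H)) (by
      rintro _ ⟨⟨x, y⟩, rfl⟩
      exact mul_mem (zpowers_le.2 (subset_closure (by simp)) x.2) (zpowers_le.2 (subset_closure (by simp)) y.2))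
  rwa [← Nat.card_congr (MonoidHom.ofInjective inj).toEquiv, Nat.card_prod, Nat.card_zpowers, Nat.card_zpowers, oa, ob] at h

variable {C : Type*} [Group C] [Finite C] {Q N M : Subgroup C} [N.Normal]

theorem b6 (h : St Q N M) {X : Type*} [Group X] (hX : Nat.card X = 887040) (π : C →* X) (s : Function.Surjective π)
    (k : π.ker = N) (a b α : X) (a3 : a ^ 3 = 1) (b3 : b ^ 3 = 1) (ab : a * b = b * a) (a1 : a ≠ 1) (ba : b ∉ zpowers a)
    (e1 : α * a * α⁻¹ = a) (e2 : α * b * α⁻¹ = b⁻¹) (p : C) (pN : p ∈ N) (o : orderOf p = 3)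
    (z : ∀ c, ∀ n ∈ N, c * n * c⁻¹ * n⁻¹ ∈ Q) : False := by
  have := h.nQ
  have : Finite X := Nat.finite_of_card_ne_zero (by rw [hX]; norm_num)
  have : Fact (Nat.Prime 3) := ⟨by norm_num⟩
  let μ := QuotientGroup.mk' Q
  have zc : ∀ n ∈ N, ∀ g, g * μ n = μ n * g := fun n hn g => by
    obtain ⟨c, rfl⟩ := QuotientGroup.mk'_surjective Q g
    have := (QuotientGroup.eq_one_iff _).2 (z c n hn)
    have e : μ c * μ n * (μ c)⁻¹ * (μ n)⁻¹ = 1 := by simpa only [map_mul, map_inv] using (show μ _ = 1 from this)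
    rwa [mul_inv_eq_one, mul_inv_eq_iff_eq_mul] at e
  have n3 : ∀ n ∈ N, μ n ^ 3 = 1 := fun n hn => by
    have i : (Q.subgroupOf N).index = 3 := by
      have := card_mul_index (Q.subgroupOf N)
      rw [Nat.card_congr (subgroupOfEquivOfLe h.hQN).toEquiv, h.hN, mul_comm] at this
      exact Nat.eq_of_mul_eq_mul_right Nat.card_pos this
    have := (Q.subgroupOf N).pow_index_mem (⟨n, hn⟩ : N)
    rw [i] at this
    rw [← map_pow]
    exact (QuotientGroup.eq_one_iff _).2 this
  obtain ⟨A, rfl⟩ := s a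
  obtain ⟨B, rfl⟩ := s b
  obtain ⟨c, rfl⟩ := s α
  have m0 : A * B * A⁻¹ * B⁻¹ ∈ N := by rw [← k, MonoidHom.mem_ker]; simp only [map_mul, map_inv]; rw [ab]; group
  have m1 : A⁻¹ * (c * A * c⁻¹) ∈ N := by rw [← k, MonoidHom.mem_ker]; simp only [map_mul, map_inv]; rw [e1]; group
  have m2 : B * (c * B * c⁻¹) ∈ N := by rw [← k, MonoidHom.mem_ker]; simp only [map_mul, map_inv]; rw [e2]; group
  have AB : μ A * μ B = μ B * μ A := by
    have z0 := zc _ m0
    have z1 := zc _ m1
    have z2 := zc _ m2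
    have t := n3 _ m0
    simp only [map_mul, map_inv] at z0 z1 z2 t
    generalize μ A = x at *
    generalize μ B = y at *
    generalize μ c = w at *
    obtain ⟨u, hu⟩ : ∃ u, u = x⁻¹ * (w * x * w⁻¹) := ⟨_, rfl⟩
    obtain ⟨v, hv⟩ : ∃ v, v = y * (w * y * w⁻¹) := ⟨_, rfl⟩
    obtain ⟨d, hd⟩ : ∃ d, d = x * y * x⁻¹ * y⁻¹ := ⟨_, rfl⟩
    rw [← hu] at z1
    rw [← hv] at z2
    rw [← hd] at z0 t
    have f1 : w * x * w⁻¹ = u * x := by rw [← z1, hu]; group
    have f2 : w * y * w⁻¹ = v * y⁻¹ := by rw [← z2, hv]; group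
    have f3 : d = u * x * (v * y⁻¹) * (u * x)⁻¹ * (v * y⁻¹)⁻¹ := by
      rw [← f1, ← f2]
      calc d = w * d * w⁻¹ := by rw [z0 w]; group
        _ = _ := by rw [hd]; group
    have f4 : d = x * y⁻¹ * x⁻¹ * y := by
      rw [f3]
      calc _ = u * (x * v * y⁻¹ * x⁻¹) * u⁻¹ * y * v⁻¹ := by group
        _ = (x * v) * y⁻¹ * x⁻¹ * y * v⁻¹ := by rw [← z1]; group
        _ = v * (x * y⁻¹ * x⁻¹ * y) * v⁻¹ := by rw [z2 x]; group
        _ = _ := by rw [← z2]; group
    have g1 : x * y * x⁻¹ = y * d := by rw [z0 y, hd]; group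
    have g2 : d = (y * d)⁻¹ * y := by rw [← g1]; exact f4.trans (by group)
    have f5 : d * d = 1 := by
      calc d * d = d * ((y * d)⁻¹ * y) := by rw [← g2]
        _ = 1 := by group
    have : d = 1 := by rw [pow_three, f5, mul_one] at t; exact t
    rw [this] at hd
    exact mul_inv_eq_iff_eq_mul.1 (mul_inv_eq_one.1 hd.symm)
  have pQ : μ p ≠ 1 := fun e => by
    have := orderOf_dvd_natCard (⟨p, (QuotientGroup.eq_one_iff _).1 e⟩ : Q)
    rw [h.hcard, ← orderOf_injective Q.subtype Subtype.val_injective, show Q.subtype _ = p from rfl, o] at this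
    revert this; norm_num
  have gen : ∀ x, μ A * x = x * μ A → μ B * x = x * μ B → ∀ y ∈ (closure {A, B} ⊔ N).map μ, y * x = x * y := fun x u v => by
    have : closure {A, B} ⊔ N ≤ (centralizer {x}).comap μ := sup_le
      ((closure_le _).2 (by rintro _ (rfl | rfl) <;> exact mem_centralizer_singleton_iff.2 ‹_›))
      fun n hn => mem_centralizer_singleton_iff.2 (zc n hn x).symm
    rintro _ ⟨y, hy, rfl⟩
    exact mem_centralizer_singleton_iff.1 (this hy)
  have d3 := tr ((closure {A, B} ⊔ N).map μ) (fun x hx y hy => (gen x (gen _ rfl AB.symm x hx).symm (gen _ AB rfl x hx).symm y hy).symm)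
    (μ p) (zc p pN) (by
      have : ⁅M, M⁆ ⊔ Q ≤ (commutator (C ⧸ Q)).comap μ := sup_le
        (by rw [← map_le_iff_le_comap, map_commutator]; exact commutator_mono le_top le_top)
        fun q hq => by rw [mem_comap, (QuotientGroup.eq_one_iff q).2 hq |> (show μ q = 1 from ·)]; exact one_mem _
      exact this (h.hperf (h.hNM pN))) (orderOf_eq_prime (n3 p pN) pQ)
  rw [index_map_eq _ (QuotientGroup.mk'_surjective Q) (by rw [QuotientGroup.ker_mk']; exact h.hQN.trans le_sup_right),
    ← k, ← comap_map_eq, index_comap_of_surjective _ s, MonoidHom.map_closure, Set.image_pair] at d3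
  have := mul_dvd_mul (nine a3 b3 ab a1 ba) d3
  rw [card_mul_index, hX] at this
  revert this; norm_num

theorem b6' (h : St Q N M) (hA : Nat.card (MulAut M22) = 887040)
    (inj : Function.Injective (MulAut.conj : M22 →* MulAut M22)) (π : C →* MulAut M22) (s : Function.Surjective π)
    (k : π.ker = N) (P : Subgroup C) (hP : P ≤ N) (h3 : Nat.card P = 3) :
    normalizer (P : Set C) ≠ centralizer (P : Set C) := fun e => by
  have := h.nQ
  have : Fact (Nat.Prime 3) := ⟨by norm_num⟩
  obtain ⟨a, b, σ, a3, b3, ab, a1, ba, e1, e2⟩ := H1.F22.f22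
  obtain ⟨⟨p, pP⟩, o⟩ := exists_prime_orderOf_dvd_card' (G := P) 3 (by rw [h3])
  have o' : orderOf p = 3 := by rw [← o, ← orderOf_injective P.subtype Subtype.val_injective]; rfl
  have cN : Nat.card N = 3 * 2 ^ 13 := by rw [h.hN, h.hcard]
  have c3 : Nat.card (P.subgroupOf N) = 3 := by rw [Nat.card_congr (subgroupOfEquivOfLe hP).toEquiv, h3]
  have ix : (P.subgroupOf N).index = 2 ^ 13 := by
    have := card_mul_index (P.subgroupOf N)
    rw [c3, cN] at this
    omega
  let S : Sylow 3 N := (IsPGroup.of_card (n := 1) (by rw [c3]; rfl)).toSylow (by rw [ix]; norm_num)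
  have fr := Sylow.normalizer_sup_eq_top S
  rw [show (S : Subgroup N) = P.subgroupOf N from rfl, subgroupOf_map_subtype, inf_of_le_left hP, e] at fr
  have PQ : N = P ⊔ Q := by
    refine (eq_of_le_of_card_ge (sup_le hP h.hQN) ?_).symm
    have d1 := card_dvd_of_le (le_sup_left : P ≤ P ⊔ Q)
    have d2 := card_dvd_of_le (le_sup_right : Q ≤ P ⊔ Q)
    rw [h3] at d1
    rw [h.hcard] at d2
    rw [cN]
    exact Nat.le_of_dvd Nat.card_pos (Nat.Coprime.mul_dvd_of_dvd_of_dvd (by norm_num) d1 d2)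
  let μ := QuotientGroup.mk' Q
  have z : ∀ c, ∀ n ∈ N, c * n * c⁻¹ * n⁻¹ ∈ Q := by
    have t : (⊤ : Subgroup C) ≤ (centralizer (N.map μ : Set (C ⧸ Q))).comap μ := by
      rw [← fr]
      refine sup_le (fun c hc => ?_) fun c hc => ?_
      · have : N ≤ (centralizer {μ c}).comap μ := by
          rw [PQ]
          refine sup_le (fun x hx => mem_centralizer_singleton_iff.2 ?_) fun x hx => ?_
          · rw [← map_mul, hc x hx, map_mul]
          · rw [mem_comap, show μ x = 1 from (QuotientGroup.eq_one_iff x).2 hx]; exact one_mem _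
        rintro _ ⟨n, hn, rfl⟩
        exact mem_centralizer_singleton_iff.1 (this hn)
      · rintro _ ⟨n, hn, rfl⟩
        have := (QuotientGroup.eq_one_iff _).2 (h.hcent (commutator_mem_commutator (h.hNM hn) hc))
        have e : μ n * μ c * (μ n)⁻¹ * (μ c)⁻¹ = 1 := by
          simpa only [map_mul, map_inv, commutatorElement_def] using (show μ _ = 1 from this)
        rwa [mul_inv_eq_one, mul_inv_eq_iff_eq_mul] at e
    intro c n hn
    have := t (mem_top c) _ ⟨n, hn, rfl⟩
    refine (QuotientGroup.eq_one_iff _).1 (show μ _ = 1 from ?_)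
    simp only [map_mul, map_inv]
    rw [← this]; group
  refine b6 h hA π s k (MulAut.conj a) (MulAut.conj b) σ (by rw [← map_pow, a3, map_one]) (by rw [← map_pow, b3, map_one])
    (by rw [← map_mul, ab, map_mul]) (fun x => a1 (inj (by rw [x, map_one]))) ?_ ?_ ?_ p (hP pP) o' z
  · rintro ⟨i, hi⟩
    exact ba ⟨i, inj (by rw [map_zpow]; exact hi)⟩
  · ext1 x
    simp [e1]
  · ext1 x
    simp [e2]

end H7.B6
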