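import Cfsg.Agent.H7.PGrp2
import Cfsg.Agent.H3.PComp

/-! Nilpotent minimal covers. -/

namespace H7

open Subgroup Cfsg

variable {G : Type*} [Group G] {p : ℕ}

theorem comm_of_isPGroup_of_sylow_comm [Finite G] [Fact p.Prime] (P : Sylow p G)
    (hab : IsMulCommutative (P : Subgroup G)) {Q : Subgroup G} (hQ : IsPGroup p Q) :
    IsMulCommutative Q := by
  obtain ⟨g, hg⟩ := H3.exists_conj_le_sylow P hQ
  refine H1.isMulCommutative_iff'.2 fun a ha b hb => ?_
  have := H1.isMulCommutative_iff'.1 hab _ (hg a ha) _ (hg b hb)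
  simpa [← mul_assoc] using (show a * (b * g) = b * (a * g) by simpa [mul_assoc] using this)

theorem le_centralizer_of_nilpotent_of_comm [Finite G] [Fact p.Prime]
    (hab : ∀ Q : Subgroup G, IsPGroup p Q → IsMulCommutative Q) {A : Subgroup G}
    (hA : Group.IsNilpotent A) {u : G} (hu : u ∈ A) (hup : IsPGroup p (zpowers u)) :
    A ≤ centralizer {u} := by
  have h1 : (⟨u, hu⟩ : A) ∈ pCore p A := by
    refine H1.le_pCore_of_isNilpotent (H := zpowers ⟨u, hu⟩) ?_ (mem_zpowers _)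
    refine (hup.comap_subtype (K := A)).to_le (zpowers_le.2 (mem_zpowers u))
  have h2 := hab _ ((H1.isPGroup_pCore (G := A) p).map A.subtype)
  have h3 : (⊤ : Subgroup A) ≤ (centralizer {u}).comap A.subtype := by
    rw [← H1.pCore_sup_pPrimeCore_eq_top p]
    refine sup_le (fun x hx => ?_) (fun x hx => ?_)
    · exact mem_centralizer_singleton_iff.2
        (H1.isMulCommutative_iff'.1 h2 _ ⟨x, hx, rfl⟩ _ ⟨_, h1, rfl⟩)
    · exact mem_centralizer_singleton_iff.2
        (congrArg Subtype.val (H1.pPrimeCore_le_centralizer_pCore p hx _ h1)).symm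
  exact fun a ha => h3 (mem_top ⟨a, ha⟩)

/-- hypothesis: `𝓐` is a nilpotent minimal cover. -/
def NilMinCover (𝓐 : Finset (Subgroup G)) : Prop :=
  ((∀ A ∈ 𝓐, A ≠ ⊤) ∧ (∀ g : G, ∃ A ∈ 𝓐, g ∈ A)) ∧
    (∀ 𝓑 : Finset (Subgroup G), (∀ A ∈ 𝓑, A ≠ ⊤) ∧ (∀ g : G, ∃ A ∈ 𝓑, g ∈ A) → 𝓐.card ≤ 𝓑.card) ∧
    (∀ A ∈ 𝓐, Group.IsNilpotent A)

theorem NilMinCover.sup_eq_top {𝓐 : Finset (Subgroup G)} (h : NilMinCover 𝓐) {A B : Subgroup G}
    (hA : A ∈ 𝓐) (hB : B ∈ 𝓐) (hne : A ≠ B) : A ⊔ B = ⊤ := by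
  classical
  by_contra ht
  have h1 := h.2.1 (insert (A ⊔ B) ((𝓐.erase A).erase B)) ⟨?_, fun g => ?_⟩
  · have h2 := Finset.card_insert_le (A ⊔ B) ((𝓐.erase A).erase B)
    have h3 : B ∈ 𝓐.erase A := Finset.mem_erase.2 ⟨hne.symm, hB⟩
    have h4 := Finset.card_pos.2 ⟨B, h3⟩
    rw [Finset.card_erase_of_mem h3] at h2
    rw [Finset.card_erase_of_mem hA] at h2 h4
    omega
  · intro C hC
    rcases Finset.mem_insert.1 hC with rfl | hC
    · exact ht
    · exact h.1.1 C (Finset.mem_of_mem_erase (Finset.mem_of_mem_erase hC))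
  · obtain ⟨C, hC, hg⟩ := h.1.2 g
    by_cases h1 : C = A
    · exact ⟨_, Finset.mem_insert_self _ _, mem_sup_left (h1 ▸ hg)⟩
    by_cases h2 : C = B
    · exact ⟨_, Finset.mem_insert_self _ _, mem_sup_right (h2 ▸ hg)⟩
    exact ⟨C, Finset.mem_insert_of_mem (Finset.mem_erase.2 ⟨h2, Finset.mem_erase.2 ⟨h1, hC⟩⟩), hg⟩

theorem NilMinCover.unique [Finite G] [Fact p.Prime] {𝓐 : Finset (Subgroup G)}
    (h : NilMinCover 𝓐) (hZ : center G = ⊥)
    (hab : ∀ Q : Subgroup G, IsPGroup p Q → IsMulCommutative Q) {A B : Subgroup G}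
    (hA : A ∈ 𝓐) (hB : B ∈ 𝓐) {u : G} (hu : u ≠ 1) (hup : IsPGroup p (zpowers u))
    (huA : u ∈ A) (huB : u ∈ B) : A = B := by
  by_contra hne
  have h1 := sup_le (le_centralizer_of_nilpotent_of_comm hab (h.2.2 A hA) huA hup)
    (le_centralizer_of_nilpotent_of_comm hab (h.2.2 B hB) huB hup)
  rw [h.sup_eq_top hA hB hne] at h1
  apply hu
  rw [← mem_bot, ← hZ, mem_center_iff]
  exact fun g => mem_centralizer_singleton_iff.1 (h1 (mem_top g))

theorem NilMinCover.exists_le [Finite G] [Fact p.Prime] {𝓐 : Finset (Subgroup G)}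
    (h : NilMinCover 𝓐) (hZ : center G = ⊥)
    (hab : ∀ Q : Subgroup G, IsPGroup p Q → IsMulCommutative Q) {P : Subgroup G}
    (hP : IsPGroup p P) (hc : IsCyclic P ∨ ¬ IsElementaryAbelian p P) : ∃ A ∈ 𝓐, P ≤ A := by
  rcases hc with hc | hc
  · obtain ⟨x, rfl⟩ := (P.isCyclic_iff_exists_zpowers_eq_top).1 hc
    obtain ⟨A, hA, hx⟩ := h.1.2 x
    exact ⟨A, hA, zpowers_le.2 hx⟩
  have hcomm := H1.isMulCommutative_iff'.1 (hab P hP)
  have key : ∀ x ∈ P, ∀ y ∈ P, x ^ p ≠ 1 → y ^ p = 1 → ∀ A ∈ 𝓐, x ∈ A → y ∈ A := by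
    intro x hx y hy hxp hyp A hA hxA
    obtain ⟨B, hB, hxy⟩ := h.1.2 (x * y)
    have e : (x * y) ^ p = x ^ p := by
      rw [Commute.mul_pow (hcomm x hx y hy), hyp, mul_one]
    have := h.unique hZ hab hA hB hxp (hP.to_le (zpowers_le.2 (pow_mem hx p))) (pow_mem hxA p)
      (e ▸ pow_mem hxy p)
    subst this
    simpa using mul_mem (inv_mem hxA) hxy
  obtain ⟨x, hx, hxp⟩ : ∃ x ∈ P, x ^ p ≠ 1 := by
    by_contra hne
    push Not at hne
    exact hc ⟨hab P hP, hne⟩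
  obtain ⟨A, hA, hxA⟩ := h.1.2 x
  refine ⟨A, hA, fun y hy => ?_⟩
  by_cases hyp : y ^ p = 1
  · exact key x hx y hy hxp hyp A hA hxA
  obtain ⟨B, hB, hyB⟩ := h.1.2 y
  obtain ⟨z, -, hz⟩ := H9.exists_pow_orderOf_eq_prime hP (a := ⟨x, hx⟩)
    (fun e => hxp (by rw [show x = 1 from congrArg Subtype.val e, one_pow]))
  have hzp : (z : G) ^ p = 1 := by
    rw [← Subgroup.coe_pow, ← hz, pow_orderOf_eq_one, OneMemClass.coe_one]
  have hz1 : (z : G) ≠ 1 := fun e => by
    rw [OneMemClass.coe_eq_one.1 e, orderOf_one] at hz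
    exact (Fact.out : p.Prime).one_lt.ne hz
  exact h.unique hZ hab hA hB hz1 (hP.to_le (zpowers_le.2 z.2)) (key x hx z z.2 hxp hzp A hA hxA)
    (key y hy z z.2 hyp hzp B hB hyB) ▸ hyB

theorem smul_eq_of_le_centralizer [Finite G] [Fact p.Prime] {P Q : Sylow p G}
    (h : (Q : Subgroup G) ≤ centralizer ((P : Subgroup G) : Set G)) : Q = P := by
  have h1 := IsPGroup.to_sup_of_normal_right' Q.2 P.2 (h.trans (centralizer_le_normalizer _))
  exact Sylow.ext ((Q.3 h1 le_sup_left).symm.trans (P.3 h1 le_sup_right))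

theorem NilMinCover.centralizer_mem [Finite G] [hp : Fact p.Prime] {𝓐 : Finset (Subgroup G)}
    (h : NilMinCover 𝓐) (hZ : center G = ⊥) (P : Sylow p G)
    (hab : IsMulCommutative (P : Subgroup G))
    (hc : IsCyclic (P : Subgroup G) ∨ ¬ IsElementaryAbelian p (P : Subgroup G))
    (hP0 : (P : Subgroup G) ≠ ⊥) (Q : Sylow p G) :
    centralizer ((Q : Subgroup G) : Set G) ∈ 𝓐 ∧
      ∀ u ∈ (Q : Subgroup G), u ≠ 1 → centralizer {u} = centralizer ((Q : Subgroup G) : Set G) := by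
  have hab' : ∀ Q : Subgroup G, IsPGroup p Q → IsMulCommutative Q :=
    fun Q hQ => comm_of_isPGroup_of_sylow_comm P hab hQ
  have hle : ∀ R : Sylow p G, ∃ A ∈ 𝓐, (R : Subgroup G) ≤ A := by
    intro R
    refine h.exists_le hZ hab' R.2 ?_
    obtain ⟨g, rfl⟩ := MulAction.exists_smul_eq G P R
    rw [sylow_coe_smul]
    refine hc.imp (fun hc => (cjEquiv _ g).isCyclic.1 hc) (fun hc he => hc ⟨hab, fun a ha => ?_⟩)
    have := he.2 _ (conj_mem_cj ha)
    rwa [conj_pow, conj_eq_one_iff] at this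
  obtain ⟨A, hA, hQA⟩ := hle Q
  have key : ∀ u ∈ (Q : Subgroup G), u ≠ 1 → centralizer {u} = A := by
    intro u hu hu1
    have hup : IsPGroup p (zpowers u) := Q.2.to_le (zpowers_le.2 hu)
    refine le_antisymm (fun x hx => ?_)
      (le_centralizer_of_nilpotent_of_comm hab' (h.2.2 A hA) (hQA hu) hup)
    obtain ⟨a, b, ⟨k, ha⟩, hb, e⟩ := H3.exists_pPart_mul_pPrimePart (p := p) x (orderOf_pos x).ne'
    rw [← e]
    have hc : ∀ n : ℕ, Commute (x ^ n) u := fun n =>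
      mem_centralizer_singleton_iff.1 (pow_mem hx n)
    refine mul_mem ?_ ?_
    · have h1 : IsPGroup p (zpowers (x ^ a) ⊔ zpowers u : Subgroup G) :=
        IsPGroup.to_sup_of_normal_right' (IsPGroup.of_card (by rw [Nat.card_zpowers, ha])) hup
          (zpowers_le.2 (centralizer_le_normalizer _ (H9.mem_centralizer_zpowers.2 (hc a).symm)))
      obtain ⟨R, hR⟩ := h1.exists_le_sylow
      obtain ⟨B, hB, hRB⟩ := hle R
      rw [h.unique hZ hab' hA hB hu1 hup (hQA hu) (hRB (hR (mem_sup_right (mem_zpowers u))))]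
      exact hRB (hR (mem_sup_left (mem_zpowers _)))
    · obtain ⟨B, hB, hxB⟩ := h.1.2 (x ^ b * u)
      obtain ⟨j, hj⟩ := IsPGroup.iff_card.1 hup
      rw [Nat.card_zpowers] at hj
      have huB : u ∈ B := by
        refine H9.mem_of_pow_mem_of_coprime (m := orderOf (x ^ b)) (n := orderOf u) ?_
          (by rw [pow_orderOf_eq_one]; exact one_mem _) (hj ▸ hb.pow_right j)
        have := pow_mem hxB (orderOf (x ^ b))
        rwa [(hc b).mul_pow, pow_orderOf_eq_one, one_mul] at this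
      rw [h.unique hZ hab' hA hB hu1 hup (hQA hu) huB]
      simpa using mul_mem hxB (inv_mem huB)
  have hQ0 : (Q : Subgroup G) ≠ ⊥ := by
    obtain ⟨g, rfl⟩ := MulAction.exists_smul_eq G P Q
    rwa [sylow_coe_smul, Ne, cj_eq_bot_iff]
  obtain ⟨⟨u, hu⟩, hu1⟩ := ne_bot_iff_exists_ne_one.1 hQ0
  have e : centralizer ((Q : Subgroup G) : Set G) = A := by
    refine le_antisymm ?_ fun a ha v hv => ?_
    · rw [← key u hu (fun e => hu1 (Subtype.ext e))]
      exact centralizer_le (Set.singleton_subset_iff.2 hu)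
    · by_cases hv1 : v = 1
      · simp [hv1]
      · rw [← key v hv hv1] at ha
        exact (mem_centralizer_singleton_iff.1 ha).symm
  rw [e]
  exact ⟨hA, key⟩

theorem NilMinCover.le_normalizer [Finite G] [hp : Fact p.Prime] {𝓐 : Finset (Subgroup G)}
    (h : NilMinCover 𝓐) (hZ : center G = ⊥) (P : Sylow p G)
    (hab : IsMulCommutative (P : Subgroup G))
    (hc : IsCyclic (P : Subgroup G) ∨ ¬ IsElementaryAbelian p (P : Subgroup G))
    (hP0 : (P : Subgroup G) ≠ ⊥) {M : Subgroup G} (hM : M ≠ ⊤)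
    (hle : centralizer ((P : Subgroup G) : Set G) ≤ M) :
    M ≤ normalizer ((P : Subgroup G) : Set G) := by
  intro m hm
  have h1 := (h.centralizer_mem hZ P hab hc hP0 P).1
  have h2 := (h.centralizer_mem hZ P hab hc hP0 (m • P)).1
  have h3 : centralizer ((P : Subgroup G) : Set G) =
      centralizer (((m • P : Sylow p G) : Subgroup G) : Set G) := by
    by_contra hne
    refine hM (top_le_iff.1 (h.sup_eq_top h1 h2 hne ▸ sup_le hle ?_))
    rw [sylow_coe_smul, centralizer_cj]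
    exact cj_le_of_mem hm hle
  refine Sylow.smul_eq_iff_mem_normalizer.1 (smul_eq_of_le_centralizer ?_)
  rw [h3]
  haveI := comm_of_isPGroup_of_sylow_comm P hab (m • P).2
  exact le_centralizer _

theorem NilMinCover.isCoatom_normalizer [Finite G] [hp : Fact p.Prime] {𝓐 : Finset (Subgroup G)}
    (h : NilMinCover 𝓐) (hZ : center G = ⊥) (P : Sylow p G)
    (hab : IsMulCommutative (P : Subgroup G))
    (hc : IsCyclic (P : Subgroup G) ∨ ¬ IsElementaryAbelian p (P : Subgroup G))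
    (hnn : ¬ (P : Subgroup G).Normal) : IsCoatom (normalizer ((P : Subgroup G) : Set G)) := by
  refine ⟨fun e => hnn (normalizer_eq_top_iff.1 e), fun M hM => ?_⟩
  by_contra hne
  exact hM.not_ge (h.le_normalizer hZ P hab hc (fun e => hnn (e ▸ inferInstance)) hne
    ((centralizer_le_normalizer _).trans hM.le))

end H7
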