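import Cfsg.Agent.H3.Extraspecial
import Cfsg.Agent.H9.Rank
import Cfsg.Agent.H9.CycMax

/-! The rank of extraspecial groups. -/

namespace H7

open Subgroup Cfsg H3
open scoped commutatorElement

variable {G : Type*} [Group G] [Finite G] {p : ℕ} {z : G} {C : Subgroup G}

theorem es_rank_step [hp : Fact p.Prime] (h : IsES p z C) {a b : G} (ha : a ∈ C) (hb : b ∈ C)
    (hab : ⁅a, b⁆ = z) (hap : a ^ p = 1) (k : ℕ) :
    PRankLE p (k + 1) C ↔ PRankLE p k (C ⊓ centralizer {a, b} : Subgroup G) := by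
  have hz : Nat.card (zpowers z) = p := by rw [Nat.card_zpowers, h.ord]
  have key : ∀ A : Subgroup G, IsElementaryAbelian p A → (∀ u ∈ A, u * a = a * u) →
      IsElementaryAbelian p (A ⊔ zpowers a) ∧
        (a ∉ A → Nat.card (A ⊔ zpowers a : Subgroup G) = p * Nat.card A) := fun A hA hc =>
    ⟨H9.elementary_sup hA (H9.elementary_zpowers hap) (by
      rintro u hu _ ⟨i, rfl⟩
      exact (Commute.zpow_right (hc u hu) i).eq), fun haA => H9.card_sup_zpowers hp.out
        (centralizer_le_normalizer _ (mem_centralizer_iff.2 hc)) haA (hap ▸ one_mem A)⟩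
  rw [H9.prank_iff, H9.prank_iff]
  refine ⟨fun H A hA hAe => ?_, fun H A hA hAe => ?_⟩
  · obtain ⟨h1, h2⟩ := key A hAe fun u hu => ((hA hu).2 a (by simp)).symm
    have := H _ (sup_le (hA.trans inf_le_left) (zpowers_le.2 ha)) h1
    rw [h2 fun haA => h.ne_one (hab ▸ commutatorElement_eq_one_iff_mul_comm.2
      ((hA haA).2 b (by simp)).symm), pow_succ'] at this
    exact Nat.le_of_mul_le_mul_left this hp.out.pos
  · obtain ⟨h1, h2⟩ := key (A ⊓ centralizer {a}) (H9.elementary_of_le hAe inf_le_left)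
      fun u hu => (hu.2 a rfl).symm
    have h3 : (A ⊓ centralizer {a}) ⊔ zpowers a ≤ C ⊓ centralizer {a} :=
      sup_le (inf_le_inf_right _ hA) (zpowers_le.2 ⟨ha, by rintro _ rfl; rfl⟩)
    have h4 := H9.card_le_mul_card_centralizer (N := zpowers z) (x := b)
      fun g hg => h.comm g (h3 hg).1 b hb
    have h5 := H (((A ⊓ centralizer {a}) ⊔ zpowers a) ⊓ centralizer {b}) (fun u hu =>
      ⟨(h3 hu.1).1, by
        rintro _ (rfl | rfl)
        · exact (h3 hu.1).2 _ rfl
        · exact hu.2 _ rfl⟩) (H9.elementary_of_le h1 inf_le_left)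
    rw [hz] at h4
    refine le_trans ?_ (h4.trans (by rw [pow_succ']; exact Nat.mul_le_mul_left p h5))
    by_cases haA : a ∈ A
    · refine card_le_of_le (le_trans (le_inf le_rfl fun u hu => ?_) le_sup_left)
      rintro _ rfl
      exact congrArg Subtype.val (hAe.1.is_comm.comm ⟨_, haA⟩ ⟨u, hu⟩)
    · rw [h2 fun h' => haA h'.1, ← hz]
      exact H9.card_le_mul_card_centralizer fun g hg => h.comm g (hA hg) a ha

omit [Finite G] in
theorem es_not_rank_zero [hp : Fact p.Prime] (h : IsES p z C) : ¬ PRankLE p 0 C := fun H => by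
  have := H9.prank_iff.1 H _ (zpowers_le.2 h.mem) (H9.elementary_zpowers h.pow_eq_one)
  rw [Nat.card_zpowers, h.ord, pow_zero] at this
  exact hp.out.one_lt.not_ge this

theorem es_mem_zpowers_of_quaternion (h : IsES 2 z C) (hC : Nat.card C = 8) {x y : G} (hx : x ∈ C)
    (hy : y ∈ C) (hxy : ⁅x, y⁆ = z) (hx2 : x ^ 2 = z) (hy2 : y ^ 2 = z) {g : G} (hg : g ∈ C)
    (hg2 : g ^ 2 = 1) : g ∈ zpowers z := by
  have key : ∀ u ∈ C, u ^ 2 = z → ⁅u, g⁆ = 1 → g ∈ zpowers z := by
    intro u hu hu2 hc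
    have hc' : Commute u g := commutatorElement_eq_one_iff_commute.1 hc
    have ho : orderOf u = 2 ^ (1 + 1) := orderOf_eq_prime_pow (by rw [pow_one, hu2]; exact h.ne_one)
      (by rw [pow_succ, pow_one, pow_mul, hu2, h.pow_eq_one])
    by_cases hgu : g ∈ zpowers u
    · simpa [hu2] using H9.zpow_mem_zpowers_of_pow_eq_one ho hgu (by simpa using hg2)
    exfalso
    have h1 : g ∈ centralizer (zpowers u : Set G) := by
      rintro _ ⟨i, rfl⟩
      exact (hc'.zpow_left i).eq
    have h2 := H9.card_sup_zpowers Nat.prime_two (centralizer_le_normalizer _ h1) hgu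
      (hg2 ▸ one_mem _)
    have h3 : zpowers u ⊔ zpowers g = C := eq_of_le_of_card_ge
      (sup_le (zpowers_le.2 hu) (zpowers_le.2 hg)) (by rw [h2, hC, Nat.card_zpowers, ho]; rfl)
    have h4 := H9.isMulCommutative_sup_zpowers inferInstance h1
    rw [h3] at h4
    exact h.ne_one (hxy ▸ commutatorElement_eq_one_iff_mul_comm.2
      (congrArg Subtype.val (h4.is_comm.comm ⟨x, hx⟩ ⟨y, hy⟩)))
  have hz : ∀ w ∈ zpowers z, w = 1 ∨ w = z := fun w hw => by
    classical
    rw [mem_zpowers_iff_mem_range_orderOf, h.ord] at hw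
    simpa [Finset.range_add_one, or_comm, eq_comm] using hw
  have hzz : z * z = 1 := by rw [← pow_two, h.pow_eq_one]
  rcases hz _ (h.comm x hx g hg) with h1 | h1
  · exact key x hx hx2 h1
  rcases hz _ (h.comm y hy g hg) with h2 | h2
  · exact key y hy hy2 h2
  refine key (x * y) (mul_mem hx hy) ?_ ?_
  · rw [H9.mul_pow_class_two (h.commute hy hx x) (h.commute hy hx y), hx2, hy2, hzz, one_mul,
      ← commutatorElement_inv, hxy, Nat.choose_self, pow_one, inv_eq_iff_mul_eq_one, hzz]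
  · rw [H9.commutator_mul_left_of_commute (h.commute hy hg x), h1, h2, hzz]

/-- the `2`-rank of an extraspecial `2`-group of order `2^(2n+1)` is `n + 1` or `n` according to
its type. -/
theorem es_rank_of_basis {ε : ℕ} (hε : ε ≤ 1) (n : ℕ) : ∀ {C : Subgroup G} {x y : Fin n → G},
    IsES 2 z C → (∀ i, x i ∈ C) → (∀ i, y i ∈ C) → (∀ i, ⁅x i, y i⁆ = z) →
    (∀ i j, Commute (x i) (x j)) → (∀ i j, i ≠ j → Commute (y i) (y j)) →
    (∀ i j, i ≠ j → Commute (x i) (y j)) → Nat.card C = 2 ^ (2 * n + 1) →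
    (∀ i : Fin n, x i ^ 2 = z ^ (if i.val + 1 = n then ε else 0) ∧
      y i ^ 2 = z ^ (if i.val + 1 = n then ε else 0)) → (ε = 0 ∨ 1 ≤ n) →
    ∀ k, PRankLE 2 k C ↔ n + 1 - ε ≤ k := by
  induction n with
  | zero =>
    intro C x y h _ _ _ _ _ _ hc _ h0 k
    rcases k with _ | k
    · exact iff_of_false (es_not_rank_zero h) (by omega)
    · refine iff_of_true (H9.prank_iff.2 fun A hA _ => (card_le_of_le hA).trans ?_) (by omega)
      rw [hc]
      exact Nat.pow_le_pow_right two_pos (by omega)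
  | succ n ih =>
    intro C x y h hx hy hxy hxx hyy hxy' hc hs h0 k
    rcases k with _ | k
    · exact iff_of_false (es_not_rank_zero h) (by omega)
    by_cases h1 : n = 0 ∧ ε = 1
    · obtain ⟨rfl, rfl⟩ := h1
      refine iff_of_true (H9.prank_iff.2 fun A hA hAe => (card_le_of_le
        (fun g hg => es_mem_zpowers_of_quaternion h hc (hx 0) (hy 0) (hxy 0) (by simpa using (hs 0).1)
          (by simpa using (hs 0).2) (hA hg) (hAe.2 g hg))).trans ?_) (by omega)
      rw [Nat.card_zpowers, h.ord]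
      exact Nat.le_self_pow k.succ_ne_zero 2
    have h2 : x 0 ^ 2 = 1 := by
      rw [(hs 0).1]
      split_ifs with h3
      · rw [show ε = 0 by simp at h3; omega, pow_zero]
      · rw [pow_zero]
    rw [es_rank_step h (hx 0) (hy 0) (hxy 0) h2, ih (x := fun i => x i.succ) (y := fun i => y i.succ)
      (h.step (hx 0) (hy 0) (hxy 0)) (fun i => ⟨hx _, ?_⟩) (fun i => ⟨hy _, ?_⟩) (fun i => hxy _)
      (fun i j => hxx _ _) (fun i j hij => hyy _ _ fun e => hij (Fin.succ_injective _ e))
      (fun i j hij => hxy' _ _ fun e => hij (Fin.succ_injective _ e)) ?_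
      (fun i => by simpa using hs i.succ) (by omega)]
    · omega
    · have := h.card_step (hx 0) (hy 0) (hxy 0)
      rw [hc, show 2 * (n + 1) + 1 = 2 + (2 * n + 1) by ring, pow_add] at this
      exact (Nat.eq_of_mul_eq_mul_left (by norm_num) this).symm
    · rintro _ (rfl | rfl)
      · exact (hxx _ _).eq
      · exact (hxy' _ _ (Fin.succ_ne_zero i)).eq.symm
    · rintro _ (rfl | rfl)
      · exact (hxy' _ _ (Fin.succ_ne_zero i).symm).eq
      · exact (hyy _ _ (Fin.succ_ne_zero i).symm).eq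

end H7
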