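import Cfsg.Agent.H24.Lift3
import Cfsg.Agent.H24.SC

/-! Central extensions of `F4(2)`: the Steinberg relations lift modulo one central involution. -/

set_option linter.unusedSectionVars false
set_option maxHeartbeats 400000
set_option synthInstance.maxSize 1024
set_option autoImplicit false

namespace H7.F42
open H24 H24.St0 Cfsg.Lie
open scoped commutatorElement

local notation "hT" => tabF4_chk
local notation "f" => Tab.Chk.fin tabF4_chk

variable {F : Type*} [Field F] {G : Type*} [Group G] {E : Type*} [Group E] {π : E →* G}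

/-- the field has two elements -/
def Two (F : Type*) [Field F] : Prop := ∀ t : F, t = 0 ∨ t = 1

theorem Two.two' (hF : Two F) : (1 + 1 : F) = 0 := (hF (1 + 1)).resolve_right (by simp)
theorem Two.two (hF : Two F) : ((2 : ℕ) : F) = 0 := by rw [← hF.two']; norm_num
theorem Two.even (hF : Two F) {z : ℤ} (h : z % 2 = 0) : (z : F) = 0 := by
  obtain ⟨k, rfl⟩ := Int.dvd_of_emod_eq_zero h
  push_cast
  linear_combination k * hF.two'
theorem Two.odd (hF : Two F) {z : ℤ} (h : z % 2 = 1) : (z : F) = 1 := by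
  have := hF.even (z := z - 1) (by omega)
  push_cast at this
  linear_combination this
theorem Two.neg (hF : Two F) : (-1 : F) = 1 := by linear_combination -hF.two'

theorem hA {a b : ℕ} (ha : a < 48) (hb : b < 48) : (hT).cd.A (f a) (f b) = tabF4.A a b := by
  rw [Tab.Chk.cd_toRS, (hT).A_eq, (hT).val_fin ha, (hT).val_fin hb]

theorem mem_cmb {r s : Fin chevF4.nroots} {c : Fin chevF4.nroots × ℤ × ℕ × ℕ} (hc : c ∈ (hT).cd.terms r s) :
    c.1 ∈ (hT).cd.cmb r s :=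
  let ⟨e, h1, h2⟩ := (hT).cd.terms_rt r s c hc; ⟨_, _, h1, h2, e⟩

variable (hF : Two F) (S : St (hT).cd F G) (c : CE π)
include hF

theorem cmm {a b : ℕ} (H : a < 48 ∧ b < 48 ∧ tabF4.CmP 2 [] a b) (t u : F) : Commute (S.x (f a) t) (S.x (f b) u) :=
  (hT).commuteP _ hF.two (by rw [(hT).val_fin H.1, (hT).val_fin H.2.1]; exact H.2.2) t u

theorem kk : ∀ r s, 0 ≤ (hT).cd.A r s → c.KK S r s := by
  have sg : ∀ r s : ℕ, ∀ q, r < 48 ∧ s < 48 ∧ tabF4.Sg 2 r s q → c.KK S (f r) (f s) := fun r s q H =>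
    (hT).KK_of_Sg c hF.two (by rw [(hT).val_fin H.1, (hT).val_fin H.2.1]; exact H.2.2)
  refine (hT).pair_induction _ (fun i r s ih H =>
    (ih (H.trans_eq (RS.Aut.A ((hT).rsys.s_mem_Aut i) r s).symm)).of_s i) fun r s hp H => ?_
  have key : ∀ q ∈ tabF4.reps, 0 ≤ tabF4.A q.1 q.2 → q = (44, 29) ∨ q = (47, 41) ∨
      ∃ a ∈ [(25, 31), (27, 39), (33, 40), (24, 46), (27, 35), (25, 45)], tabF4.Sg 2 q.1 q.2 a := by decide +kernel
  rcases key _ hp ((hT).A_eq r s ▸ H) with e | e | ⟨a, -, ha⟩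
  · obtain ⟨e1, e2⟩ := Prod.mk.inj e
    rw [← (hT).fin_val r, ← (hT).fin_val s, e1, e2]
    refine c.KK_of_terms (a := f 28) (b := f 24) (l1 := []) (l2 := [(f 32, -1, 2, 1)]) (z := -1) (j := 1) (k := 1)
      (by decide +kernel) (by decide +kernel) ?_ (by simp) (Or.inl rfl)
      (by simpa using sg 44 32 (25, 31) (by decide +kernel))
      (cmm hF S (by decide +kernel)) (cmm hF S (by decide +kernel))
    rw [(hT).terms_eq (by decide) (by decide), show gTerms tabF4.chain 28 24 = [(29, -1, 1, 1), (32, -1, 2, 1)] by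
      decide +kernel]; rfl
  · obtain ⟨e1, e2⟩ := Prod.mk.inj e
    rw [← (hT).fin_val r, ← (hT).fin_val s, e1, e2]
    refine c.KK_of_terms (a := f 33) (b := f 30) (l1 := [(f 37, -1, 1, 1)]) (l2 := []) (z := -1) (j := 2) (k := 1)
      (by decide +kernel) (by decide +kernel) ?_ (by simp) (Or.inr rfl)
      (by simpa using sg 47 37 (27, 35) (by decide +kernel))
      (cmm hF S (by decide +kernel)) (cmm hF S (by decide +kernel))
    rw [(hT).terms_eq (by decide) (by decide), show gTerms tabF4.chain 33 30 = [(37, -1, 1, 1), (41, -1, 2, 1)] by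
      decide +kernel]; rfl
  · exact (hT).KK_of_Sg c hF.two ha

theorem kk' {a b : ℕ} (H : a < 48 ∧ b < 48 ∧ 0 ≤ tabF4.A a b) : c.KK S (f a) (f b) :=
  kk hF S c _ _ (by rw [hA H.1 H.2.1]; exact H.2.2)

include c in
theorem yb {r a0 b0 : ℕ} {Z : List (List ℕ)}
    (H : r < 48 ∧ a0 < 48 ∧ b0 < 48 ∧ a0 ≠ b0 ∧ a0 ≠ tabF4.neg b0 ∧ 0 < tabF4.A r a0 ∧ 0 < tabF4.A r b0 ∧
      gTerms tabF4.chain b0 a0 = [(r, -1, 1, 1)])
    (H' : ∀ a < 48, 0 < tabF4.A r a → ∀ b < 48, 0 < tabF4.A r b → 0 ≤ tabF4.A a b ∨ ∃ l ∈ Z,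
      (∀ k ∈ l, k < 4 ∧ tabF4.A r (tabF4.simple k) = 0) ∧ (tabF4.actW l (a0, 1)).1 = a ∧ (tabF4.actW l (a0, 1)).2 % 2 = 1 ∧
        (tabF4.actW l (b0, 1)).1 = b ∧ (tabF4.actW l (b0, 1)).2 % 2 = 1) :
    (∀ y ∈ CE.YB π S (f r), π y = 1 → y = 1) ∧ (CE.YB π S (f r)).map π = S.XS {f r} := by
  obtain ⟨h1, h2, h3, h4, h5, h6, h7, h8⟩ := H
  have e : ∀ w, ⁅S.x (f a0) 1, S.x (f b0) w⁆ = S.x (f r) (1 * w) := fun w => by
    simpa using S.comm_single ((hT).fin_ne h3 h2 h4) ((hT).fin_ne_neg h3 h2 h5) (z := f r) (k := -1)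
      (by rw [(hT).terms_eq h3 h2, h8]; rfl) w 1
  refine c.YB_ok one_ne_zero (by rwa [hA h1 h2]) (by rwa [hA h1 h3]) e (fun s hs => kk hF S c _ _ hs.le)
    fun a b ha hb t u => ?_
  have z0 : c.cm (S.x (f a0) 1) (S.x (f b0) 0) = 1 := by rw [S.x_zero, c.cm_one]
  rcases hF t with rfl | rfl
  · exact ⟨0, by rw [z0, S.x_zero]; exact c.cm_symm (c.cm_one _)⟩
  rcases hF u with rfl | rfl
  · exact ⟨0, by rw [z0, S.x_zero, c.cm_one]⟩
  rw [← (hT).fin_val a, hA h1 a.2] at ha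
  rw [← (hT).fin_val b, hA h1 b.2] at hb
  rcases H' a a.2 ha b b.2 hb with h | ⟨l, -, k1, k2, k3, k4, k5⟩
  · exact ⟨0, by rw [z0]; exact kk hF S c a b ((hT).A_eq a b ▸ h) 1 1⟩
  have n1 := ((hT).nw_conj S l (fun k hk => (k1 k hk).1) (a0, 1) h2 1).2
  have n2 := ((hT).nw_conj S l (fun k hk => (k1 k hk).1) (b0, 1) h3 1).2
  simp only [k2, k4, hF.odd k3, hF.odd k5, Int.cast_one, mul_one, Tab.Chk.fin_val] at n1 n2
  have hN : (l.map fun k => S.n (f (tabF4.simple k)) 1).prod ∈ c.Kc (S.x (f r) 1) :=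
    Subgroup.list_prod_mem _ fun g hg => by
      obtain ⟨k, hk, rfl⟩ := List.mem_map.1 hg
      have a1 : (hT).cd.A (f r) (f (tabF4.simple k)) = 0 := (hA h1 ((hT).simple_lt (k1 k hk).1)).trans (k1 k hk).2
      exact mul_mem (mul_mem (kk hF S c _ _ a1.ge _ _) (kk hF S c _ _ (by rw [RS.A_neg_right, a1]; rfl) _ _))
        (kk hF S c _ _ a1.ge _ _)
  obtain ⟨n, hn⟩ := c.surj (l.map fun k => S.n (f (tabF4.simple k)) 1).prod
  rw [← hn] at n1 n2 hN
  refine ⟨1, ?_⟩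
  rw [← mul_inv_eq_of_eq_mul n1, ← mul_inv_eq_of_eq_mul n2, c.cm_conj, ← (c.commute (b := n) (by
    rw [c.map_cm, e, mul_one]; exact hN)).eq, mul_inv_cancel_right]

include c in
theorem yb44 : (∀ y ∈ CE.YB π S (f 44), π y = 1 → y = 1) ∧ (CE.YB π S (f 44)).map π = S.XS {f 44} :=
  yb hF S c (a0 := 33) (b0 := 40) (Z := [[], [1], [2, 1], [3, 2, 1], [1, 2, 1], [3, 1, 2, 1], [2, 3, 1, 2, 1],
    [1, 2, 3, 1, 2, 1]]) (by decide +kernel) (by decide +kernel)

include c in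
theorem yb47 : (∀ y ∈ CE.YB π S (f 47), π y = 1 → y = 1) ∧ (CE.YB π S (f 47)).map π = S.XS {f 47} :=
  yb hF S c (a0 := 24) (b0 := 46) (Z := [[], [2], [1, 2], [2, 1, 2], [0, 1, 2], [2, 0, 1, 2], [1, 2, 0, 1, 2],
    [2, 1, 2, 0, 1, 2]]) (by decide +kernel) (by decide +kernel)

omit hF in
theorem t2941 : (hT).cd.terms (f 29) (f 41) = [(f 44, 1, 1, 1), (f 47, 1, 2, 1)] := by
  rw [(hT).terms_eq (by decide) (by decide), show gTerms tabF4.chain 29 41 = [(44, 1, 1, 1), (47, 1, 2, 1)] by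
    decide +kernel]; rfl

theorem lifts2 (hg : ∃ a ∈ CE.YB π S (f 44), ∃ b ∈ CE.YB π S (f 47), c.cm (S.x (f 41) 1) (S.x (f 29) 1) = a * b) :
    S.Lifts π := by
  refine (hT).lifts c (CE.YB π S) (fun _ _ => CE.YB_conj) (fun r hr => ?_)
    fun L hL r s hp e1 e2 => Or.inr (Or.inr ?_)
  · have : ∀ r : Fin chevF4.nroots, ((r : ℕ), (r : ℕ)) ∈ tabF4.reps → r = f 44 ∨ r = f 47 := by decide +kernel
    rcases this r hr with rfl | rfl
    exacts [yb44 hF S c, yb47 hF S c]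
  have p0 : L.P (f 29) (f 41) := Lf.P.symm fun a ha b hb => by
    obtain ⟨t, ht⟩ := L.exists_x ha
    obtain ⟨u, hu⟩ := L.exists_x hb
    obtain ⟨y, hy, z, hz, e⟩ := hg
    rw [← c.cm_eq, ht, hu, RS.cmb_comm]
    rcases hF t with rfl | rfl
    · rw [S.x_zero, c.cm_symm (c.cm_one _)]; exact one_mem _
    rcases hF u with rfl | rfl
    · rw [S.x_zero, c.cm_one]; exact one_mem _
    rw [e]
    exact mul_mem (L.le_YT (mem_cmb (c := (f 44, 1, 1, 1)) (by simp [t2941])) (hL ▸ hy))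
      (L.le_YT (mem_cmb (c := (f 47, 1, 2, 1)) (by simp [t2941])) (hL ▸ hz))
  have pw : ∀ l : List ℕ, (∀ k ∈ l, k < 4) → ∀ a b, a < 48 → b < 48 → (l.foldr tabF4.refl a < 48 ∧
      l.foldr tabF4.refl b < 48) ∧ (L.P (f (l.foldr tabF4.refl a)) (f (l.foldr tabF4.refl b)) → L.P (f a) (f b)) := by
    intro l hl a b ha hb
    induction l with
    | nil => exact ⟨⟨ha, hb⟩, id⟩
    | cons k l ih =>
      obtain ⟨⟨i1, i2⟩, i3⟩ := ih fun k hk => hl k (by simp [hk])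
      have hk := hl k (by simp)
      have e : ∀ a, a < 48 → f (tabF4.refl k a) = (hT).cd.s ⟨k, hk⟩ (f a) := fun a ha =>
        Fin.ext (((hT).val_fin ((hT).refl_lt hk ha)).trans (by erw [(hT).val_s, (hT).val_fin ha]))
      refine ⟨⟨(hT).refl_lt hk i1, (hT).refl_lt hk i2⟩, fun h => i3 (Lf.P.of_s c ⟨k, hk⟩ ?_)⟩
      rw [← e _ i1, ← e _ i2]; exact h
  have p1 : ∀ r s u : ℕ, r < 48 ∧ s < 48 ∧ u < 48 ∧ gTerms tabF4.chain r s = [(u, -1, 1, 1)] ∧ 0 < tabF4.A u r ∧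
      0 < tabF4.A u s → L.P (f r) (f s) := fun r s u ⟨h1, h2, h3, h4, h5, h6⟩ a ha b hb => by
    obtain ⟨t, ht⟩ := L.exists_x ha
    obtain ⟨v, hv⟩ := L.exists_x hb
    refine L.le_YT (mem_cmb (c := (f u, -1, 1, 1)) (by simp [(hT).terms_eq h1 h2, h4])) ?_
    rw [hL]
    exact Subgroup.commutator_mem_commutator (show π a ∈ S.XS _ from ht ▸ S.x_mem (h5.trans_eq (hA h3 h1).symm) _)
      (show π b ∈ S.XS _ from hv ▸ S.x_mem (h6.trans_eq (hA h3 h2).symm) _)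
  have key : ∀ q ∈ tabF4.reps, 0 ≤ tabF4.A q.1 q.2 ∨ q.2 = tabF4.neg q.1 ∨ q = (44, 6) ∨ q = (47, 18) ∨ q = (44, 14) ∨
      q = (47, 23) := by decide +kernel
  rcases key _ hp with h | h | h | h | h | h
  · exact L.P_of_KK c (kk hF S c r s ((hT).A_eq r s ▸ h))
  · exact absurd (Fin.ext (h.trans ((hT).val_neg r).symm)) e2
  all_goals
    obtain ⟨e1, e2⟩ := Prod.mk.inj h
    rw [← (hT).fin_val r, ← (hT).fin_val s, e1, e2]
  · refine (pw [0, 1, 2, 1, 0] (by simp) 44 6 (by decide) (by decide)).2 ?_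
    rwa [show List.foldr tabF4.refl 44 _ = 29 by decide +kernel, show List.foldr tabF4.refl 6 _ = 41 by decide +kernel]
  · refine ((pw [3, 2, 1, 2, 3] (by simp) 18 47 (by decide) (by decide)).2 ?_).symm
    rwa [show List.foldr tabF4.refl 18 _ = 29 by decide +kernel, show List.foldr tabF4.refl 47 _ = 41 by decide +kernel]
  · exact p1 44 14 40 (by decide +kernel)
  · exact p1 47 23 46 (by decide +kernel)

omit hF in
theorem r3 (hF : Two F) (S' : St0 (hT).cd F E) : S'.R3 := fun r t u ht hu => by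
  rw [(hF t).resolve_left ht, (hF u).resolve_left hu, mul_one, S'.h_one, mul_one]

include c in
theorem exists_g : ∃ g : E, π g = 1 ∧ g ^ 2 = 1 ∧ ∃ a ∈ CE.YB π S (f 44), ∃ b ∈ CE.YB π S (f 47),
    c.cm (S.x (f 41) 1) (S.x (f 29) 1) = g * (a * b) := by
  obtain ⟨a, ha, ea⟩ := (yb44 hF S c).2.ge (S.x_mem (Set.mem_singleton _) 1)
  obtain ⟨b, hb, eb⟩ := (yb47 hF S c).2.ge (S.x_mem (Set.mem_singleton _) 1)
  have sq : ∀ r, S.x r 1 * S.x r 1 = 1 := fun r => by rw [← S.x_add, hF.two', S.x_zero]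
  have e : π (c.cm (S.x (f 41) 1) (S.x (f 29) 1)) = π (a * b) := by
    have := S.comm_prod (r := f 29) (s := f 41) (by decide +kernel) (by decide +kernel) 1 1
    rw [t2941] at this
    simpa [c.map_cm, ea, eb, hF.neg] using this
  obtain ⟨g, hg, eg⟩ := c.exists_z e
  refine ⟨g, hg, ?_, a, ha, b, hb, eg⟩
  obtain ⟨p, hp⟩ := c.surj (S.x (f 29) 1)
  have h1 := c.cm_mul_right (S.x (f 41) 1) p (S.x (f 29) 1)
  have c1 : Commute p a := c.commute (by rw [hp, ea]; exact kk' hF S c (by decide +kernel) 1 1)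
  have c2 : Commute p b := c.commute (by rw [hp, eb]; exact kk' hF S c (by decide +kernel) 1 1)
  have c3 : Commute a b := c.commute (by rw [ea, eb]; exact kk' hF S c (by decide +kernel) 1 1)
  have a2 : a * a = 1 := (yb44 hF S c).1 _ (mul_mem ha ha) (by rw [map_mul, ea, sq])
  have b2 : b * b = 1 := (yb47 hF S c).1 _ (mul_mem hb hb) (by rw [map_mul, eb, sq])
  rw [hp, sq, c.cm_one, eg, (((c.cen g hg p).symm.mul_right (c1.mul_right c2))).eq, mul_inv_cancel_right,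
    ← pow_two, (c.cen g hg _).mul_pow, c3.mul_pow, pow_two a, pow_two b, a2, b2] at h1
  simpa using h1.symm

omit S in
theorem univ (S' : St0 (hT).cd F E) : ∃ φ : chevF4.group F →* E, ∀ r t, φ (((hT).grp F).x r t) = S'.x r t :=
  ((hT).grp_sc F (kerF4 F)).exists_hom_top ((hT).grp_Gr F) S' (r3 hF S')

omit S in
theorem bound [Finite E] {σ : E →* chevF4.group F} (hσ : Cfsg.IsStemExtension σ) : Nat.card σ.ker ∣ 2 := by
  have c := CE.of_ker hσ.1 hσ.2.1
  obtain ⟨g, hg, g2, a, ha, b, hb, e⟩ := exists_g hF ((hT).grp F) c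
  have hn : (Subgroup.zpowers g).Normal := ⟨fun x hx y => by
    obtain ⟨k, rfl⟩ := hx
    rw [← ((c.cen g hg y).zpow_left k).eq, mul_inv_cancel_right]; exact Subgroup.zpow_mem_zpowers g k⟩
  let q := QuotientGroup.mk' (Subgroup.zpowers g)
  have hq : Function.Surjective q := QuotientGroup.mk'_surjective _
  let σ' := QuotientGroup.lift (Subgroup.zpowers g) σ (Subgroup.zpowers_le.2 hg)
  have c' : CE σ' := ⟨fun y => let ⟨x, hx⟩ := c.surj y; ⟨q x, hx⟩, fun z hz y => by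
    obtain ⟨z, rfl⟩ := hq z
    obtain ⟨y, rfl⟩ := hq y
    exact (c.cen z hz y).map q⟩
  have m : ∀ r, ∀ y ∈ CE.YB σ ((hT).grp F) r, q y ∈ CE.YB σ' ((hT).grp F) r := fun r y hy => by
    have := Subgroup.mem_map_of_mem q hy
    rw [CE.YB, Subgroup.map_commutator] at this
    exact Subgroup.commutator_mono (by rintro _ ⟨x, hx, rfl⟩; exact hx) (by rintro _ ⟨x, hx, rfl⟩; exact hx) this
  obtain ⟨S', hS⟩ := lifts2 hF ((hT).grp F) c' ⟨_, m _ a ha, _, m _ b hb, by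
    obtain ⟨x, hx⟩ := c.surj (((hT).grp F).x (f 41) 1)
    obtain ⟨y, hy⟩ := c.surj (((hT).grp F).x (f 29) 1)
    rw [← hx, ← hy, c.cm_eq] at e
    rw [← hx, ← hy]
    refine (c'.cm_eq (q x) (q y)).trans ?_
    rw [← map_commutatorElement, e, map_mul, map_mul,
      show q g = 1 from (QuotientGroup.eq_one_iff g).2 (Subgroup.mem_zpowers g), one_mul]⟩
  obtain ⟨s, hs⟩ := univ hF S'
  have h3 : σ'.comp s = MonoidHom.id _ := ((hT).grp F).hom_ext_simple ((hT).grp_Gr F) fun i t => by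
    simp [hs, hS]
  have h4 : commutator E ≤ s.range.comap q := Subgroup.commutator_le.2 fun x _ y _ => ⟨⁅σ x, σ y⁆, by
    rw [map_commutatorElement, map_commutatorElement]
    exact c'.comm_eq (DFunLike.congr_fun h3 _) (DFunLike.congr_fun h3 _)⟩
  have h5 : σ.ker ≤ Subgroup.zpowers g := fun z hz => by
    obtain ⟨y, hy⟩ := h4 (hσ.2.2 hz)
    have : y = 1 := (DFunLike.congr_fun h3 y).symm.trans (by rw [MonoidHom.comp_apply, hy]; exact hz)
    rw [this, map_one] at hy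
    exact (QuotientGroup.eq_one_iff z).1 hy.symm
  exact (Subgroup.card_dvd_of_le h5).trans (by rw [Nat.card_zpowers]; exact orderOf_dvd_of_pow_eq_one g2)

end H7.F42
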