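import Cfsg.Agent.H7.F4a
import Cfsg.Agent.H24.Aut3
import Cfsg.Agent.H29.Cov

/-! The double cover of `F4(2)` from a projective representation. -/

set_option linter.unusedSectionVars false
set_option maxHeartbeats 400000
set_option synthInstance.maxSize 1024
set_option autoImplicit false

namespace H7.F42
open H24 H24.St0 Cfsg.Lie
open scoped commutatorElement

local notation "hT" => tabF4_chk
local notation "f" => Tab.Chk.fin tabF4_chk

/-- value of a word -/
def ev {H : Type*} [Group H] (y : ℕ → H) (w : List ℕ) : H := (w.map y).prod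

theorem ev_cons {H : Type*} [Group H] (y : ℕ → H) (a : ℕ) (w : List ℕ) : ev y (a :: w) = y a * ev y w := rfl

theorem map_ev {H K : Type*} [Group H] [Group K] (φ : H →* K) (y : ℕ → H) (w : List ℕ) :
    φ (ev y w) = ev (fun a => φ (y a)) w := by
  rw [ev, map_list_prod, List.map_map]; rfl

theorem ev_congr {H : Type*} [Group H] {y y' : ℕ → H} {w : List ℕ} (h : ∀ a ∈ w, y a = y' a) : ev y w = ev y' w := by
  rw [ev, List.map_congr_left h]; rfl

/-- the roots of the commutator formula in characteristic two -/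
noncomputable def tl (r s : ℕ) : List ℕ := ((gTerms tabF4.chain r s).filter fun c => c.2.1 % 2 = 1).map Prod.fst

variable {F : Type*} [Field F] (hF : Two F)
include hF

theorem prod_terms {K : Type*} [Group K] (X : Fin chevF4.nroots → F → K) (h0 : ∀ r, X r 0 = 1)
    (r s : Fin chevF4.nroots) : (((hT).cd.terms r s).map fun c =>
      X c.1 ((c.2.1 : F) * (-1) ^ c.2.2.1 * 1 ^ c.2.2.2)).prod = ev (fun a => X (f a) 1) (tl r s) := by
  change (((gTerms tabF4.chain r s).map fun c => (f c.1, c.2)).map _).prod = _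
  unfold tl
  induction gTerms tabF4.chain r s with
  | nil => rfl
  | cons a l ih =>
    rw [List.map_cons, List.map_cons, List.prod_cons, ih, List.filter_cons]
    rcases Int.emod_two_eq_zero_or_one a.2.1 with h | h
    · simp [h, hF.even h, h0]
    · simp [h, hF.odd h, hF.neg, ev_cons]

omit hF

theorem tl_lt (r s : Fin chevF4.nroots) : ∀ a ∈ tl r s, a < 48 := fun a ha => by
  obtain ⟨c, hc, rfl⟩ := List.mem_map.1 ha
  exact ((hT).gTerms_spec r s c (List.mem_filter.1 hc).1).1

theorem cover.{u} {F : Type u} [Field F] [Finite F] (hF : Two F) {H : Type} [Group H] [Finite H] (y : ℕ → H)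
    (hz : ∀ g, Commute (y 52) g) (hz1 : y 52 ≠ 1) (h1 : ∀ r < 48, ev y [r, r] = ev y [])
    (h2 : ∀ i < 4, ∀ r < 48, ev y [48 + i, r] = ev y [tabF4.refl i r, 48 + i])
    (h3 : ∀ q ∈ tabF4.reps, q.2 = q.1 ∨ q.2 = tabF4.neg q.1 ∨ ev y [q.2, q.1] = ev y (q.1 :: q.2 :: tl q.1 q.2) ∨
      ev y [q.2, q.1] = ev y (52 :: q.1 :: q.2 :: tl q.1 q.2))
    (h4 : ev y [41, 29] = ev y [52, 29, 41, 44, 47]) (h5 : ev y [40, 33] = ev y [33, 40, 44])
    (h6 : ev y [46, 24] = ev y [24, 46, 47]) :
    ∃ (Γ : Type u) (_ : Group Γ) (_ : Finite Γ) (σ : Γ →* chevF4.group F),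
      Cfsg.IsStemExtension σ ∧ Nat.card σ.ker ≠ 1 := by
  classical
  have hn : (Subgroup.zpowers (y 52)).Normal := ⟨fun x hx g => by
    obtain ⟨k, rfl⟩ := hx
    rw [← ((hz g).zpow_left k).eq, mul_inv_cancel_right]; exact Subgroup.zpow_mem_zpowers _ k⟩
  let q := QuotientGroup.mk' (Subgroup.zpowers (y 52))
  have qz : q (y 52) = 1 := (QuotientGroup.eq_one_iff _).2 (Subgroup.mem_zpowers _)
  let X : Fin chevF4.nroots → F → H ⧸ Subgroup.zpowers (y 52) := fun r t => if t = 0 then 1 else q (y r)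
  have X0 : ∀ r, X r 0 = 1 := fun r => if_pos rfl
  have X1 : ∀ r, X r 1 = q (y r) := fun r => if_neg one_ne_zero
  let S' : St0 (hT).cd F (H ⧸ Subgroup.zpowers (y 52)) := (hT).ofReps X (fun r t u => by
      rcases hF t with rfl | rfl
      · rw [zero_add, X0, one_mul]
      rcases hF u with rfl | rfl
      · rw [add_zero, X0, mul_one]
      rw [hF.two', X0, X1, ← map_mul]
      simpa [ev] using congrArg q (h1 r r.2).symm) (fun i => q (y (48 + i))) (fun i r t => by
      rcases hF t with rfl | rfl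
      · simp [X0]
      have : (tabF4.eta i r : F) = 1 := by rcases tabF4.eta_eq i r with e | e <;> simp [e, hF.neg]
      rw [this, mul_one, X1, X1, (hT).val_s]
      simpa [ev] using congrArg q (h2 i i.2 r r.2)) fun r s hp e1 e2 t u => by
      have z : t = 0 ∨ u = 0 → (((hT).cd.terms r s).map fun c =>
          X c.1 ((c.2.1 : F) * (-t) ^ c.2.2.1 * u ^ c.2.2.2)).prod = 1 := fun h => List.prod_eq_one fun g hg => by
        obtain ⟨c, hc, rfl⟩ := List.mem_map.1 hg
        obtain ⟨-, a, b⟩ := (hT).cd.terms_rt r s c hc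
        rcases h with rfl | rfl <;> simp [a.ne', b.ne', X0]
      rcases hF t with rfl | rfl
      · rw [z (Or.inl rfl)]; simp [X0]
      rcases hF u with rfl | rfl
      · rw [z (Or.inr rfl)]; simp [X0]
      rw [prod_terms hF X X0, ev_congr (y' := fun a => q (y a)) fun a ha => by
        rw [X1, (hT).val_fin (tl_lt r s a ha)], ← map_ev, X1, X1]
      rcases h3 _ hp with h | h | h | h
      · exact absurd (Fin.ext h) e1
      · exact absurd (Fin.ext (h.trans ((hT).val_neg r).symm)) e2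
      · simpa [ev_cons, mul_assoc, ev] using congrArg q h
      · simpa [ev_cons, mul_assoc, ev, qz] using congrArg q h
  obtain ⟨φ, hφ⟩ := univ hF S'
  have := (hT).finite_grp F
  let Γ : Subgroup (chevF4.group F × H) := (φ.comp (MonoidHom.fst _ _)).eqLocus (q.comp (MonoidHom.snd _ _))
  let σ : Γ →* chevF4.group F := (MonoidHom.fst _ _).comp Γ.subtype
  let ζ : Γ := ⟨(1, y 52), (map_one φ).trans qz.symm⟩
  have hk : σ.ker ≤ Subgroup.zpowers ζ := fun g hg => by
    have e : g.1.1 = 1 := hg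
    have e2 : φ g.1.1 = q g.1.2 := g.2
    rw [e, map_one] at e2
    obtain ⟨k, hk⟩ := (QuotientGroup.eq_one_iff _).1 e2.symm
    exact ⟨k, Subtype.ext (Prod.ext (by simp [ζ, e]) (by simpa [ζ] using hk))⟩
  let γ : ∀ a, a < 48 → Γ := fun a ha => ⟨(((hT).grp F).x (f a) 1, y a), (hφ _ _).trans (by
    change X _ _ = q (y a); rw [X1, (hT).val_fin ha])⟩
  have rel : ∀ a b, a < 48 ∧ b < 48 ∧ b ≠ a ∧ b ≠ tabF4.neg a → ((hT).grp F).x (f b) 1 * ((hT).grp F).x (f a) 1 =
      ((hT).grp F).x (f a) 1 * ((hT).grp F).x (f b) 1 * ev (fun a => ((hT).grp F).x (f a) 1) (tl a b) :=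
    fun a b ⟨ha, hb, e1, e2⟩ => by
      have := prod_terms hF ((hT).grp F).x ((hT).grp F).x_zero (f a) (f b)
      rw [(hT).val_fin ha, (hT).val_fin hb] at this
      rw [← this]
      exact ((hT).grp F).comm _ _ 1 1 ((hT).fin_ne ha hb e1) ((hT).fin_ne_neg ha hb e2)
  have r1 := rel 29 41 (by decide)
  have r2 := rel 33 40 (by decide)
  have r3 := rel 24 46 (by decide)
  rw [show tl 29 41 = [44, 47] by decide +kernel] at r1
  rw [show tl 33 40 = [44] by decide +kernel] at r2
  rw [show tl 24 46 = [47] by decide +kernel] at r3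
  have g1 : γ 41 (by decide) * γ 29 (by decide) =
      ζ * (γ 29 (by decide) * (γ 41 (by decide) * (γ 44 (by decide) * γ 47 (by decide)))) :=
    Subtype.ext (Prod.ext (by simpa [γ, ζ, ev, mul_assoc] using r1) (by simpa [γ, ζ, ev] using h4))
  have g2 : γ 40 (by decide) * γ 33 (by decide) = γ 33 (by decide) * (γ 40 (by decide) * γ 44 (by decide)) :=
    Subtype.ext (Prod.ext (by simpa [γ, ev, mul_assoc] using r2) (by simpa [γ, ev] using h5))
  have g3 : γ 46 (by decide) * γ 24 (by decide) = γ 24 (by decide) * (γ 46 (by decide) * γ 47 (by decide)) :=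
    Subtype.ext (Prod.ext (by simpa [γ, ev, mul_assoc] using r3) (by simpa [γ, ev] using h6))
  have hζ : ζ ∈ commutator Γ := by
    have a1 := congrArg Abelianization.of g1
    have a2 := congrArg Abelianization.of g2
    have a3 := congrArg Abelianization.of g3
    simp only [map_mul] at a1 a2 a3
    rw [mul_left_comm, ← mul_assoc, left_eq_mul] at a2 a3
    rw [a2, a3, mul_one, mul_one, mul_comm, right_eq_mul] at a1
    rwa [← Abelianization.ker_of]
  refine ⟨Γ, inferInstance, inferInstance, σ, ⟨fun g => ?_, hk.trans (Subgroup.zpowers_le.2 ?_),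
    hk.trans (Subgroup.zpowers_le.2 hζ)⟩, fun h => hz1 ?_⟩
  · obtain ⟨x, hx⟩ := QuotientGroup.mk'_surjective _ (φ g)
    exact ⟨⟨(g, x), hx.symm⟩, rfl⟩
  · exact Subgroup.mem_center_iff.2 fun g => Subtype.ext (Prod.ext (by simp [ζ]) (hz _).eq.symm)
  · have := (Subgroup.card_eq_one.1 h).le (show ζ ∈ σ.ker from rfl)
    exact congrArg (fun g : Γ => g.1.2) (Subgroup.mem_bot.1 this)

open H29 in
/-- value of a word on codes -/
noncomputable def evc (mul : ℕ → ℕ → ℕ) (one : ℕ) (L w : List ℕ) : ℕ :=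
  List.rec one (fun a _ ih => force (lgetD one L a) fun x => force ih fun y => mul x y) w

/-- two words have the same code -/
noncomputable def eqW (mul : ℕ → ℕ → ℕ) (one : ℕ) (L w w' : List ℕ) : Bool := Nat.beq (evc mul one L w) (evc mul one L w')

open H29 in
theorem cover_of.{u} {F : Type u} [Field F] [Finite F] (hF : Two F) {p n : ℕ} [NeZero p] (a : Ar p n) {L : List ℕ}
    (h0 : a.invOK L L = true) (hl : L.length = 53) (hz : ∀ i < 53, eqW a.mul a.one L [52, i] [i, 52] = true)
    (hz1 : eqW a.mul a.one L [52] [] = false) (h1 : ∀ r < 48, eqW a.mul a.one L [r, r] [] = true)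
    (h2 : ∀ i < 4, ∀ r < 48, eqW a.mul a.one L [48 + i, r] [tabF4.refl i r, 48 + i] = true)
    (h3 : ∀ q ∈ tabF4.reps, q.2 = q.1 ∨ q.2 = tabF4.neg q.1 ∨
      eqW a.mul a.one L [q.2, q.1] (q.1 :: q.2 :: tl q.1 q.2) = true ∨
      eqW a.mul a.one L [q.2, q.1] (52 :: q.1 :: q.2 :: tl q.1 q.2) = true)
    (h4 : eqW a.mul a.one L [41, 29] [52, 29, 41, 44, 47] = true) (h5 : eqW a.mul a.one L [40, 33] [33, 40, 44] = true)
    (h6 : eqW a.mul a.one L [46, 24] [24, 46, 47] = true) :
    ∃ (Γ : Type u) (_ : Group Γ) (_ : Finite Γ) (σ : Γ →* chevF4.group F),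
      Cfsg.IsStemExtension σ ∧ Nat.card σ.ker ≠ 1 := by
  have k : ∀ i, ∃ g, a.gM.R (lgetD a.one L i) g := fun i => by
    rcases lgetD_mem_or a.one L i with h | h
    · obtain ⟨g, -, hg⟩ := a.gM_in h0 _ h
      exact ⟨g, hg⟩
    · exact ⟨1, by rw [h]; exact a.gM.R_one⟩
  choose Y hY using k
  have e : ∀ w, a.gM.R (evc a.mul a.one L w) (ev Y w) := fun w => by
    induction w with
    | nil => exact a.gM.R_one
    | cons b w ih => exact a.gM.R_mul (hY b) ih
  have e1 : ∀ {w w'}, eqW a.mul a.one L w w' = true → ev Y w = ev Y w' := fun h => a.gM.eq_of (e _) (e _) h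
  have c : ∀ i, Y i ∈ Subgroup.centralizer {Y 52} := fun i => Subgroup.mem_centralizer_singleton_iff.2 (by
    by_cases hi : i < 53
    · simpa [ev] using (e1 (hz i hi)).symm
    · have := hY i
      rw [lgetD_eq, List.getD_eq_default _ _ (by omega)] at this
      rw [a.gM.unique this a.gM.R_one]; simp)
  have e2 : ∀ {w w'}, eqW a.mul a.one L w w' = true → ev (fun i => (⟨Y i, c i⟩ : Subgroup.centralizer {Y 52})) w =
      ev (fun i => ⟨Y i, c i⟩) w' := fun h => Subtype.ext
    ((map_ev (Subgroup.subtype _) _ _).trans ((e1 h).trans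
      (map_ev (Subgroup.subtype _) (fun i => (⟨Y i, c i⟩ : Subgroup.centralizer {Y 52})) _).symm))
  refine cover hF (fun i => (⟨Y i, c i⟩ : Subgroup.centralizer {Y 52}))
    (fun g => Subtype.ext (Subgroup.mem_centralizer_singleton_iff.1 g.2).symm)
    (fun h => a.gM.ne_of (e _) (e _) hz1 (by simpa [ev] using congrArg Subtype.val h)) (fun r hr => e2 (h1 r hr))
    (fun i hi r hr => e2 (h2 i hi r hr)) (fun q hq => (h3 q hq).imp_right (Or.imp_right (Or.imp e2 e2)))
    (e2 h4) (e2 h5) (e2 h6)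

end H7.F42
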