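import Cfsg.Agent.H5.Wielandt
import Cfsg.Agent.H1.Fitting

/-! Flavell's generalisation of Wielandt's zipper lemma and consequences. -/

namespace H7

open Subgroup H5
open scoped commutatorElement

variable {G : Type*} [Group G]

theorem isCoatom_cj5 {M : Subgroup G} (h : IsCoatom M) (g : G) : IsCoatom (cj g M) := by
  refine ⟨fun h1 => h.1 ?_, fun X hX => ?_⟩
  · rw [← cj_inv_cj g M, h1, cj_top]
  · have h2 : M < cj g⁻¹ X := by
      refine lt_of_le_of_ne ?_ fun h3 => hX.ne ?_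
      · rw [← cj_inv_cj g M]; exact cj_mono hX.le
      · rw [h3, cj_cj_inv]
    rw [← cj_cj_inv g X, h.2 _ h2, cj_top]

theorem mem_of_cj_coatom {C N : Subgroup G} (hN : IsCoatom N) (hC : C ≤ N) (h : ncl C ⊤ = ⊤)
    {g : G} (hg : cj g N = N) : g ∈ N := by
  have h1 : g ∈ normalizer (N : Set G) := cj_eq_self_iff.1 hg
  rcases (le_normalizer : N ≤ normalizer (N : Set G)).eq_or_lt with h2 | h2
  · rwa [← h2] at h1
  · have h3 := hN.2 _ h2
    have : ncl C ⊤ ≤ N := ncl_le hC h3.ge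
    exact absurd (top_le_iff.1 (h ▸ this)) hN.1

/-- the configuration of a minimal counterexample to Flavell's theorem -/
structure FlP (n : ℕ) (C N : Subgroup G) : Prop where
  card : Nat.card C = n
  ncl : ncl C ⊤ = ⊤
  le : C ≤ N
  co : IsCoatom N
  nsn : ¬ SN C N
  sn : ∀ H, IsCoatom H → C ≤ H → H ≠ N → SN C H

theorem FlP.cj {n : ℕ} {C N : Subgroup G} (h : FlP n C N) (g : G) :
    FlP n (cj g C) (cj g N) where
  card := by rw [card_cj, h.card]
  ncl := by
    have := cj_ncl g C ⊤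
    rw [h.ncl, cj_top] at this
    exact this.symm
  le := cj_mono h.le
  co := isCoatom_cj5 h.co g
  nsn := fun h1 => h.nsn (by simpa only [cj_inv_cj] using h1.cj g⁻¹)
  sn := fun H hH hle hne => by
    have h1 := h.sn (H5.cj g⁻¹ H) (isCoatom_cj5 hH _)
      (by rw [← cj_inv_cj g C]; exact cj_mono hle)
      (fun h2 => hne (by rw [← h2, cj_cj_inv]))
    simpa only [cj_cj_inv] using h1.cj g

theorem FlP.uniq {n : ℕ} {C N N' : Subgroup G} (h : FlP n C N) (h' : FlP n C N') : N = N' := by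
  by_contra hne
  exact h.nsn (h'.sn N h.co h.le hne)

theorem FlP.norm_le {n : ℕ} {C N : Subgroup G} (h : FlP n C N) :
    normalizer (C : Set G) ≤ N := by
  intro g hg
  have h1 := h.cj g
  rw [cj_eq_of_mem_normalizer hg] at h1
  exact mem_of_cj_coatom h.co h.le h.ncl (h1.uniq h)

/-- contained in two distinct maximal subgroups -/
def Two (C : Subgroup G) : Prop :=
  ∃ H K : Subgroup G, IsCoatom H ∧ IsCoatom K ∧ H ≠ K ∧ C ≤ H ∧ C ≤ K

theorem Two.mono {C D : Subgroup G} (h : Two D) (hle : C ≤ D) : Two C := by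
  obtain ⟨H, K, a, b, c, d, e⟩ := h
  exact ⟨H, K, a, b, c, hle.trans d, hle.trans e⟩

theorem Two.exists_ne {C : Subgroup G} (h : Two C) (N : Subgroup G) :
    ∃ H, IsCoatom H ∧ C ≤ H ∧ H ≠ N := by
  obtain ⟨H, K, a, b, c, d, e⟩ := h
  by_cases hH : H = N
  · exact ⟨K, b, e, fun h => c (hH.trans h.symm)⟩
  · exact ⟨H, a, d, hH⟩

/-- the induction hypothesis -/
def FlIH (G : Type*) [Group G] (n : ℕ) : Prop :=
  ∀ J M : Subgroup G, n < Nat.card J → Two J →
    (∀ H, IsCoatom H → J ≤ H → H ≠ M → SN J H) → ncl J ⊤ ≠ ⊤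

theorem FlP.two [Finite G] {n : ℕ} (ih : FlIH G n) {C N C' N' : Subgroup G} (h : FlP n C N)
    (h' : FlP n C' N') (hne : C ≠ C') (h2 : Two (C ⊔ C')) : N ≠ N' ∧ C ≤ N' := by
  have hlt : C < C ⊔ C' := by
    refine lt_of_le_of_ne le_sup_left fun h3 => hne ?_
    have h4 : C' ≤ C := by rw [h3]; exact le_sup_right
    exact (eq_of_le_of_card_ge h4 (by rw [h.card, h'.card])).symm
  have hc : n < Nat.card (C ⊔ C' : Subgroup G) := h.card ▸ H1.card_lt_of_lt hlt
  have hn : H5.ncl (C ⊔ C') ⊤ = ⊤ :=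
    top_le_iff.1 (h.ncl.ge.trans (ncl_mono le_sup_left le_rfl))
  constructor
  · rintro rfl
    refine ih _ N hc h2 (fun H hH hle hHN => ?_) hn
    exact (h.sn H hH (le_sup_left.trans hle) hHN).sup (h'.sn H hH (le_sup_right.trans hle) hHN)
  · by_contra hC
    refine ih _ N hc h2 (fun H hH hle hHN => ?_) hn
    refine (h.sn H hH (le_sup_left.trans hle) hHN).sup
      (h'.sn H hH (le_sup_right.trans hle) ?_)
    rintro rfl
    exact hC (le_sup_left.trans hle)

/-- the join of all configuration subgroups inside `D` other than `C` -/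
def flOth (n : ℕ) (D C : Subgroup G) : Subgroup G :=
  sSup {B | B ≤ D ∧ B ≠ C ∧ ∃ N, FlP n B N}

theorem fl_step [Finite G] {n : ℕ} (ih : FlIH G n) {D C N B N' : Subgroup G}
    (hD : D = sSup {B | B ≤ D ∧ ∃ N, FlP n B N}) (h2 : Two D)
    (hmax : ∀ E X N : Subgroup G, FlP n X N → E = D ⊔ X → Two E → X ≤ D)
    (h : FlP n C N) (hC : C ≤ D) (hB : FlP n B N') (hBD : B ≤ D) (hBC : B ≠ C)
    {H : Subgroup G} (hH : IsCoatom H) (hle : normalizer (D : Set G) ≤ H) : H = N := by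
  set F := flOth n D C with hF
  have hFD : F ≤ D := sSup_le fun X hX => hX.1
  have hmem : ∀ X N₁, FlP n X N₁ → X ≤ D → X ≠ C → X ≤ F := fun X N₁ a b c =>
    le_sSup (s := {B | B ≤ D ∧ B ≠ C ∧ ∃ N, FlP n B N}) ⟨b, c, N₁, a⟩
  have hoth : ∀ X N₁, FlP n X N₁ → X ≤ D → X ≠ C → N₁ ≠ N ∧ X ≤ N ∧ C ≤ N₁ := by
    intro X N₁ a b c
    have h3 := a.two ih h c (h2.mono (sup_le b hC))
    have h4 := h.two ih a c.symm (h2.mono (sup_le hC b))
    exact ⟨h3.1, h3.2, h4.2⟩
  have hsn : SN F N := by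
    refine SN.sSup fun X hX => ?_
    obtain ⟨b, c, N₁, a⟩ := hX
    obtain ⟨d, e, -⟩ := hoth X N₁ a b c
    exact a.sn N h.co e d.symm
  have hCF : ¬ C ≤ F := by
    intro h3
    obtain ⟨K, hK, hDK, hKN⟩ := h2.exists_ne N
    exact h.nsn (((h.sn K hK (hC.trans hDK) hKN).mono h3 (hFD.trans hDK)).trans hsn)
  have hDeq : D = C ⊔ F := by
    refine le_antisymm ?_ (sup_le hC hFD)
    conv_lhs => rw [hD]
    refine sSup_le fun X hX => ?_
    obtain ⟨b, N₁, a⟩ := hX
    by_cases c : X = C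
    · rw [c]; exact le_sup_left
    · exact (hmem X N₁ a b c).trans le_sup_right
  have hDN : D ≤ N := by rw [hDeq]; exact sup_le h.le hsn.le
  have hnorm : N ⊓ normalizer (F : Set G) ≤ normalizer (C : Set G) := by
    rintro g ⟨hgN, hgF⟩
    rw [← cj_eq_self_iff]
    by_contra hne
    have hBF := hmem B N' hB hBD hBC
    have h3 : cj g⁻¹ B ≤ F := cj_le_of_le hBF (inv_mem hgF)
    have h4 := hoth _ _ (hB.cj g⁻¹) (h3.trans hFD) (fun h5 => hCF (h5 ▸ h3))
    have h5 : cj g C ≤ N' := by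
      rw [← cj_cj_inv g N']; exact cj_mono h4.2.2
    have h6 := hoth B N' hB hBD hBC
    have h7 := h.cj g
    rw [cj_eq_of_mem hgN] at h7
    exact (h7.two ih h hne ⟨N, N', h.co, hB.co, h6.1.symm, sup_le h7.le h.le,
      sup_le h5 h6.2.2⟩).1 rfl
  have hnormD : N ⊓ normalizer (F : Set G) ≤ normalizer (D : Set G) := by
    rw [hDeq]; exact le_normalizer_sup hnorm inf_le_right
  have hnn : ¬ N ≤ normalizer (F : Set G) := by
    intro h3
    exact h.nsn (SN.of_normal h.le ((le_inf le_rfl h3).trans hnorm))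
  obtain ⟨y, hyN, hy1, hy2⟩ := hsn.exists_cj_ne_le_normalizer hnn
  have hy3 : cj y F ≤ N := cj_le_of_le hsn.le (le_normalizer hyN)
  have hy4 : ¬ cj y F ≤ F := fun h3 =>
    hy1 (eq_of_le_of_card_ge h3 (by rw [card_cj]))
  have hy5 : ∃ X N₁, FlP n X N₁ ∧ X ≤ D ∧ X ≠ C ∧ ¬ cj y X ≤ F := by
    by_contra h3
    push Not at h3
    apply hy4
    rw [map_le_iff_le_comap]
    refine sSup_le fun X hX => ?_
    obtain ⟨b, c, N₁, a⟩ := hX
    rw [← map_le_iff_le_comap]
    exact h3 X N₁ a b c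
  obtain ⟨X, N₁, a, b, c, d⟩ := hy5
  have hXF : cj y X ≤ cj y F := cj_mono (hmem X N₁ a b c)
  have hXD : ¬ cj y X ≤ D := by
    intro h3
    refine d (hmem _ _ (a.cj y) h3 fun h4 => ?_)
    have h5 := a.cj y
    rw [h4] at h5
    have h6 := h5.uniq h
    apply (hoth X N₁ a b c).1
    rw [← cj_inv_cj y N₁, h6, cj_eq_of_mem (inv_mem hyN)]
  by_contra hHN
  refine hXD (hmax _ _ _ (a.cj y) rfl ⟨H, N, hH, h.co, hHN, ?_, sup_le hDN (hXF.trans hy3)⟩)
  refine le_trans (sup_le le_normalizer ?_) hle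
  exact (le_inf (hXF.trans hy3) (hXF.trans hy2)).trans hnormD

theorem flavell_aux [Finite G] {n : ℕ} (ih : FlIH G n) {A M : Subgroup G} (h : FlP n A M)
    (h2 : Two A) : False := by
  obtain ⟨D, ⟨hD, hD2⟩, hAD, hmax⟩ := H1.exists_maximal_ge
    (fun D : Subgroup G => D = sSup {B | B ≤ D ∧ ∃ N, FlP n B N} ∧ Two D) (N := A)
    ⟨le_antisymm (le_sSup (s := {B | B ≤ A ∧ ∃ N, FlP n B N}) ⟨le_rfl, M, h⟩)
      (sSup_le fun X hX => hX.1), h2⟩
  have hmax' : ∀ E X N : Subgroup G, FlP n X N → E = D ⊔ X → Two E → X ≤ D := by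
    rintro E X N a rfl b
    have := hmax (D ⊔ X) ⟨le_antisymm (sup_le ?_ ?_) (sSup_le fun X hX => hX.1), b⟩ le_sup_left
    · rw [← this]; exact le_sup_right
    · conv_lhs => rw [hD]
      exact sSup_le_sSup fun Y hY => ⟨hY.1.trans le_sup_left, hY.2⟩
    · exact le_sSup (s := {B | B ≤ D ⊔ X ∧ ∃ N, FlP n B N}) ⟨le_sup_right, N, a⟩
  by_cases hB : ∃ B N', FlP n B N' ∧ B ≤ D ∧ B ≠ A
  · obtain ⟨B, N', a, b, c⟩ := hB
    have hnt : normalizer (D : Set G) ≠ ⊤ := by
      intro h3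
      have h4 : ncl A ⊤ ≤ D := ncl_le hAD h3.ge
      obtain ⟨K, hK, hDK, -⟩ := hD2.exists_ne M
      rw [h.ncl] at h4
      exact hK.1 (top_le_iff.1 (h4.trans hDK))
    obtain ⟨H, hH, hle⟩ := H1.exists_coatom_ge hnt
    have h3 := fl_step ih hD hD2 hmax' h hAD a b c hH hle
    have h4 := fl_step ih hD hD2 hmax' a b h hAD c.symm hH hle
    exact (h.two ih a c.symm (hD2.mono (sup_le hAD b))).1 (h3.symm.trans h4)
  · push Not at hB
    have hDA : D = A := by
      refine le_antisymm ?_ hAD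
      conv_lhs => rw [hD]
      refine sSup_le fun X hX => ?_
      obtain ⟨b, N₁, a⟩ := hX
      exact (hB X N₁ a b).le
    subst hDA
    obtain ⟨H, hH, hle, hne⟩ := h2.exists_ne M
    have hnn : ¬ H ≤ normalizer (D : Set G) := by
      intro h3
      exact hne ((hH.le_iff.1 (h3.trans h.norm_le)).resolve_left h.co.1).symm
    obtain ⟨x, hx, hx1, hx2⟩ := (h.sn H hH hle hne).exists_cj_ne_le_normalizer hnn
    have h3 := hmax' _ _ _ (h.cj x) rfl ⟨H, M, hH, h.co, hne,
      sup_le hle (cj_le_of_le hle (le_normalizer hx)), sup_le h.le (hx2.trans h.norm_le)⟩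
    exact hx1 (hB _ _ (h.cj x) h3)

/-- Flavell's theorem -/
theorem flavell [Finite G] (A M : Subgroup G) (h2 : Two A)
    (h : ∀ H, IsCoatom H → A ≤ H → H ≠ M → SN A H) : ncl A ⊤ ≠ ⊤ := by
  have key : ∀ k n : ℕ, n + k = Nat.card G → FlIH G n := by
    intro k
    induction k with
    | zero =>
      intro n hn J M hJ
      have := card_le_card_group J
      omega
    | succ k ihk =>
      intro n hn J M hJ hJ2 hsn hncl
      have ih := ihk (n + 1) (by omega)
      by_cases hc : n + 1 < Nat.card J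
      · exact ih J M hc hJ2 hsn hncl
      by_cases hM : IsCoatom M ∧ J ≤ M ∧ ¬ SN J M
      · exact flavell_aux ih (A := J) (M := M) ⟨by omega, hncl, hM.2.1, hM.1, hM.2.2, hsn⟩ hJ2
      · have hall : ∀ H, IsCoatom H → J ≤ H → SN J H := by
          intro H a b
          by_cases c : H = M
          · subst c
            by_contra d
            exact hM ⟨a, b, d⟩
          · exact hsn H a b c
        obtain ⟨H, K, a, b, c, d, e⟩ := hJ2
        by_cases hs : SN J ⊤
        · exact (hs.ncl_lt fun h3 => a.1 (top_le_iff.1 (h3 ▸ d))).ne hncl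
        · refine c (zipper le_top (fun X hX1 hX2 => ?_) hs (maxIn_top_iff.2 a)
            (maxIn_top_iff.2 b) d e)
          obtain ⟨Y, hY, hXY⟩ := H1.exists_coatom_ge hX2.ne
          exact (hall Y hY (hX1.trans hXY)).mono hX1 hXY
  exact key (Nat.card G) 0 (by simp) A M Nat.card_pos h2 h

theorem exists_snClosure [Finite G] {A H : Subgroup G} (h : A ≤ H) :
    ∃ B, A ≤ B ∧ SN B H ∧ ncl A B = B := by
  obtain ⟨B, ⟨h1, h2⟩, -, h3⟩ := H1.exists_minimal_le (fun B => A ≤ B ∧ SN B H) (N := H)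
    ⟨h, SN.refl H⟩
  have h4 : ncl A B ≤ B := ncl_le_of_le h1 le_rfl
  exact ⟨B, h1, h2, h3 _ ⟨le_ncl _ _, SN.step h4 (right_le_normalizer_ncl _ _) h2⟩ h4⟩

theorem flavell_unique [Finite G] (A : Subgroup G) (hA : ncl A ⊤ = ⊤) {M : Subgroup G}
    (hM : ∀ H, A ≤ H → H ≠ ⊤ → ncl A H = H → H ≤ M) (hMc : IsCoatom M) (hAM : A ≤ M)
    {K : Subgroup G} (hK : IsCoatom K) (hAK : A ≤ K) : K = M := by
  induction A using subgroup_gt_induction generalizing K with
  | h A ih =>
  by_contra hne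
  refine flavell A M ⟨K, M, hK, hMc, hne, hAK, hAM⟩ (fun H hH hle hHM => ?_) hA
  obtain ⟨B, h1, h2, h3⟩ := exists_snClosure hle
  rcases h1.eq_or_lt with h4 | h4
  · rwa [h4]
  have hBt : B ≠ ⊤ := fun h5 => hH.1 (top_le_iff.1 (h5 ▸ h2.le))
  refine absurd (ih B h4 (top_le_iff.1 (hA.ge.trans (ncl_mono h1 le_rfl))) (fun X a b c => ?_)
    (hM B h1 hBt h3) hH h2.le) hHM
  refine hM X (h1.trans a) b (le_antisymm (ncl_le_of_le (h1.trans a) le_rfl) ?_)
  conv_lhs => rw [← c]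
  refine ncl_le ?_ (right_le_normalizer_ncl _ _)
  rw [← h3]
  exact ncl_mono le_rfl a

theorem ncl_top_eq (A : Subgroup G) : ncl A ⊤ = normalClosure (A : Set G) := by
  apply le_antisymm
  · exact ncl_le le_normalClosure (normal_iff_top_le_normalizer.1 inferInstance)
  · haveI : (ncl A ⊤).Normal := normal_iff_top_le_normalizer.2 (right_le_normalizer_ncl _ _)
    exact normalClosure_le_normal (le_ncl A ⊤)

theorem ncl_subgroupOf_iff {A H : Subgroup G} (h : A ≤ H) :
    ncl (A.subgroupOf H) ⊤ = ⊤ ↔ ncl A H = H := by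
  have h1 := map_ncl H.subtype (A.subgroupOf H) ⊤
  rw [subgroupOf_map_subtype, inf_eq_left.2 h, ← MonoidHom.range_eq_map, range_subtype] at h1
  rw [← h1]
  constructor
  · intro h2; rw [h2, ← MonoidHom.range_eq_map, range_subtype]
  · intro h2
    apply map_injective H.subtype_injective
    rw [h2, ← MonoidHom.range_eq_map, range_subtype]

theorem engel_gen.{u} {Γ : Type u} [Group Γ] [Finite Γ] (a : Γ) (k : ℕ)
    (h : ncl (zpowers a) ⊤ = ⊤) :
    closure (Set.range ((fun g : Γ => ⁅g, a⁆)^[k])) ⊔ zpowers a = ⊤ := by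
  induction hn : Nat.card Γ using Nat.strong_induction_on generalizing Γ with
  | _ n ih =>
  by_contra hT
  obtain ⟨M, hM, hTM⟩ := H1.exists_coatom_ge hT
  have haM : zpowers a ≤ M := le_sup_right.trans hTM
  have hu : ∀ K, IsCoatom K → zpowers a ≤ K → K = M := by
    intro K hK hle
    refine flavell_unique _ h (fun H a1 a2 a3 => le_trans ?_ hTM) hM haM hK hle
    have ha : a ∈ H := a1 (mem_zpowers a)
    have e : (zpowers a).subgroupOf H = zpowers (⟨a, ha⟩ : H) := by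
      apply map_injective H.subtype_injective
      rw [subgroupOf_map_subtype, inf_eq_left.2 a1, MonoidHom.map_zpowers]; rfl
    have h1 := ih _ (hn ▸ H1.card_lt_card_of_ne_top a2) (⟨a, ha⟩ : H)
      (by rw [← e]; exact (ncl_subgroupOf_iff a1).2 a3) rfl
    have h2 := congrArg (Subgroup.map H.subtype) h1
    rw [← MonoidHom.range_eq_map, range_subtype, Subgroup.map_sup, MonoidHom.map_zpowers,
      MonoidHom.map_closure] at h2
    rw [← h2]
    refine sup_le_sup (closure_mono ?_) le_rfl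
    rintro _ ⟨_, ⟨x, rfl⟩, rfl⟩
    refine ⟨x, ?_⟩
    have : Function.Semiconj (H.subtype : H → Γ) (fun g : H => ⁅g, (⟨a, ha⟩ : H)⁆)
        (fun g : Γ => ⁅g, a⁆) := fun g => by simp [commutatorElement_def]
    exact ((this.iterate_right k) x).symm
  have hstep : ∀ g, g ∉ M → ⁅g, a⁆ ∉ M := by
    intro g hg h1
    apply hg
    have h2 : g * a * g⁻¹ ∈ M := by
      have := mul_mem h1 (haM (mem_zpowers a))
      simpa [commutatorElement_def] using this
    have h3 := hu (cj g⁻¹ M) (isCoatom_cj5 hM _) (by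
      rw [zpowers_le, mem_cj]; simpa using h2)
    simpa using inv_mem (mem_of_cj_coatom hM haM h h3)
  obtain ⟨g, hg⟩ : ∃ g, g ∉ M := by
    by_contra h1
    push Not at h1
    exact hM.1 (eq_top_iff.2 fun x _ => h1 x)
  have hall : ∀ j, (fun g : Γ => ⁅g, a⁆)^[j] g ∉ M := by
    intro j
    induction j with
    | zero => exact hg
    | succ j ihj => rw [Function.iterate_succ_apply']; exact hstep _ ihj
  exact hall k (hTM (mem_sup_left (subset_closure ⟨g, rfl⟩)))

end H7
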