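import Cfsg.Agent.H7.Simple
import Cfsg.Agent.H1.Frattini
import Cfsg.Agent.H5.Subnormal
import Cfsg.Prelude.Def_LocalStructure

/-! Irreducible faithful modules for groups of prime order. -/

namespace H7

open Subgroup
open scoped IsMulCommutative commutatorElement

theorem card_irr_add {V : Type*} [AddCommGroup V] [Finite V] {p q : ℕ} (hp : p.Prime)
    (hq : q.Prime) (hpq : q ≠ p) (hV : ∀ v : V, q • v = 0) (s : AddMonoid.End V)
    (hs : s ^ p = 1) (hs1 : s ≠ 1)
    (hirr : ∀ W : AddSubgroup V, (∀ w ∈ W, s w ∈ W) → W = ⊥ ∨ W = ⊤) :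
    Nat.card V = q ^ orderOf (q : ZMod p) := by
  classical
  haveI : Fact p.Prime := ⟨hp⟩
  haveI : Fact q.Prime := ⟨hq⟩
  obtain ⟨v0, hv0⟩ : ∃ v : V, v ≠ 0 := by
    by_contra h
    push Not at h
    exact hs1 (AddMonoidHom.ext fun v => (h _).trans (h _).symm)
  let R := Subring.closure ({s} : Set (AddMonoid.End V))
  have hsR : s ∈ R := Subring.subset_closure rfl
  haveI : IsMulCommutative R := Subring.isMulCommutative_closure (by simp)
  haveI : Finite (AddMonoid.End V) :=
    Finite.of_injective (fun f : AddMonoid.End V => (f : V → V)) DFunLike.coe_injective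
  have hinj : ∀ r : R, r ≠ 0 → ∀ v, (r : AddMonoid.End V) v = 0 → v = 0 := by
    intro r hr v hv
    rcases hirr (AddMonoidHom.ker (r : AddMonoid.End V)) (fun w hw => by
      have h1 := congrArg Subtype.val (mul_comm r ⟨s, hsR⟩)
      have h2 : (r : AddMonoid.End V) (s w) = s ((r : AddMonoid.End V) w) :=
        DFunLike.congr_fun h1 w
      exact h2.trans (by rw [show (r : AddMonoid.End V) w = 0 from hw, map_zero])) with h | h
    · have : v ∈ AddMonoidHom.ker (r : AddMonoid.End V) := hv
      rwa [h, AddSubgroup.mem_bot] at this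
    · exfalso
      apply hr
      refine Subtype.ext (AddMonoidHom.ext fun w => ?_)
      have : w ∈ AddMonoidHom.ker (r : AddMonoid.End V) := h ▸ AddSubgroup.mem_top w
      exact this
  haveI : Nontrivial R := ⟨⟨1, 0, fun h => hv0 (DFunLike.congr_fun (congrArg Subtype.val h) v0)⟩⟩
  haveI : NoZeroDivisors R := ⟨fun {a b} h => by
    by_contra h1
    push Not at h1
    exact hv0 (hinj b h1.2 _ (hinj a h1.1 _ (DFunLike.congr_fun (congrArg Subtype.val h) v0)))⟩
  haveI : IsDomain R := NoZeroDivisors.to_isDomain R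
  letI : Fintype R := Fintype.ofFinite R
  letI : Field R := Fintype.fieldOfDomain R
  haveI : CharP R q := (CharP.charP_iff_prime_eq_zero hq).2 (Subtype.ext
    (AddMonoidHom.ext fun v => by
      have : ((q : R) : AddMonoid.End V) = (q : AddMonoid.End V) := map_natCast R.subtype q
      rw [this]
      exact hV v))
  obtain ⟨n, -, hn⟩ := FiniteField.card R q
  let ev : R →+ V :=
    { toFun := fun r => (r : AddMonoid.End V) v0
      map_zero' := rfl
      map_add' := fun _ _ => rfl }
  have hev : Function.Bijective ev := by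
    constructor
    · rw [injective_iff_map_eq_zero]
      intro r hr
      by_contra h
      exact hv0 (hinj r h _ hr)
    · rw [← AddMonoidHom.range_eq_top]
      refine (hirr _ ?_).resolve_left fun h => hv0 ?_
      · rintro _ ⟨r, rfl⟩
        exact ⟨⟨s, hsR⟩ * r, rfl⟩
      · have : v0 ∈ ev.range := ⟨1, rfl⟩
        rwa [h, AddSubgroup.mem_bot] at this
  rw [← Nat.card_congr (Equiv.ofBijective ev hev), Nat.card_eq_fintype_card, hn]
  congr 1
  set t : R := ⟨s, hsR⟩ with ht
  have ht1 : t ^ p = 1 := Subtype.ext hs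
  have ht2 : orderOf t = p := orderOf_eq_prime ht1 fun h => hs1 (congrArg Subtype.val h)
  have ht0 : t ≠ 0 := fun h => by
    rw [h, zero_pow hp.ne_zero] at ht1; exact zero_ne_one ht1
  have hq0 : (q : ZMod p) ≠ 0 := by
    rw [Ne, ZMod.natCast_eq_zero_iff, Nat.prime_dvd_prime_iff_eq hp hq]
    exact hpq.symm
  have he0 : 0 < orderOf (q : ZMod p) :=
    Nat.pos_of_dvd_of_pos (ZMod.orderOf_dvd_card_sub_one hq0) (by have := hp.two_le; omega)
  apply le_antisymm
  · have h1 : ∀ r : R, r ^ q ^ orderOf (q : ZMod p) = r := by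
      rintro ⟨r, hr⟩
      rw [← iterateFrobenius_def]
      induction hr using Subring.closure_induction with
      | mem x hx =>
        obtain rfl : x = s := hx
        rw [iterateFrobenius_def]
        have h2 : q ^ orderOf (q : ZMod p) ≡ 1 [MOD orderOf t] := by
          rw [ht2, ← ZMod.natCast_eq_natCast_iff]
          simp [pow_orderOf_eq_one]
        have := (pow_eq_pow_iff_modEq (x := Units.mk0 t ht0) (n := q ^ orderOf (q : ZMod p))
          (m := 1)).2 (by rw [← orderOf_units]; exact h2)
        show t ^ q ^ orderOf (q : ZMod p) = t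
        simpa using congrArg Units.val this
      | zero => exact map_zero _
      | one => exact map_one _
      | add x y hx hy ihx ihy =>
        exact (map_add _ (⟨x, hx⟩ : R) ⟨y, hy⟩).trans (by rw [ihx, ihy]; rfl)
      | neg x hx ihx => exact (map_neg _ (⟨x, hx⟩ : R)).trans (by rw [ihx]; rfl)
      | mul x y hx hy ihx ihy =>
        exact (map_mul _ (⟨x, hx⟩ : R) ⟨y, hy⟩).trans (by rw [ihx, ihy]; rfl)
    have h2 : Fintype.card R - 1 ∣ q ^ orderOf (q : ZMod p) - 1 := by
      rw [← FiniteField.forall_pow_eq_one_iff]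
      intro x
      apply Units.ext
      have h3 := h1 x
      have h4 : q ^ orderOf (q : ZMod p) = q ^ orderOf (q : ZMod p) - 1 + 1 :=
        (Nat.sub_add_cancel (Nat.one_le_pow _ _ hq.pos)).symm
      rw [h4, pow_succ] at h3
      simpa using mul_right_cancel₀ x.ne_zero (h3.trans (one_mul _).symm)
    have h5 := Nat.one_lt_pow he0.ne' hq.one_lt
    have h3 := Nat.le_of_dvd (by omega) h2
    rw [hn] at h3
    have h4 := Nat.one_le_pow n _ hq.pos
    exact (Nat.pow_le_pow_iff_right hq.one_lt).1 (by omega)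
  · refine Nat.le_of_dvd n.pos (orderOf_dvd_of_pow_eq_one ?_)
    have h1 := orderOf_dvd_of_pow_eq_one (FiniteField.pow_card_sub_one_eq_one t ht0)
    rw [ht2, hn] at h1
    have h2 := (Nat.modEq_iff_dvd' (Nat.one_le_pow n _ hq.pos)).2 h1
    have := (ZMod.natCast_eq_natCast_iff _ _ _).2 h2
    simpa using this.symm

theorem card_irr_amb {G : Type*} [Group G] [Finite G] {p q : ℕ} (hp : p.Prime)
    (hq : q.Prime) (hpq : q ≠ p) {A : Subgroup G} [IsMulCommutative A] (hA : ∀ a ∈ A, a ^ q = 1)
    {x : G} (hx : x ∈ normalizer (A : Set G)) (hxp : x ^ p ∈ centralizer (A : Set G))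
    (hx1 : x ∉ centralizer (A : Set G))
    (hirr : ∀ W : Subgroup G, W ≤ A → x ∈ normalizer (W : Set G) → W = ⊥ ∨ W = A) :
    Nat.card A = q ^ orderOf (q : ZMod p) := by
  let φ : normalizer (A : Set G) →* MulAut A := A.normalizerMonoidHom
  have hφ : ∀ y : normalizer (A : Set G), ∀ a : A, (φ y a : G) = y * a * (y : G)⁻¹ :=
    fun _ _ => rfl
  let ψ : MulAut A →* AddMonoid.End (Additive A) :=
    { toFun := fun e => MonoidHom.toAdditive e.toMonoidHom
      map_one' := rfl
      map_mul' := fun _ _ => rfl }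
  refine card_irr_add (V := Additive A) hp hq hpq (fun v => ?_) (ψ (φ ⟨x, hx⟩)) ?_ ?_ ?_
  · exact Additive.toMul.injective (Subtype.ext (hA _ v.toMul.2))
  · rw [← map_pow, ← map_pow]
    refine AddMonoidHom.ext fun v => Additive.toMul.injective (Subtype.ext ?_)
    show (φ (⟨x, hx⟩ ^ p) v.toMul : G) = v.toMul
    rw [hφ]
    have := hxp _ v.toMul.2
    simp [← this]
  · intro h
    apply hx1
    intro a ha
    have h1 : (φ ⟨x, hx⟩ ⟨a, ha⟩ : G) = a :=
      congrArg (fun f : AddMonoid.End (Additive A) => ((f (Additive.ofMul ⟨a, ha⟩)).toMul : G)) h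
    rw [hφ] at h1
    exact (mul_inv_eq_iff_eq_mul.1 h1).symm
  · intro W hW
    rcases hirr ((AddSubgroup.toSubgroup' W).map A.subtype) (map_subtype_le _)
      (mem_normalizer_of_finite (by
        rintro _ ⟨a, ha, rfl⟩
        exact ⟨φ ⟨x, hx⟩ a, hW (Additive.ofMul a) ha, rfl⟩)) with h | h
    · left
      rw [map_eq_bot_iff_of_injective _ A.subtype_injective] at h
      exact AddSubgroup.toSubgroup'.injective (h.trans (OrderIso.map_bot _).symm)
    · right
      have h1 : AddSubgroup.toSubgroup' W = ⊤ := by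
        apply map_injective A.subtype_injective
        rw [h, ← MonoidHom.range_eq_map, range_subtype]
      exact AddSubgroup.toSubgroup'.injective (h1.trans (OrderIso.map_top _).symm)

theorem isPClosed_of_comm {X : Type*} [Group X] (p : ℕ) (h : IsMulCommutative X) :
    Cfsg.IsPClosed p X := fun _ => inferInstance

theorem isMulCommutative_of_inf_eq_bot {G : Type*} [Group G] {A H : Subgroup G} [A.Normal]
    (hc : IsMulCommutative (G ⧸ A)) (h : H ⊓ A = ⊥) : IsMulCommutative H := by
  rw [H1.isMulCommutative_iff']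
  intro a ha b hb
  rw [← commutatorElement_eq_one_iff_mul_comm, ← mem_bot, ← h]
  refine mem_inf.2 ⟨?_, ?_⟩
  · rw [commutatorElement_def]
    exact mul_mem (mul_mem (mul_mem ha hb) (inv_mem ha)) (inv_mem hb)
  · rw [← QuotientGroup.eq_one_iff, ← QuotientGroup.mk'_apply, map_commutatorElement,
      commutatorElement_eq_one_iff_mul_comm]
    exact mul_comm' _ _

/-- a normal `p`-closed subgroup containing a Sylow subgroup -/
theorem normalizer_le_of_isPClosed {G : Type*} [Group G] [Finite G] {p : ℕ} [Fact p.Prime]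
    {H P : Subgroup G} (hH : Cfsg.IsPClosed p H) (hPH : P ≤ H) (hP : IsPGroup p P)
    (hi : ¬ p ∣ P.relIndex H) : normalizer (H : Set G) ≤ normalizer (P : Set G) := by
  let S : Sylow p H := (hP.comap_subtype (K := H)).toSylow hi
  haveI : (S : Subgroup H).Normal := hH S
  haveI := S.characteristic_of_normal inferInstance
  have := H1.normalizer_le_normalizer_map_char H (S : Subgroup H)
  rwa [show (S : Subgroup H).map H.subtype = P from map_subgroupOf_eq_of_le hPH] at this

end H7
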