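import Cfsg.Agent.H7.J4b
import Cfsg.Agent.H28.Dc2

/-! Certified double coset enumeration over `M24` with the trios as labels. -/

set_option autoImplicit false

namespace H7.JD
open H27 H28 H28.Dc Cfsg MulAction
open scoped Pointwise
noncomputable section

def fl (c s m : ℕ) : ℕ := Nat.land (Nat.shiftRight c s) m
def unN (c : ℕ) : Net :=
  .cons 1 (fl c 0 16777215) (.cons 2 (fl c 24 16777215) (.cons 4 (fl c 48 16777215) (.cons 8 (fl c 72 16777215)
    (.cons 16 (fl c 96 16777215) (.cons 8 (fl c 120 16777215) (.cons 4 (fl c 144 16777215)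
      (.cons 2 (fl c 168 16777215) (.cons 1 (fl c 192 16777215) .nil))))))))
/-- the tables -/
structure Pr where
  FT : ℕ
  PT : ℕ
  Ns : List Net
  RR : List (List ℕ)
  Ws : List (List ℕ)
  l0 : List ℕ
  E : List ℕ
def fI (f : ℕ) : ℕ := fl f 0 255
def fJ (f : ℕ) : ℕ := fl f 8 255
def fM (f : ℕ) : ℕ := fl f 16 4095
def fN (f : ℕ) : Net := unN (Nat.shiftRight f 28)
def fm (N : Net) (Xs Ys : List ℕ) : Bool :=
  forceL (mapL N.app Ys) fun Zs => forceL Xs fun Xs =>
    and' (allL Zs fun z => elemL z Xs) (allL Xs fun x => elemL x Zs)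
theorem fm_spec {g : MM} {N : Net} (a : Acts 24 GE.e g N) {Xs Ys : List ℕ} (h : fm N Xs Ys = true) :
    g • GE.fam Xs = GE.fam Ys := by
  simp only [fm, forceL_eq, and'_eq, Bool.and_eq_true, allL_iff, elemL_iff, mapL_eq, List.mem_map] at h
  rw [smul_eq_iff_eq_inv_smul]
  ext s
  simp only [Finset.mem_smul_finset, GE.mem_fam]
  constructor
  · rintro ⟨x, hx, rfl⟩
    obtain ⟨y, hy, rfl⟩ := h.2 x hx
    exact ⟨_, ⟨y, hy, rfl⟩, GE.inv_smul_fs' a y⟩
  · rintro ⟨_, ⟨y, hy, rfl⟩, rfl⟩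
    exact ⟨_, h.1 _ ⟨y, hy, rfl⟩, (GE.inv_smul_fs' a y).symm⟩

variable (P : Pr)
def fct (c : ℕ) : ℕ := ent 256 P.FT c
def lab (l : ℕ) : List ℕ := famL 24 3 P.PT l
def adv (w : List ℕ) : Net → (List ℕ → Net → Bool) → (Net → Bool) → Bool :=
  List.rec (motive := fun _ => Net → (List ℕ → Net → Bool) → (Net → Bool) → Bool) (fun q _ kE => kE q)
    (fun a t ih q kT kE => ite' (Nat.beq a 6) (kT t q)
      (and' (blt a 6) (ih ((nth .nil P.Ns a).rev.append q) kT kE))) w
def use (f dir : ℕ) (q : Net) (i : ℕ) (k : Net → ℕ → Bool) : Bool :=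
  ite' (Nat.beq dir 0) (and' (Nat.beq (fI f) i) (k (q.append (fN f)) (fJ f)))
    (and' (Nat.beq (fJ f) i) (k (q.append (fN f).rev) (fI f)))
def useT (f dir : ℕ) (q : Net) (i : ℕ) (k : Net → ℕ → Bool) : Bool :=
  ite' (Nat.beq dir 0) (and' (and' (Nat.beq (fI f) i) (fm q (lab P (fM f)) P.l0)) (k (q.append (fN f)) (fJ f)))
    (and' (and' (Nat.beq (fJ f) i) (fm (q.append (fN f).rev) (lab P (fM f)) P.l0)) (k (q.append (fN f).rev) (fI f)))
def walk (c : ℕ) (kont : Net → ℕ → Bool) (n : ℕ) : ℕ → List ℕ → Net → ℕ → Bool :=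
  Nat.rec (motive := fun _ => ℕ → List ℕ → Net → ℕ → Bool)
    (fun _ w q i => adv P w q (fun _ _ => false) fun q' => kont q' i)
    (fun _ ih st w q i => and' (blt (fl st 1 4095) c) (force (fct P (fl st 1 4095)) fun f =>
      ite' (blt (fM f) 3795)
        (adv P w q (fun w' q' => useT P f (fl st 0 1) q' i (ih (Nat.shiftRight st 13) w')) fun _ => false)
        (use f (fl st 0 1) q i (ih (Nat.shiftRight st 13) w)))) n
def fin (f : ℕ) (kN q : Net) (i : ℕ) : Bool :=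
  and' (Nat.beq i (fJ f)) (and' ((fN f).valid 24) (eqL 5 24 [kN, q] [fN f]))
def chk' (c f x : ℕ) (kN : Net) : Bool :=
  ite' (Nat.beq (fl x 0 3) 0)
    (ite' (blt (fM f) 3795)
      (and' (and' (headIs (nth [] P.RR (fl x 2 15)) 6) (fm kN P.l0 (lab P (fM f))))
        (walk P c (fin f kN) (fl x 6 63) (Nat.shiftRight x 228) (tl (nth [] P.RR (fl x 2 15))) kN.rev (fI f)))
      (walk P c (fin f kN) (fl x 6 63) (Nat.shiftRight x 228) (nth [] P.RR (fl x 2 15)) kN.rev (fI f)))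
    (ite' (Nat.beq (fl x 0 3) 1)
      (and' (eqW (nth [] P.Ws (fJ f)) (fM f :: nth [] P.Ws (fI f))) (fin f .nil .nil (fJ f)))
      (ite' (Nat.beq (fl x 0 3) 2)
        (and' (and' (eqW (nth [] P.Ws (fI f)) []) (Nat.ble 3795 (fM f))) (fin f kN .nil (fI f)))
        (and' (and' (eqW (nth [] P.Ws (fJ f)) []) (eqW (fM f :: nth [] P.Ws (fI f)) P.E)) (fin f .nil .nil (fJ f)))))
def chk (c x : ℕ) : Bool :=
  force (fct P c) fun f => force (Nat.shiftRight x 12) fun k => and' (m24chk (unN k)) (chk' P c f x (unN k))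
def run (L : List ℕ) : ℕ → Bool :=
  List.rec (motive := fun _ => ℕ → Bool) (fun _ => true)
    (fun x _ ih c => and' (chk P c x) (force (Nat.succ c) ih)) L

variable {G Ω : Type} [Group G] [MulAction G Ω]

/-- the algebraic setting -/
structure Ctx (ks : List MM) (π : MM →* G) (t : G) (T : Finset (Finset GolayPt) → G) (xs : List G) (ω : Ω) : Prop where
  acts : ActsL 24 GE.e ks P.Ns
  T0 : T (GE.fam P.l0) = t
  eqv : ∀ (g : MM) l, π g * T l = T (g • l) * π g
  tt : t * t = 1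
  lk : ∀ a < 6, xs.getD a 1 = π (ks.getD a 1)
  lt : xs.getD 6 1 = t
  rel : Rels xs P.RR
  fix : ∀ k, π k • ω = ω
  sub : (P.E.map fun l => if l < 3795 then T (GE.fam (lab P l)) else 1).prod • ω = ω

def TT (T : Finset (Finset GolayPt) → G) (l : ℕ) : G := if l < 3795 then T (GE.fam (lab P l)) else 1
def vtx (T : Finset (Finset GolayPt) → G) (ω : Ω) (i : ℕ) : Ω := ((nth [] P.Ws i).map (TT P T)).prod • ω
def Ok (π : MM →* G) (T : Finset (Finset GolayPt) → G) (ω : Ω) (f : ℕ) : Prop :=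
  ∃ g : MM, Acts 24 GE.e g (fN f) ∧ TT P T (fM f) • vtx P T ω (fI f) = π g • vtx P T ω (fJ f)
def Good (π : MM →* G) (T : Finset (Finset GolayPt) → G) (ω : Ω) (c : ℕ) : Prop := ∀ d < c, Ok P π T ω (fct P d)

variable {P} {ks : List MM} {π : MM →* G} {t : G} {T : Finset (Finset GolayPt) → G} {xs : List G} {ω : Ω}

theorem TT_lt {l : ℕ} (h : l < 3795) : TT P T l = T (GE.fam (lab P l)) := if_pos h
theorem TT_ge {l : ℕ} (h : ¬ l < 3795) : TT P T l = 1 := if_neg h

theorem adv_spec (C : Ctx P ks π t T xs ω) (w : List ℕ) {q : Net} {kT : List ℕ → Net → Bool} {kE : Net → Bool}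
    (h : adv P w q kT kE = true) {g : MM} (a : Acts 24 GE.e g q) :
    ∃ g' q', Acts 24 GE.e g' q' ∧ ((∃ w', kT w' q' = true ∧ (ev xs w)⁻¹ * π g = (ev xs w')⁻¹ * (t * π g')) ∨
      (kE q' = true ∧ (ev xs w)⁻¹ * π g = π g')) := by
  induction w generalizing q g with
  | nil => exact ⟨g, q, a, Or.inr ⟨h, by simp [ev_nil]⟩⟩
  | cons x s ih =>
    have h' : ite' (Nat.beq x 6) (kT s q)
      (and' (blt x 6) (adv P s ((nth .nil P.Ns x).rev.append q) kT kE)) = true := h
    rw [ite'_eq] at h'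
    split_ifs at h' with hx
    · rw [beq_iff] at hx
      exact ⟨g, q, a, Or.inl ⟨s, h', by
        rw [ev_cons, hx, C.lt, mul_inv_rev, inv_eq_of_mul_eq_one_right C.tt, mul_assoc]⟩⟩
    · rw [and'_eq, Bool.and_eq_true, blt_iff] at h'
      have b : Acts 24 GE.e (ks.getD x 1) (nth .nil P.Ns x) := by rw [nth_eq]; exact C.acts.getD x
      obtain ⟨g', q', a', h2⟩ := ih h'.2 (b.inv.mul a)
      refine ⟨g', q', a', ?_⟩
      have : (ev xs (x :: s))⁻¹ * π g = (ev xs s)⁻¹ * π ((ks.getD x 1)⁻¹ * g) := by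
        rw [ev_cons, C.lk x h'.1, map_mul, map_inv]; group
      rwa [this]

theorem use_spec {f : ℕ} (hf : Ok P π T ω f) (hm : ¬ fM f < 3795) {dir i : ℕ} {q : Net}
    {k : Net → ℕ → Bool} (h : use f dir q i k = true) {g : MM} (a : Acts 24 GE.e g q) :
    ∃ g' q' i', Acts 24 GE.e g' q' ∧ k q' i' = true ∧ π g • vtx P T ω i = π g' • vtx P T ω i' := by
  obtain ⟨s, b, hs⟩ := hf
  rw [TT_ge hm, one_smul] at hs
  rw [use, ite'_eq] at h
  split_ifs at h <;> rw [and'_eq, Bool.and_eq_true, beq_iff] at h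
  · exact ⟨_, _, _, a.mul b, h.2, by rw [← h.1, hs, map_mul, mul_smul]⟩
  · exact ⟨_, _, _, a.mul b.inv, h.2, by rw [← h.1, hs, map_mul, map_inv, mul_smul, inv_smul_smul]⟩

theorem useT_spec (C : Ctx P ks π t T xs ω) {f : ℕ} (hf : Ok P π T ω f) (hm : fM f < 3795) {dir i : ℕ} {q : Net}
    {k : Net → ℕ → Bool} (h : useT P f dir q i k = true) {g : MM} (a : Acts 24 GE.e g q) :
    ∃ g' q' i', Acts 24 GE.e g' q' ∧ k q' i' = true ∧ (t * π g) • vtx P T ω i = π g' • vtx P T ω i' := by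
  obtain ⟨s, b, hs⟩ := hf
  rw [TT_lt hm] at hs
  rw [useT, ite'_eq] at h
  split_ifs at h <;> simp only [and'_eq, Bool.and_eq_true, beq_iff] at h
  · refine ⟨_, _, _, a.mul b, h.2, ?_⟩
    rw [← h.1.1, ← C.T0, ← fm_spec a h.1.2, ← C.eqv, mul_smul, hs, map_mul, mul_smul]
  · refine ⟨_, _, _, a.mul b.inv, h.2, ?_⟩
    have h1 := C.eqv (g * s⁻¹) (GE.fam (lab P (fM f)))
    rw [fm_spec (a.mul b.inv) h.1.2, C.T0] at h1
    have h2 : vtx P T ω (fJ f) = (π s)⁻¹ • T (GE.fam (lab P (fM f))) • vtx P T ω (fI f) := by rw [hs, inv_smul_smul]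
    rw [← h.1.1, h2, smul_smul, smul_smul, mul_assoc t, ← map_inv, ← map_mul, mul_assoc t, h1, ← mul_assoc, C.tt,
      one_mul]

theorem walk_spec (C : Ctx P ks π t T xs ω) {c : ℕ} (hG : Good P π T ω c) {kont : Net → ℕ → Bool}
    (n : ℕ) {st : ℕ} {w : List ℕ} {q : Net} {i : ℕ} (h : walk P c kont n st w q i = true) {g : MM}
    (a : Acts 24 GE.e g q) :
    ∃ g' q' i', Acts 24 GE.e g' q' ∧ kont q' i' = true ∧
      ((ev xs w)⁻¹ * π g) • vtx P T ω i = π g' • vtx P T ω i' := by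
  induction n generalizing st w q i g with
  | zero =>
    obtain ⟨g', q', a', ⟨_, h, _⟩ | h⟩ := adv_spec C w h a
    · cases h
    · exact ⟨g', q', i, a', h.1, by rw [h.2]⟩
  | succ n ih =>
    have h' : and' (blt (fl st 1 4095) c) (force (fct P (fl st 1 4095)) fun f =>
      ite' (blt (fM f) 3795)
        (adv P w q (fun w' q' => useT P f (fl st 0 1) q' i (walk P c kont n (Nat.shiftRight st 13) w')) fun _ => false)
        (use f (fl st 0 1) q i (walk P c kont n (Nat.shiftRight st 13) w))) = true := h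
    rw [and'_eq, Bool.and_eq_true, blt_iff, force_eq, ite'_eq] at h'
    obtain ⟨hc, h'⟩ := h'
    split_ifs at h' with hx <;> rw [blt_iff] at hx
    · obtain ⟨g1, q1, a1, ⟨w', h1, h2⟩ | h⟩ := adv_spec C w h' a
      · obtain ⟨g2, q2, i2, a2, h3, h4⟩ := useT_spec C (hG _ hc) hx h1 a1
        obtain ⟨g3, q3, i3, a3, h5, h6⟩ := ih h3 a2
        exact ⟨g3, q3, i3, a3, h5, by rw [h2, mul_smul, h4, ← mul_smul, h6]⟩
      · cases h.1
    · obtain ⟨g2, q2, i2, a2, h3, h4⟩ := use_spec (hG _ hc) hx h' a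
      obtain ⟨g3, q3, i3, a3, h5, h6⟩ := ih h3 a2
      exact ⟨g3, q3, i3, a3, h5, by rw [mul_smul, h4, ← mul_smul, h6]⟩

theorem fin_spec {f : ℕ} {kN q : Net} {i : ℕ} (h : fin f kN q i = true) {k g : MM} (a : Acts 24 GE.e k kN)
    (b : Acts 24 GE.e g q) : i = fJ f ∧ Acts 24 GE.e (k * g) (fN f) := by
  simp only [fin, and'_eq, Bool.and_eq_true, beq_iff] at h
  have := ActsL.prod_acts (gs := [k, g]) (.cons a (.cons b .nil)) h.2.1 h.2.2
  exact ⟨h.1, by simpa using this⟩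

theorem chk_spec (C : Ctx P ks π t T xs ω) {c : ℕ} (hG : Good P π T ω c) {x : ℕ}
    (h : chk P c x = true) : Ok P π T ω (fct P c) := by
  rw [chk, force_eq, force_eq, and'_eq, Bool.and_eq_true] at h
  obtain ⟨hk, h⟩ := h
  have a := acts_mm hk
  generalize mm (unN (Nat.shiftRight x 12)) = k at a
  generalize unN (Nat.shiftRight x 12) = kN at a h
  generalize fct P c = f at h ⊢
  have hr : ev xs (nth [] P.RR (fl x 2 15)) = 1 := by
    rcases nth_mem_or [] P.RR (fl x 2 15) with a | a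
    · exact C.rel _ a
    · rw [a, ev_nil]
  rw [chk', ite'_eq, ite'_eq, ite'_eq, ite'_eq] at h
  split_ifs at h with h1 h2 h3 h4
  · simp only [and'_eq, Bool.and_eq_true, beq_iff] at h
    rw [blt_iff] at h2
    obtain ⟨g, q, i, b, h4, h5⟩ := walk_spec C hG _ h.2 a.inv
    obtain ⟨rfl, c⟩ := fin_spec h4 a b
    refine ⟨_, c, ?_⟩
    have h6 : (ev xs (tl (nth [] P.RR (fl x 2 15))))⁻¹ = t := by
      generalize nth [] P.RR (fl x 2 15) = w at hr h
      cases w with
      | nil => cases h.1.1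
      | cons y s =>
        have : y = 6 := (beq_iff _ _).1 h.1.1
        rw [ev_cons, this, C.lt] at hr
        exact (eq_inv_of_mul_eq_one_left hr).symm
    rw [h6] at h5
    rw [map_mul, mul_smul, ← h5, smul_smul, ← mul_assoc, ← C.T0, C.eqv, fm_spec a h.1.2, map_inv,
      mul_inv_cancel_right, TT_lt h2]
  · rw [blt_iff] at h2
    obtain ⟨g, q, i, b, h4, h5⟩ := walk_spec C hG _ h a.inv
    obtain ⟨rfl, c⟩ := fin_spec h4 a b
    refine ⟨_, c, ?_⟩
    rw [hr, inv_one, one_mul] at h5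
    rw [map_mul, mul_smul, ← h5, map_inv, smul_inv_smul, TT_ge h2, one_smul]
  · rw [and'_eq, Bool.and_eq_true] at h
    refine ⟨_, (fin_spec h.2 (Acts.one (G := MM)) Acts.one).2, ?_⟩
    simp only [vtx, eqW_eq h.1, mul_one, map_one, one_smul, List.map_cons, List.prod_cons, mul_smul]
  · simp only [and'_eq, Bool.and_eq_true, Nat.ble_eq] at h
    obtain ⟨h4, c⟩ := fin_spec h.2 a Acts.one
    refine ⟨_, c, ?_⟩
    rw [← h4, TT_ge (not_lt.2 h.1.2), vtx, eqW_eq h.1.1]
    simp [C.fix]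
  · simp only [and'_eq, Bool.and_eq_true] at h
    refine ⟨_, (fin_spec h.2 (Acts.one (G := MM)) Acts.one).2, ?_⟩
    have := C.sub
    rw [← eqW_eq h.1.2] at this
    rw [vtx, vtx, eqW_eq h.1.1, smul_smul, List.map_nil, List.prod_nil, one_smul, C.fix]
    exact this

theorem Good.zero : Good P π T ω 0 := fun _ h => by cases h
theorem Good.run (C : Ctx P ks π t T xs ω) {L : List ℕ} {c : ℕ}
    (hG : Good P π T ω c) (h : run P L c = true) : Good P π T ω (c + L.length) := by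
  induction L generalizing c with
  | nil => exact hG
  | cons x s ih =>
    have h' : and' (chk P c x) (force (Nat.succ c) (JD.run P s)) = true := h
    rw [and'_eq, Bool.and_eq_true, force_eq] at h'
    rw [List.length_cons, ← add_assoc, add_right_comm]
    refine ih (c := c + 1) (fun d hd => ?_) h'.2
    rcases Nat.lt_succ_iff_lt_or_eq.1 hd with hd | rfl
    · exact hG d hd
    · exact chk_spec C hG h'.1

end
end H7.JD
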