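import Cfsg.Agent.H7.J4d

/-! Certified double coset enumeration over `M24`: closure and counting. -/

set_option autoImplicit false

namespace H7.JD
open H27 H28 H28.Dc Cfsg MulAction
open scoped Pointwise
noncomputable section

variable (P : Pr)
def sN (r : Vr) : List Net := mapL (fun s => fN (fct P s)) r.S
def vchk (n : ℕ) (al : List ℕ) (r : Vr) (Ms : List Net) : Bool :=
  and' (and' (allL r.S fun s => and' (blt s n) (force (fct P s) fun f => and' (and' (Nat.beq (fI f) r.i) (Nat.beq (fJ f) r.i))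
      (Nat.ble 3795 (fM f))))
    (allL r.E fun s => and' (blt s n) (force (fct P s) fun f =>
      and' (and' (Nat.beq (fI f) r.i) (memN al (fJ f))) (blt (fM f) 3795))))
    (and' (chkT (sN P r) Ms) (Nat.beq (orb Ms r.k (orL (mapL (fun s => fM (fct P s)) r.E))) (ones 3795)))
def VOk (n : ℕ) (al : List ℕ) (r : Vr) : Prop :=
  (∃ Ms, vchk P n al r Ms = true) ∧ 0 < r.c ∧ ∃ S sel L, and' (Nat.ble 24 (Nat.shiftLeft 1 5))
    (and' (slpChk 5 24 S (sN P r)) (Nat.beq (chain 5 24 L (wordN (slpN S (sN P r)) sel)) r.c)) = true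
theorem VOk.of {n : ℕ} {al : List ℕ} {r : Vr} (Ms : List Net) (S : List (List ℕ × Net)) (sel : List ℕ)
    (L : List (ℕ × ℕ × ℕ)) (h : and' (and' (vchk P n al r Ms) (blt 0 r.c))
      (and' (Nat.ble 24 (Nat.shiftLeft 1 5)) (and' (slpChk 5 24 S (sN P r))
        (Nat.beq (chain 5 24 L (wordN (slpN S (sN P r)) sel)) r.c))) = true) : VOk P n al r := by
  rw [and'_eq, Bool.and_eq_true, and'_eq (vchk P n al r Ms), Bool.and_eq_true, blt_iff] at h
  exact ⟨⟨Ms, h.1.1⟩, h.1.2, S, sel, L, h.2⟩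

variable {G Ω : Type} [Group G] [MulAction G Ω]
variable {P} {ks : List MM} {π : MM →* G} {t : G} {T : Finset (Finset GolayPt) → G} {xs : List G} {ω : Ω}
  {n : ℕ} {al : List ℕ}

theorem VOk.stab (hG : Good P π T ω n) {r : Vr} (h : VOk P n al r) :
    ∃ gs : List MM, ActsL 24 GE.e gs (sN P r) ∧ ∀ g ∈ gs, π g • vtx P T ω r.i = vtx P T ω r.i := by
  obtain ⟨Ms, h1⟩ := h.1
  simp only [vchk, and'_eq, Bool.and_eq_true, allL_iff, beq_iff, Nat.ble_eq, force_eq, blt_iff] at h1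
  have h2 := h1.1.1
  rw [sN, mapL_eq]
  generalize r.S = S at h2
  induction S with
  | nil => exact ⟨[], .nil, fun _ h => by cases h⟩
  | cons s S ih =>
    obtain ⟨gs, a, b⟩ := ih fun x hx => h2 x (List.mem_cons_of_mem _ hx)
    obtain ⟨h0, ⟨h3, h4⟩, h5⟩ := h2 s List.mem_cons_self
    obtain ⟨g, c, d⟩ := hG s h0
    rw [h3, h4, TT_ge (not_lt.2 h5), one_smul] at d
    exact ⟨g :: gs, .cons c a, List.forall_mem_cons.2 ⟨d.symm, b⟩⟩

theorem VOk.ent (C : Ctx P ks π t T xs ω) (hP : ∀ i < 3795, eT i = GE.fam (lab P i)) (hG : Good P π T ω n)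
    {r : Vr} (h : VOk P n al r) {l : ℕ}
    (hl : l < 3795) : ∃ j ∈ al, ∃ k, T (eT l) • vtx P T ω r.i = π k • vtx P T ω j := by
  obtain ⟨gs, a, b⟩ := h.stab hG
  obtain ⟨Ms, h1⟩ := h.1
  simp only [vchk, and'_eq, Bool.and_eq_true, allL_iff, beq_iff, blt_iff, force_eq] at h1
  have a' := a.toT h1.2.1
  refine (orb_ind (n := 3795) (fun _ => a'.ok)
    (fun l => ∃ j ∈ al, ∃ k, T (eT l) • vtx P T ω r.i = π k • vtx P T ω j) ?_ r.k
    ?_ l (h1.2.2 ▸ (testBit_ones _ _).2 hl)).2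
  · rintro N hN l hl ⟨j, hj, k, hk⟩
    obtain ⟨g, hg, c⟩ := a'.exists_left hN
    refine ⟨j, hj, g⁻¹ * k, ?_⟩
    rw [map_mul, mul_smul, ← hk, ← b g hg, ← mul_smul (T (eT (N.fn l))), ← c.act l hl, ← C.eqv, mul_smul, map_inv,
      inv_smul_smul, b g hg]
  · intro l hl
    rw [testBit_orL, mapL_eq] at hl
    obtain ⟨s, hs, rfl⟩ := List.mem_map.1 hl
    obtain ⟨h0, ⟨h3, h4⟩, h5⟩ := h1.1.2 s hs
    obtain ⟨g, -, d⟩ := hG s h0
    rw [TT_lt h5, ← hP _ h5] at d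
    exact ⟨h5, _, memN_mem h4, g, h3 ▸ d⟩

theorem VOk.card (hG : Good P π T ω n) {r : Vr} (h : VOk P n al r) :
    (Set.range fun k => π k • vtx P T ω r.i).ncard ≤ 244823040 / r.c := by
  obtain ⟨gs, a, b⟩ := h.stab hG
  obtain ⟨S, sel, L, h1⟩ := h.2.2
  have h2 := le_card_cl GE.injOn a S sel L h1
  have h3 := card_eq_orbit_mul_top (G := MM) (Ω := Via π Ω) (vtx (Ω := Ω) P T ω r.i)
  have h4 : cl gs ≤ stabilizer MM (α := Via π Ω) (vtx (Ω := Ω) P T ω r.i) := cl_le b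
  rw [Nat.le_div_iff_mul_le h.2.1, ← card_MM, h3]
  exact Nat.mul_le_mul_left _ (h2.trans (Subgroup.card_le_of_le h4))

theorem cover (C : Ctx P ks π t T xs ω) (hP : ∀ i < 3795, eT i = GE.fam (lab P i)) (hG : Good P π T ω n)
    {recs : List Vr} (h : ∀ r ∈ recs, VOk P n al r)
    (hal : mapL Vr.i recs = al) (h0 : 0 ∈ al) (hW : nth [] P.Ws 0 = []) (hc : GE.fam P.l0 ∈ trios)
    {A : Set G} (hx : ∀ x ∈ A, x ∈ π.range ∨ x = t) {g : G} (hg : g ∈ Subgroup.closure A) :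
    ∃ r ∈ recs, ∃ k, g • ω = π k • vtx P T ω r.i := by
  have hal' : ∀ j ∈ al, ∃ r ∈ recs, r.i = j := fun j hj => by
    rw [← hal, mapL_eq] at hj; exact List.mem_map.1 hj
  let Y : Ω → Prop := fun y => ∃ r ∈ recs, ∃ k, y = π k • vtx P T ω r.i
  have hK : ∀ k y, Y y → Y (π k • y) := by
    rintro k _ ⟨r, hr, k', rfl⟩; exact ⟨r, hr, k * k', by rw [map_mul, mul_smul]⟩
  have hT : ∀ y, Y y → Y (t • y) := by
    rintro _ ⟨r, hr, k, rfl⟩
    obtain ⟨l', hl', h1⟩ := tabT.surj _ (smul_mem_trios k⁻¹ hc)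
    obtain ⟨j, hj, k', h2⟩ := (h r hr).ent C hP hG hl'
    obtain ⟨r', hr', rfl⟩ := hal' j hj
    refine ⟨r', hr', k * k', ?_⟩
    rw [map_mul, mul_smul, ← h2, smul_smul, smul_smul, C.eqv k, h1, smul_inv_smul, C.T0]
  have ht : t⁻¹ = t := inv_eq_of_mul_eq_one_right C.tt
  suffices ∀ y, Y y → Y (g • y) by
    obtain ⟨r, hr, h1⟩ := hal' 0 h0
    exact this ω ⟨r, hr, 1, by simp [h1, vtx, hW]⟩
  induction hg using Subgroup.closure_induction'' with
  | one => simp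
  | mem g hg =>
    rcases hx g hg with ⟨k, rfl⟩ | rfl
    · exact hK k
    · exact hT
  | inv_mem g hg =>
    rcases hx g hg with ⟨k, rfl⟩ | rfl
    · exact map_inv π k ▸ hK k⁻¹
    · exact ht.symm ▸ hT
  | mul a b _ _ iha ihb => exact fun y hy => mul_smul a b y ▸ iha _ (ihb y hy)

theorem ncard_cover (hG : Good P π T ω n) {recs : List Vr} (h : ∀ r ∈ recs, VOk P n al r) :
    {y | ∃ r ∈ recs, ∃ k, y = π k • vtx P T ω r.i}.Finite ∧
      {y | ∃ r ∈ recs, ∃ k, y = π k • vtx P T ω r.i}.ncard ≤ (recs.map fun r => 244823040 / r.c).sum := by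
  induction recs with
  | nil => simp
  | cons r s ih =>
    obtain ⟨a, b⟩ := ih fun x hx => h x (List.mem_cons_of_mem _ hx)
    have : {y | ∃ r' ∈ r :: s, ∃ k, y = π k • vtx P T ω r'.i} =
        (Set.range fun k => π k • vtx P T ω r.i) ∪ {y | ∃ r ∈ s, ∃ k, y = π k • vtx P T ω r.i} := by
      ext y; simp [eq_comm]
    rw [this]
    exact ⟨(Set.finite_range _).union a, (Set.ncard_union_le _ _).trans
      (Nat.add_le_add ((h r List.mem_cons_self).card hG) b)⟩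

theorem exists_T' {l0 : Finset (Finset GolayPt)} (hs : ∀ g ∈ stabilizer MM l0, π g * t = t * π g) :
    ∃ T : Finset (Finset GolayPt) → G, T l0 = t ∧ ∀ (g : MM) l, π g * T l = T (g • l) * π g := by
  have key : ∀ a b : MM, a • l0 = b • l0 → π a * t * (π a)⁻¹ = π b * t * (π b)⁻¹ := fun a b h => by
    have := hs (b⁻¹ * a) (by rw [mem_stabilizer_iff, mul_smul, h, inv_smul_smul])
    rw [map_mul, map_inv] at this
    calc π a * t * (π a)⁻¹ = π b * ((π b)⁻¹ * π a * t) * (π a)⁻¹ := by group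
      _ = _ := by rw [this]; group
  classical
  refine ⟨fun l => if h : ∃ r : MM, r • l0 = l then π h.choose * t * (π h.choose)⁻¹ else 1, ?_, fun g l => ?_⟩
  · have h : ∃ r : MM, r • l0 = l0 := ⟨1, one_smul _ _⟩
    simp only [dif_pos h]; rw [key _ 1 (by rw [h.choose_spec, one_smul])]; simp
  · by_cases h : ∃ r : MM, r • l0 = l
    · have h' : ∃ r : MM, r • l0 = g • l := ⟨g * h.choose, by rw [mul_smul, h.choose_spec]⟩
      simp only [dif_pos h, dif_pos h']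
      have := key (g * h.choose) h'.choose
        ((mul_smul _ _ _).trans ((congrArg (g • ·) h.choose_spec).trans h'.choose_spec.symm))
      rw [← this, map_mul]; group
    · have h' : ¬ ∃ r : MM, r • l0 = g • l := fun ⟨r, hr⟩ => h ⟨g⁻¹ * r, by rw [mul_smul, hr, inv_smul_smul]⟩
      simp only [dif_neg h, dif_neg h', mul_one, one_mul]

end
end H7.JD
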