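import Cfsg.Agent.H7.J4f

/-! The table of the trios. -/

set_option maxRecDepth 100000
set_option autoImplicit false

namespace H7.JD
open H27 H28
open scoped Pointwise

theorem jt_acts : ActsL 3795 (GE.tfam 3 jPT) (g2N.map mm) g2T := GE.actsL_tfam g2_acts (by decide +kernel)
theorem jt_zero : eT 0 = GE.tfam 3 jPT 0 := GE.tpart_eq_fam (by norm_num) (by decide +kernel)
theorem jt_orb : orb g2T 11 1 = ones 3795 := by decide +kernel
theorem jP_lab : ∀ i < 3795, eT i = GE.fam (lab jP i) := fun i hi => by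
  have k : ∀ {gs : List MM} {Ns : List Net}, ActsL 3795 eT gs Ns → ActsL 3795 (GE.tfam 3 jPT) gs Ns →
      ∀ N ∈ Ns, ∀ j < 3795, eT (N.fn j) = GE.tfam 3 jPT (N.fn j) → eT j = GE.tfam 3 jPT j := by
    intro gs Ns a b
    induction a with
    | nil => simp
    | cons a _ ih => cases b with
      | cons b b' =>
        refine List.forall_mem_cons.2 ⟨fun j hj h => ?_, ih b'⟩
        rw [← a.act j hj, ← b.act j hj] at h
        exact MulAction.injective _ h
  refine (orb_ind (n := 3795) (fun _ => g2T_acts.ok) (fun j => eT j = GE.tfam 3 jPT j) (k g2T_acts jt_acts) 11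
    (x := 1) (fun j hj => ?_) i (jt_orb ▸ (testBit_ones _ _).2 hi)).2
  rw [Nat.testBit_one_eq_true_iff_self_eq_zero.1 hj]
  exact ⟨by norm_num, jt_zero⟩

end H7.JD
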