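import Cfsg.Agent.H7.J4g1
import Cfsg.Agent.H7.J4g2
import Cfsg.Agent.H7.J4g3
import Cfsg.Agent.H7.J4g4
import Cfsg.Agent.H7.J4h1
import Cfsg.Agent.H7.J4h2
import Cfsg.Agent.H7.J4k

/-! The index of `2^11 : M24` in `J4` is at most `173067389`. -/

set_option maxRecDepth 100000
set_option autoImplicit false

namespace H7.JD
open H27 H28 H28.Dc H7.J4 Cfsg MulAction
open scoped Pointwise

theorem hom {G : Type} [Group G] {a b : G} (hr : Rels [a, b, b⁻¹] j4m_R) :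
    ∃ π : MM →* G, ∀ w, π (ev (mN.map mm) w) = ev [a, b, b⁻¹] w := by
  rw [mN_eq]
  obtain ⟨z, m, hz, hm, hm', e0⟩ : ∃ z m : MM, z = z2b ∧ Rels [z, m, m⁻¹] j4m_R ∧ cl [z, m, m⁻¹] = ⊤ ∧
      [z2b, my, my⁻¹] = [z, m, m⁻¹] := ⟨z2b, my, rfl, mN_eq ▸ mN_rels, mN_eq ▸ mN_top, rfl⟩
  rw [e0]
  let Γ := cl [(a, z), (b, m), (b, m)⁻¹]
  let A : Γ := ⟨(a, z), mem_cl List.mem_cons_self⟩
  let B : Γ := ⟨(b, m), mem_cl (List.mem_cons_of_mem _ List.mem_cons_self)⟩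
  have hR : Rels [A, B, B⁻¹] j4m_R := fun w hw => Subtype.ext ((ev_map Γ.subtype _ w).symm.trans (by
    have := ev_zip (xs := [a, b, b⁻¹]) (ys := [z, m, m⁻¹]) rfl w
    rw [hr w hw, hm w hw] at this
    exact this))
  have ht : cl [A, B, B⁻¹] = ⊤ := by
    apply Subgroup.map_injective Γ.subtype_injective
    rw [← MonoidHom.range_eq_map, Subgroup.range_subtype, mcl]; rfl
  let σ : Γ →* MM := (MonoidHom.snd _ _).comp Γ.subtype
  let π : Γ →* G := (MonoidHom.fst _ _).comp Γ.subtype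
  have hs : Function.Surjective σ := MonoidHom.range_eq_top.1 (by
    rw [MonoidHom.range_eq_map, ← ht, mcl]; exact hm')
  let e := MulEquiv.ofBijective σ ⟨inj hR ht σ hs hz, hs⟩
  refine ⟨π.comp e.symm.toMonoidHom, fun w => ?_⟩
  have h1 : ev [z, m, m⁻¹] w = e (ev [A, B, B⁻¹] w) := ev_map σ [A, B, B⁻¹] w
  rw [h1]
  simp only [MonoidHom.comp_apply, MulEquiv.coe_toMonoidHom, MulEquiv.symm_apply_apply]
  exact (ev_map π [A, B, B⁻¹] w).symm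

theorem rr {G : Type} [Group G] {a b c t : G} (ht : t * t = 1) (h1 : (a * t) ^ 3 = 1) (h2 : (c * t * b * t) ^ 2 = 1) :
    Rels [a, b, c, a⁻¹, b⁻¹, c⁻¹, t] jP.RR := by
  have hi : t⁻¹ = t := inv_eq_of_mul_eq_one_right ht
  have k1 : t * (a * (t * (a * (t * a)))) = 1 := by
    calc _ = t * (a * t) ^ 3 * t⁻¹ := by simp only [pow_succ]; group
      _ = 1 := by rw [h1]; simp
  have k2 : t * (c * (t * (b * (t * (c * (t * b)))))) = 1 := by
    calc _ = t * (c * t * b * t) ^ 2 * t⁻¹ := by simp only [pow_succ]; group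
      _ = 1 := by rw [h2]; simp
  have k3 : t * (b * (t * (c * (t * (b * (t * c)))))) = 1 := by
    calc _ = c⁻¹ * (c * t * b * t) ^ 2 * c := by simp only [pow_succ]; group
      _ = 1 := by rw [h2]; simp
  have k4 : t⁻¹ * (a⁻¹ * (t⁻¹ * (a⁻¹ * (t⁻¹ * a⁻¹)))) = 1 := by
    calc _ = ((a * t) ^ 3)⁻¹ := by simp only [pow_succ]; group
      _ = 1 := by rw [h1]; simp
  have k5 : t⁻¹ * (c⁻¹ * (t⁻¹ * (b⁻¹ * (t⁻¹ * (c⁻¹ * (t⁻¹ * b⁻¹)))))) = 1 := by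
    calc _ = (b * t) * ((c * t * b * t) ^ 2)⁻¹ * (b * t)⁻¹ := by simp only [pow_succ]; group
      _ = 1 := by rw [h2]; simp
  rw [hi] at k4 k5
  simp only [Rels, jP, List.forall_mem_cons, ev_cons, ev_nil, List.getD_cons_zero, List.getD_cons_succ, mul_one]
  simp [ht, k1, k2, k3, k4, k5]

def wa : List ℕ := [1, 0, 2, 0, 1, 0, 2, 0, 1, 0, 1, 0, 2, 0, 1, 0, 2]
def wb : List ℕ := [2, 2, 0, 2, 0, 2, 0, 2, 0, 2, 0, 2, 0, 2, 2, 0, 2, 0, 2, 0]
def wc : List ℕ := [0, 1, 0, 1, 0, 1, 1, 0, 1, 0, 1, 0, 1, 0, 1, 0, 1, 0, 1, 1, 1, 0, 1, 0, 1, 0, 1, 1, 0, 1, 0, 1, 0, 1, 1, 0, 1, 0, 1, 0, 1]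
def wu : List ℕ := [1, 0, 1, 0, 2, 0, 2, 0, 1, 0, 1, 0, 1]
def wd : List ℕ := [0, 1, 0, 2, 0, 2, 0, 2, 0, 2]
def jW : List (List ℕ) := [wa, wb, wc, (wa.map iv).reverse, (wb.map iv).reverse, (wc.map iv).reverse]
theorem jW_acts : ActsL 24 GE.e (jW.map (ev (mN.map mm))) jP.Ns := actsL_of_wordsChk (K := 5) mN_acts (by decide +kernel)
def uN : List Net := [(.cons 1 0x55451 (.cons 2 0x333303 (.cons 4 0xa0900 (.cons 8 0xd0 (.cons 16 0xf6 (.cons 8 0xe0 (.cons 4 0x50600 (.cons 2 0x213300 (.cons 1 0x500104 .nil))))))))), (.cons 1 0x1411 (.cons 2 0x130133 (.cons 4 0xd0809 (.cons 8 0xbf (.cons 16 0xf8 (.cons 8 0x18 (.cons 4 0x800 (.cons 2 0x122100 (.cons 1 0x544100 .nil)))))))))]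
theorem uN_acts : ActsL 24 GE.e ([[0], wu].map (ev (mN.map mm))) uN := actsL_of_wordsChk (K := 5) mN_acts (by decide +kernel)
theorem l0_mem : GE.fam jP.l0 ∈ trios := fam_mem_trios (by decide +kernel) rfl (by decide +kernel)
theorem stab_l0 : stabilizer MM (GE.fam jP.l0) = cl ([[0], wu].map (ev (mN.map mm))) := by
  refine (Subgroup.eq_of_le_of_card_ge (cl_le (GE.stab_fam uN_acts (by decide +kernel))) ?_).symm
  obtain ⟨g, hg⟩ := exists_smul_eT l0_mem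
  rw [card_stab_top _ (m := 3795) (c := 64512) (by rw [← hg, orbit_smul, tabT'.ncard]) (by norm_num) card_MM]
  exact le_card_cl (K := 5) GE.injOn uN_acts [([1, 2, 1, 3, 3, 0, 3, 0, 2, 2, 0], (.cons 1 0x444004 (.cons 2 0x322132 (.cons 4 0x70c08 (.cons 8 0xd6 (.cons 16 0x7e (.cons 8 0x36 (.cons 4 0xa0000 (.cons 2 0x1000 (.cons 1 0x114540 .nil)))))))))), ([5, 3, 3, 4, 4, 4, 3, 3], (.cons 1 0x150404 (.cons 2 0x31000 (.cons 4 0x20500 (.cons 8 0x9d (.cons 16 0x4d (.cons 8 0xd (.cons 4 0x500 (.cons 2 0x20000 (.cons 1 0x150400 .nil)))))))))), ([3, 3, 1, 2, 1, 1, 1], (.cons 1 0x514054 (.cons 2 0x11030 (.cons 4 0xc0a0c (.cons 8 0xf1 (.cons 16 0xbd (.cons 8 0x89 (.cons 4 0xa0000 (.cons 2 0x10230 (.cons 1 0x450500 .nil)))))))))), ([3, 5, 5, 2, 4, 3], (.cons 1 0x404454 (.cons 2 0x233020 (.cons 4 0x70c0c (.cons 8 0xe3 (.cons 16 0xff (.cons 8 0x43 (.cons 4 0x50600 (.cons 2 0x300010 (.cons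 1 0x14550 .nil)))))))))), ([0, 0, 0], (.cons 1 0x151000 (.cons 2 0x333100 (.cons 4 0x90000 (.cons 8 0x4a (.cons 16 0x9a (.cons 8 0xa (.cons 4 0x90000 (.cons 2 0x231000 (.cons 1 0x151000 .nil)))))))))), ([4, 2, 2, 2, 4, 3, 4, 3, 5], (.cons 1 0x500400 (.cons 2 0x100200 (.cons 4 0xb0300 (.cons 8 0xe (.cons 16 0xde (.cons 8 0xe (.cons 4 0xb0800 (.cons 2 0x302000 (.cons 1 0x500400 .nil)))))))))), ([4, 7, 7, 4, 7, 7, 7], (.cons 1 0x545400 (.cons 2 0x321130 (.cons 4 0x20108 (.cons 8 0x96 (.cons 16 0xf6 (.cons 8 0xb6 (.cons 4 0x50000 (.cons 2 0x33120 (.cons 1 0x100000 .nil)))))))))), ([6, 8, 8, 8, 7, 8, 6], (.cons 1 0x554010 (.cons 2 0x130220 (.cons 4 0x20c08 (.cons 8 0xe3 (.cons 16 0xfb (.cons 8 0xb (.cons 4 0x100 (.cons 2 0x130000 (.cons 1 0x555110 .nil)))))))))), ([3, 5, 7, 2], (.cons 1 0x40100 (.cons 2 0x3000 (.cons 4 0x70900 (.cons 8 0xd6 (.cons 16 0x6 (.cons 8 0x6 (.cons 4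 0x60900 (.cons 2 0x1000 (.cons 1 0x100 .nil)))))))))), ([7, 7, 4, 4, 3, 3, 5, 5], (.cons 1 0x50540 (.cons 2 0x320110 (.cons 4 0xd0f00 (.cons 8 0xd9 (.cons 16 0x9 (.cons 8 0x9 (.cons 4 0x90d00 (.cons 2 0x300000 (.cons 1 0x50540 .nil)))))))))), ([7, 5, 6, 11, 5, 7, 9, 6], (.cons 1 0x45100 (.cons 2 0x220210 (.cons 4 0x60400 (.cons 8 0x60 (.cons 16 0xf0 (.cons 8 0x30 (.cons 4 0x30100 (.cons 2 0x331100 (.cons 1 0x45100 .nil)))))))))), ([12, 10, 6, 13, 13, 6, 12], (.cons 1 0x115000 (.cons 2 0x330300 (.cons 4 0x50000 (.cons 8 0x4f (.cons 16 0x9f (.cons 8 0xf (.cons 4 0x50000 (.cons 2 0x210000 (.cons 1 0x114000 .nil)))))))))), ([14, 11, 14, 9, 12, 9, 10, 15], (.cons 1 0x40100 (.cons 2 0x3000 (.cons 4 0x70900 (.cons 8 0xd6 (.cons 16 0x6 (.cons 8 0x6 (.cons 4 0x60900 (.cons 2 0x1000 (.cons 1 0x100 .nil))))))))))] [13, 14, 12, 11, 10, 9, 8, 7, 6, 5, 4, 3, 2, 1, 0] [(0, 1, 2), (1, 1,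 2), (2, 1, 2), (3, 1, 4), (4, 1, 5)] (by decide +kernel)
noncomputable def jVs : List Vr := [jV0, jV1, jV3, jV4, jV5, jV6, jV7, jV8, jV9, jV10, jV11, jV12, jV13, jV15, jV16, jV17, jV18, jV19, jV20, jV21]
theorem jVs_ok : ∀ r ∈ jVs, VOk jP 3280 [0, 1, 3, 4, 5, 6, 7, 8, 9, 10, 11, 12, 13, 15, 16, 17, 18, 19, 20, 21] r := by
  simp only [jVs, List.forall_mem_cons]
  exact ⟨jv0, jv1, jv3, jv4, jv5, jv6, jv7, jv8, jv9, jv10, jv11, jv12, jv13, jv15, jv16, jv17, jv18, jv19, jv20, jv21, by simp⟩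

theorem up {G : Type} [Group G] {x y t : G} (h1 : x ^ 2 = 1) (h2 : y ^ 3 = 1) (h3 : (x * y) ^ 23 = 1)
    (h4 : (x⁻¹ * y⁻¹ * x * y) ^ 12 = 1)
    (h5 : (x⁻¹ * (y * x * y)⁻¹ * x * (y * x * y)) ^ 5 = 1) (h6 : (x * y * ((x * y * x * (y⁻¹)) ^ 3)) ^ 4 = 1)
    (h7 : ((x * y * x * y * x * (y⁻¹)) ^ 3) * ((x * y * x * (y⁻¹) * x * (y⁻¹)) ^ 3) = 1) (h8 : t ^ 2 = 1)
    (h9 : t⁻¹ * (y * x * y * ((x * (y⁻¹)) ^ 2) * ((x * y) ^ 3))⁻¹ * t * (y * x * y * ((x * (y⁻¹)) ^ 2) * ((x * y) ^ 3)) = 1)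
    (h10 : t⁻¹ * x⁻¹ * t * x = 1)
    (h11 : (y * ((y * x * (y⁻¹) * x * y * x * (y⁻¹) * x)⁻¹ * t * (y * x * (y⁻¹) * x * y * x * (y⁻¹) * x))) ^ 3 = 1)
    (h12 : (((y * x * y * x * y * x * y) ^ 3) * t * ((((x * y) ^ 3) * y * ((x * y) ^ 6) * y)⁻¹ * t *
      (((x * y) ^ 3) * y * ((x * y) ^ 6) * y))) ^ 2 = 1)
    (htop : Subgroup.closure {x, y, t} = ⊤) (H : Subgroup G) (hx : x ∈ H) (hy : y ∈ H)
    (he : (y * ((y * x) ^ 4 * y⁻¹ * x)⁻¹ * t * ((y * x) ^ 4 * y⁻¹ * x)) ^ 3 ∈ H) :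
    H.index ≠ 0 ∧ H.index ≤ 173067389 := by
  have hr := rels7 h1 h2 h3 h4 h5 h6 h7
  obtain ⟨π, hπ⟩ := hom hr
  have hxx : x * x = 1 := by rwa [← sq]
  have htt : t * t = 1 := by rwa [← sq]
  have hX : x⁻¹ = x := inv_eq_of_mul_eq_one_right hxx
  have ea : ev [x, y, y⁻¹] wa = (y * x * (y⁻¹) * x * y * x * (y⁻¹) * x) * y * (y * x * (y⁻¹) * x * y * x * (y⁻¹) * x)⁻¹ := by
    simp only [wa, ev_cons, ev_nil, List.getD_cons_zero, List.getD_cons_succ, mul_one, mul_inv_rev, hX, inv_inv,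
      mul_assoc]
  have eb : ev [x, y, y⁻¹] wb = (((x * y) ^ 3) * y * ((x * y) ^ 6) * y)⁻¹ := by
    simp only [wb, ev_cons, ev_nil, List.getD_cons_zero, List.getD_cons_succ, mul_one, mul_inv_rev, hX, inv_inv,
      mul_assoc, pow_succ, pow_zero, one_mul]
  have ec : ev [x, y, y⁻¹] wc = (((x * y) ^ 3) * y * ((x * y) ^ 6) * y) * ((y * x * y * x * y * x * y) ^ 3) := by
    simp only [wc, ev_cons, ev_nil, List.getD_cons_zero, List.getD_cons_succ, mul_one, mul_inv_rev, hX, inv_inv,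
      mul_assoc, pow_succ, pow_zero, one_mul]
  have eu : ev [x, y, y⁻¹] wu = y * x * y * ((x * (y⁻¹)) ^ 2) * ((x * y) ^ 3) := by
    simp only [wu, ev_cons, ev_nil, List.getD_cons_zero, List.getD_cons_succ, mul_one, mul_inv_rev, hX, inv_inv,
      mul_assoc, pow_succ, pow_zero, one_mul]
  have ed : ev [x, y, y⁻¹] wd = ((y * x) ^ 4 * y⁻¹ * x)⁻¹ := by
    simp only [wd, ev_cons, ev_nil, List.getD_cons_zero, List.getD_cons_succ, mul_one, mul_inv_rev, hX, inv_inv,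
      mul_assoc, pow_succ, pow_zero, one_mul]
  have e0 : ev [x, y, y⁻¹] [0] = x := ev_single _ _
  have hR := rr (a := ev [x, y, y⁻¹] wa) (b := ev [x, y, y⁻¹] wb) (c := ev [x, y, y⁻¹] wc) htt (by
      rw [ea]
      generalize y * x * (y⁻¹) * x * y * x * (y⁻¹) * x = w at h11 ⊢
      rw [show w * y * w⁻¹ * t = w * (y * (w⁻¹ * t * w)) * w⁻¹ by group, conj_pow, h11]; simp) (by
      rw [eb, ec]
      generalize ((x * y) ^ 3) * y * ((x * y) ^ 6) * y = w at h12 ⊢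
      generalize (y * x * y * x * y * x * y) ^ 3 = v at h12 ⊢
      rw [show w * v * t * w⁻¹ * t = w * (v * t * (w⁻¹ * t * w)) * w⁻¹ by group, conj_pow, h12]; simp)
  obtain ⟨T, T0, eqv⟩ := exists_T' (π := π) (t := t) (l0 := GE.fam jP.l0) fun g hg => by
    rw [stab_l0] at hg
    refine ((Subgroup.mem_centralizer_iff.1 (cl_le (H := (Subgroup.centralizer {t}).comap π)
      (fun g hg => ?_) hg)) _ rfl).symm
    rw [Subgroup.mem_comap, Subgroup.mem_centralizer_iff]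
    intro t' ht'
    rw [show t' = t from ht']
    simp only [List.map_cons, List.map_nil, List.mem_cons, List.not_mem_nil, or_false] at hg
    rcases hg with rfl | rfl
    · rw [hπ, e0]
      calc _ = x * t * (t⁻¹ * x⁻¹ * t * x) := by group
        _ = _ := by rw [h10, mul_one]
    · rw [hπ, eu]
      generalize y * x * y * ((x * (y⁻¹)) ^ 2) * ((x * y) ^ 3) = u at h9 ⊢
      calc _ = u * t * (t⁻¹ * u⁻¹ * t * u) := by group
        _ = _ := by rw [h9, mul_one]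
  have hH : ∀ k, π k ∈ H := fun k => cl_le (H := H.comap π) (gs := mN.map mm) (fun g hg => by
    obtain ⟨i, hi, rfl⟩ := List.getElem_of_mem hg
    rw [Subgroup.mem_comap, ← List.getD_eq_getElem _ 1, ← ev_single, hπ, ev_single]
    rcases i with _ | _ | _ | i
    exacts [hx, hy, inv_mem hy, one_mem _]) (mN_top ▸ Subgroup.mem_top k)
  have hT : ∀ w l, fm (catN mN w) jP.l0 (lab jP l) = true →
      T (GE.fam (lab jP l)) = ev [x, y, y⁻¹] w * t * (ev [x, y, y⁻¹] w)⁻¹ := fun w l h => by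
    rw [← fm_spec (acts_catN mN_acts w) h, ← hπ, ← T0, eqv, mul_inv_cancel_right]
  have C : Ctx jP (jW.map (ev (mN.map mm))) π t T _ ((1 : G) : G ⧸ H) := ⟨jW_acts, T0, eqv, htt, fun a ha => by
      interval_cases a <;> simp only [jW, List.map_cons, List.getD_cons_zero, List.getD_cons_succ, hπ, ev_iv hxx],
    rfl, hR, fun k => by rw [← mem_stabilizer_iff, stabilizer_quotient]; exact hH k, by
      rw [← mem_stabilizer_iff, stabilizer_quotient]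
      simp only [jP, List.map_cons, List.map_nil, List.prod_cons, List.prod_nil]
      rw [if_pos (by norm_num), if_pos (by norm_num), if_pos (by norm_num)]
      change T (GE.fam (lab jP 762)) * (T (GE.fam (lab jP 2569)) * (T (GE.fam (lab jP 3278)) * 1)) ∈ H
      rw [hT (1 :: wd) _ (by decide +kernel), hT (1 :: 1 :: wd) _ (by decide +kernel), hT wd _ (by decide +kernel)]
      simp only [ev_cons, List.getD_cons_zero, List.getD_cons_succ, ed]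
      generalize (y * x) ^ 4 * y⁻¹ * x = w at he ⊢
      have : y * w⁻¹ * t * (y * w⁻¹)⁻¹ * (y * (y * w⁻¹) * t * (y * (y * w⁻¹))⁻¹ * (w⁻¹ * t * w⁻¹⁻¹ * 1)) =
          (y * w⁻¹ * t * w) ^ 2 * y * (y ^ 3)⁻¹ * (w⁻¹ * t * w) * 1 := by simp only [pow_succ]; group
      rw [this, h2]
      convert he using 1
      simp only [pow_succ]; group⟩
  have hG : Good jP π T ((1 : G) : G ⧸ H) 3280 :=
    ((((((((((((((((Good.zero.run C jr0).run C jr205).run C jr410).run C jr615).run C jr820).run C jr1025).run C jr1230).run C jr1435).run C jr1640).run C jr1845).run C jr2050).run C jr2255).run C jr2460).run C jr2665).run C jr2870).run C jr3075)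
  obtain ⟨b, c⟩ := ncard_cover hG jVs_ok
  have hu : {y | ∃ r ∈ jVs, ∃ k, y = π k • vtx jP T ((1 : G) : G ⧸ H) r.i} = Set.univ := by
    refine Set.eq_univ_of_forall fun q => ?_
    obtain ⟨g, rfl⟩ := QuotientGroup.mk_surjective q
    have := cover C jP_lab hG jVs_ok rfl (by simp) rfl l0_mem (A := {x, y, t}) (g := g) (by
      rintro _ (rfl | rfl | rfl)
      exacts [Or.inl ⟨_, (hπ [0]).trans e0⟩, Or.inl ⟨_, (hπ [1]).trans (ev_single _ _)⟩, Or.inr rfl])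
      (htop ▸ Subgroup.mem_top g)
    rwa [Quotient.smul_mk, smul_eq_mul, mul_one] at this
  rw [hu] at b c
  rw [Set.ncard_univ] at c
  have := Set.finite_univ_iff.1 b
  exact ⟨Subgroup.index_ne_zero_of_finite, c.trans (by decide +kernel)⟩

end H7.JD
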