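import Cfsg.Agent.H7.J4e

/-! The orbit of the coset of `M24` under `2^11 : M24`, with the sextets as labels. -/

set_option autoImplicit false

namespace H7.JD
open H27 H28 H28.Dc Cfsg MulAction
open scoped Pointwise
noncomputable section

/-- an entry: the sextet (number and masks), the network, the length and the program -/
structure En where
  l : ℕ
  X : List ℕ
  k : ℕ
  n : ℕ
  st : ℕ
variable (P : Pr)
def schk (n : ℕ) (r : Vr) : Bool :=
  allL r.S fun s => and' (blt s n) (force (fct P s) fun f => and' (and' (Nat.beq (fI f) r.i) (Nat.beq (fJ f) r.i))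
      (Nat.ble 3795 (fM f)))
def SOk' (n : ℕ) (r : Vr) : Prop :=
  schk P n r = true ∧ 0 < r.c ∧ ∃ S sel L, and' (Nat.ble 24 (Nat.shiftLeft 1 5))
    (and' (slpChk 5 24 S (sN P r)) (Nat.beq (chain 5 24 L (wordN (slpN S (sN P r)) sel)) r.c)) = true
def echk (n : ℕ) (al w s0 : List ℕ) (r : Vr) (Es : List En) (Ms : List Net) : Bool :=
  and' (allL Es fun x => and' (and' (blt x.l 1771) (Enum.famChk 24 3 1771 TS x.l x.X))
      (and' (and' (m24chk (unN x.k)) (fm (unN x.k) x.X s0))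
        (walk P n (fun _ i => memN al i) x.n x.st w (unN x.k) r.i)))
    (and' (chkS (sN P r) Ms) (Nat.beq (orb Ms r.k (orL (mapL En.l Es))) (ones 1771)))
theorem SOk'.of {n : ℕ} {r : Vr} (S : List (List ℕ × Net)) (sel : List ℕ)
    (L : List (ℕ × ℕ × ℕ)) (h : and' (and' (schk P n r) (blt 0 r.c))
      (and' (Nat.ble 24 (Nat.shiftLeft 1 5)) (and' (slpChk 5 24 S (sN P r))
        (Nat.beq (chain 5 24 L (wordN (slpN S (sN P r)) sel)) r.c))) = true) : SOk' P n r := by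
  rw [and'_eq, Bool.and_eq_true, and'_eq (schk P n r), Bool.and_eq_true, blt_iff] at h
  exact ⟨h.1.1, h.1.2, S, sel, L, h.2⟩

variable {G Ω : Type} [Group G] [MulAction G Ω]
variable {P} {ks : List MM} {π : MM →* G} {t : G} {T : Finset (Finset GolayPt) → G} {xs : List G} {ω : Ω}
  {n : ℕ} {al : List ℕ}

theorem SOk'.stab (hG : Good P π T ω n) {r : Vr} (h : SOk' P n r) :
    ∃ gs : List MM, ActsL 24 GE.e gs (sN P r) ∧ r.c ≤ Nat.card (cl gs) ∧
      ∀ g ∈ cl gs, π g • vtx P T ω r.i = vtx P T ω r.i := by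
  have h2 := h.1
  simp only [schk, and'_eq, Bool.and_eq_true, allL_iff, beq_iff, Nat.ble_eq, force_eq, blt_iff] at h2
  suffices ∃ gs : List MM, ActsL 24 GE.e gs (sN P r) ∧ ∀ g ∈ gs, π g • vtx P T ω r.i = vtx P T ω r.i by
    obtain ⟨gs, a, b⟩ := this
    obtain ⟨S, sel, L, h1⟩ := h.2.2
    exact ⟨gs, a, le_card_cl GE.injOn a S sel L h1, fun g hg =>
      cl_le (H := stabilizer MM (α := Via π Ω) (vtx (Ω := Ω) P T ω r.i)) b hg⟩
  rw [sN, mapL_eq]
  generalize r.S = S at h2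
  induction S with
  | nil => exact ⟨[], .nil, fun _ h => by cases h⟩
  | cons s S ih =>
    obtain ⟨gs, a, b⟩ := ih fun x hx => h2 x (List.mem_cons_of_mem _ hx)
    obtain ⟨h0, ⟨h3, h4⟩, h5⟩ := h2 s List.mem_cons_self
    obtain ⟨g, c, d⟩ := hG s h0
    rw [h3, h4, TT_ge (not_lt.2 h5), one_smul] at d
    exact ⟨g :: gs, .cons c a, List.forall_mem_cons.2 ⟨d.symm, b⟩⟩

theorem SOk'.card (hG : Good P π T ω n) {r : Vr} (h : SOk' P n r) :
    (Set.range fun k => π k • vtx P T ω r.i).ncard ≤ 244823040 / r.c := by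
  obtain ⟨gs, -, h2, b⟩ := h.stab hG
  have h3 := card_eq_orbit_mul_top (G := MM) (Ω := Via π Ω) (vtx (Ω := Ω) P T ω r.i)
  have h4 : cl gs ≤ stabilizer MM (α := Via π Ω) (vtx (Ω := Ω) P T ω r.i) := b
  rw [Nat.le_div_iff_mul_le h.2.1, ← card_MM, h3]
  exact Nat.mul_le_mul_left _ (h2.trans (Subgroup.card_le_of_le h4))

theorem SOk'.stab_eq (hG : Good P π T ω n) {r : Vr} (h : SOk' P n r) (hc : r.c = 138240) {s0 : List ℕ}
    (hs : GE.fam s0 ∈ sextets) (hf : allL (sN P r) (fun N => Enum.famMap N s0 s0) = true) {g : MM}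
    (hg : g • GE.fam s0 = GE.fam s0) : π g • vtx P T ω r.i = vtx P T ω r.i := by
  obtain ⟨gs, a, h2, b⟩ := h.stab hG
  refine b g (?_ : g ∈ cl gs)
  rw [Subgroup.eq_of_le_of_card_ge (cl_le (GE.stab_fam a hf)) ?_]
  · exact hg
  obtain ⟨g, hg⟩ := exists_smul_eS hs
  rw [card_stab_top _ (m := 1771) (c := 138240) (by rw [← hg, orbit_smul, tabS'.ncard]) (by norm_num) card_MM]
  exact hc ▸ h2

theorem SOk'.ent (C : Ctx P ks π t T xs ω) (hG : Good P π T ω n) {r : Vr} (h : SOk' P n r) {w s0 : List ℕ}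
    {Es : List En} {Ms : List Net} (h1 : echk P n al w s0 r Es Ms = true) (hs : GE.fam s0 ∈ sextets)
    (he : ∀ g : MM, g • GE.fam s0 = GE.fam s0 → ∃ g', (ev xs w)⁻¹ * π g = π g' * (ev xs w)⁻¹) (k : MM) :
    ∃ j ∈ al, ∃ k', (ev xs w)⁻¹ • π k • vtx P T ω r.i = π k' • vtx P T ω j := by
  obtain ⟨gs, a, -, b⟩ := h.stab hG
  simp only [echk, and'_eq, Bool.and_eq_true, allL_iff, beq_iff, blt_iff] at h1
  have a' := a.toS h1.2.1
  obtain ⟨l, hl, h2⟩ := tabS.surj _ (smul_mem_sextets k⁻¹ hs)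
  obtain ⟨k0, h3, j, hj, k', h4⟩ := (orb_ind (n := 1771) (fun _ => a'.ok)
    (fun l => ∃ k0 : MM, k0 • eS l = GE.fam s0 ∧
      ∃ j ∈ al, ∃ k', ((ev xs w)⁻¹ * π k0) • vtx P T ω r.i = π k' • vtx P T ω j) (by
      rintro N hN l hl ⟨k0, h3, h4⟩
      obtain ⟨g, hg, c⟩ := a'.exists_left hN
      exact ⟨k0 * g, by rw [mul_smul, c.act l hl, h3], by
        rw [map_mul, ← mul_assoc, mul_smul, b g (mem_cl hg)]; exact h4⟩) r.k (by
      intro l hl
      rw [testBit_orL, mapL_eq] at hl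
      obtain ⟨x, hx, rfl⟩ := List.mem_map.1 hl
      obtain ⟨⟨h0, h3⟩, ⟨h4, h5⟩, h6⟩ := h1.1 x hx
      obtain ⟨g', q, i, -, h7, h8⟩ := walk_spec C hG _ h6 (acts_mm h4)
      exact ⟨h0, _, by rw [eS, GE.tpart_eq_fam h0 h3, fm_spec (acts_mm h4) h5], i, memN_mem h7, g', h8⟩)
    l (h1.2.2 ▸ (testBit_ones _ _).2 hl)).2
  obtain ⟨g', h5⟩ := he (k * k0⁻¹) (by rw [mul_smul, ← h3, inv_smul_smul, h2, smul_inv_smul, ← h2, h3])
  refine ⟨j, hj, g' * k', ?_⟩
  rw [map_mul, mul_smul, ← h4, smul_smul, smul_smul, ← mul_assoc, ← h5, mul_assoc, ← map_mul, inv_mul_cancel_right]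

theorem ncard_cover' (hG : Good P π T ω n) {recs : List Vr} (h : ∀ r ∈ recs, SOk' P n r) :
    {y | ∃ r ∈ recs, ∃ k, y = π k • vtx P T ω r.i}.Finite ∧
      {y | ∃ r ∈ recs, ∃ k, y = π k • vtx P T ω r.i}.ncard ≤ (recs.map fun r => 244823040 / r.c).sum := by
  induction recs with
  | nil => simp
  | cons r s ih =>
    obtain ⟨a, b⟩ := ih fun x hx => h x (List.mem_cons_of_mem _ hx)
    have : {y | ∃ r' ∈ r :: s, ∃ k, y = π k • vtx P T ω r'.i} =
        (Set.range fun k => π k • vtx P T ω r.i) ∪ {y | ∃ r ∈ s, ∃ k, y = π k • vtx P T ω r.i} := by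
      ext y; simp [eq_comm]
    rw [this]
    exact ⟨(Set.finite_range _).union a, (Set.ncard_union_le _ _).trans
      (Nat.add_le_add ((h r List.mem_cons_self).card hG) b)⟩

end
end H7.JD
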