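import Cfsg.Agent.H7.J4i
import Cfsg.Agent.H7.J4n

/-! The order of `2^11 : M24` in the presentation of `J4`. -/

set_option maxRecDepth 100000
set_option autoImplicit false

namespace H7.JD
open H27 H28 H28.Dc H7.J4 Cfsg MulAction
open scoped Pointwise

def we : List ℕ := [1, 0, 1, 0, 1, 0, 1, 0, 2, 0, 2, 0, 1, 0, 2, 0, 2, 0, 2, 0, 2]
def wf : List ℕ := [1, 0, 1, 0, 1, 0, 1, 0, 2, 0, 2]
theorem kW_acts : ActsL 24 GE.e ([wd, we, wf].map (ev (mN.map mm))) kQ.Ns :=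
  actsL_of_wordsChk (K := 5) mN_acts (by decide +kernel)

theorem bd {G : Type} [Group G] {x y t : G} (h1 : x ^ 2 = 1) (h2 : y ^ 3 = 1) (h3 : (x * y) ^ 23 = 1)
    (h4 : (x⁻¹ * y⁻¹ * x * y) ^ 12 = 1)
    (h5 : (x⁻¹ * (y * x * y)⁻¹ * x * (y * x * y)) ^ 5 = 1) (h6 : (x * y * ((x * y * x * (y⁻¹)) ^ 3)) ^ 4 = 1)
    (h7 : ((x * y * x * y * x * (y⁻¹)) ^ 3) * ((x * y * x * (y⁻¹) * x * (y⁻¹)) ^ 3) = 1) (h8 : t ^ 2 = 1)
    (h9 : t⁻¹ * (y * x * y * ((x * (y⁻¹)) ^ 2) * ((x * y) ^ 3))⁻¹ * t * (y * x * y * ((x * (y⁻¹)) ^ 2) * ((x * y) ^ 3)) = 1)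
    (h10 : t⁻¹ * x⁻¹ * t * x = 1)
    (h11 : (y * ((y * x * (y⁻¹) * x * y * x * (y⁻¹) * x)⁻¹ * t * (y * x * (y⁻¹) * x * y * x * (y⁻¹) * x))) ^ 3 = 1)
    (h12 : (((y * x * y * x * y * x * y) ^ 3) * t * ((((x * y) ^ 3) * y * ((x * y) ^ 6) * y)⁻¹ * t *
      (((x * y) ^ 3) * y * ((x * y) ^ 6) * y))) ^ 2 = 1) :
    Bd (Subgroup.closure {x, y, (y * ((y * x) ^ 4 * y⁻¹ * x)⁻¹ * t * ((y * x) ^ 4 * y⁻¹ * x)) ^ 3})
      (2048 * 244823040) := by
  have hr := rels7 h1 h2 h3 h4 h5 h6 h7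
  obtain ⟨π, hπ⟩ := hom hr
  have hxx : x * x = 1 := by rwa [← sq]
  have htt : t * t = 1 := by rwa [← sq]
  have hX : x⁻¹ = x := inv_eq_of_mul_eq_one_right hxx
  have ea : ev [x, y, y⁻¹] wa = (y * x * (y⁻¹) * x * y * x * (y⁻¹) * x) * y * (y * x * (y⁻¹) * x * y * x * (y⁻¹) * x)⁻¹ := by
    simp only [wa, ev_cons, ev_nil, List.getD_cons_zero, List.getD_cons_succ, mul_one, mul_inv_rev, hX, inv_inv,
      mul_assoc]
  have eb : ev [x, y, y⁻¹] wb = (((x * y) ^ 3) * y * ((x * y) ^ 6) * y)⁻¹ := by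
    simp only [wb, ev_cons, ev_nil, List.getD_cons_zero, List.getD_cons_succ, mul_one, mul_inv_rev, hX, inv_inv,
      mul_assoc, pow_succ, pow_zero, one_mul]
  have ec : ev [x, y, y⁻¹] wc = (((x * y) ^ 3) * y * ((x * y) ^ 6) * y) * ((y * x * y * x * y * x * y) ^ 3) := by
    simp only [wc, ev_cons, ev_nil, List.getD_cons_zero, List.getD_cons_succ, mul_one, mul_inv_rev, hX, inv_inv,
      mul_assoc, pow_succ, pow_zero, one_mul]
  have eu : ev [x, y, y⁻¹] wu = y * x * y * ((x * (y⁻¹)) ^ 2) * ((x * y) ^ 3) := by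
    simp only [wu, ev_cons, ev_nil, List.getD_cons_zero, List.getD_cons_succ, mul_one, mul_inv_rev, hX, inv_inv,
      mul_assoc, pow_succ, pow_zero, one_mul]
  have ed : ev [x, y, y⁻¹] wd = ((y * x) ^ 4 * y⁻¹ * x)⁻¹ := by
    simp only [wd, ev_cons, ev_nil, List.getD_cons_zero, List.getD_cons_succ, mul_one, mul_inv_rev, hX, inv_inv,
      mul_assoc, pow_succ, pow_zero, one_mul]
  have e0 : ev [x, y, y⁻¹] [0] = x := ev_single _ _
  have hR := rr (a := ev [x, y, y⁻¹] wa) (b := ev [x, y, y⁻¹] wb) (c := ev [x, y, y⁻¹] wc) htt (by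
      rw [ea]
      generalize y * x * (y⁻¹) * x * y * x * (y⁻¹) * x = w at h11 ⊢
      rw [show w * y * w⁻¹ * t = w * (y * (w⁻¹ * t * w)) * w⁻¹ by group, conj_pow, h11]; simp) (by
      rw [eb, ec]
      generalize ((x * y) ^ 3) * y * ((x * y) ^ 6) * y = w at h12 ⊢
      generalize (y * x * y * x * y * x * y) ^ 3 = v at h12 ⊢
      rw [show w * v * t * w⁻¹ * t = w * (v * t * (w⁻¹ * t * w)) * w⁻¹ by group, conj_pow, h12]; simp)
  obtain ⟨T, T0, eqv⟩ := exists_T' (π := π) (t := t) (l0 := GE.fam jP.l0) fun g hg => by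
    rw [stab_l0] at hg
    refine ((Subgroup.mem_centralizer_iff.1 (cl_le (H := (Subgroup.centralizer {t}).comap π)
      (fun g hg => ?_) hg)) _ rfl).symm
    rw [Subgroup.mem_comap, Subgroup.mem_centralizer_iff]
    intro t' ht'
    rw [show t' = t from ht']
    simp only [List.map_cons, List.map_nil, List.mem_cons, List.not_mem_nil, or_false] at hg
    rcases hg with rfl | rfl
    · rw [hπ, e0]
      calc _ = x * t * (t⁻¹ * x⁻¹ * t * x) := by group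
        _ = _ := by rw [h10, mul_one]
    · rw [hπ, eu]
      generalize y * x * y * ((x * (y⁻¹)) ^ 2) * ((x * y) ^ 3) = u at h9 ⊢
      calc _ = u * t * (t⁻¹ * u⁻¹ * t * u) := by group
        _ = _ := by rw [h9, mul_one]
  have hT : ∀ w l, fm (catN mN w) jP.l0 (lab jP l) = true →
      T (GE.fam (lab jP l)) = ev [x, y, y⁻¹] w * t * (ev [x, y, y⁻¹] w)⁻¹ := fun w l h => by
    rw [← fm_spec (acts_catN mN_acts w) h, ← hπ, ← T0, eqv, mul_inv_cancel_right]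
  have ee : ev [x, y, y⁻¹] we = ((y * x) ^ 4 * y⁻¹ * x) * y⁻¹ * ((y * x) ^ 4 * y⁻¹ * x)⁻¹ := by
    simp only [we, ev_cons, ev_nil, List.getD_cons_zero, List.getD_cons_succ, mul_one, mul_inv_rev, hX, inv_inv,
      mul_assoc, pow_succ, pow_zero, one_mul]
  have ef : ev [x, y, y⁻¹] wf = ((y * x) ^ 4 * y⁻¹ * x) * y⁻¹ := by
    simp only [wf, ev_cons, ev_nil, List.getD_cons_zero, List.getD_cons_succ, mul_one, mul_inv_rev, hX, inv_inv,
      mul_assoc, pow_succ, pow_zero, one_mul]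
  have hω : ∀ g : G, g • ((1 : G) : G ⧸ π.range) = ((1 : G) : G ⧸ π.range) ↔ ∃ k, π k = g := fun g => by
    rw [← mem_stabilizer_iff, stabilizer_quotient]; rfl
  have C : Ctx kP (jW.map (ev (mN.map mm))) π t T _ ((1 : G) : G ⧸ π.range) := ⟨jW_acts, T0, eqv, htt, fun a ha => by
      interval_cases a <;> simp only [jW, List.map_cons, List.getD_cons_zero, List.getD_cons_succ, hπ, ev_iv hxx],
    rfl, hR, fun k => (hω _).2 ⟨k, rfl⟩, one_smul _ _⟩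
  have C' : Ctx kQ ([wd, we, wf].map (ev (mN.map mm))) π t T
      [ev [x, y, y⁻¹] wd, ev [x, y, y⁻¹] we, ev [x, y, y⁻¹] wf, 1, 1, 1, t] ((1 : G) : G ⧸ π.range) :=
    ⟨kW_acts, T0, eqv, htt, fun a ha => by
      interval_cases a <;> simp [hπ], rfl, fun _ h => (by cases h), fun k => (hω _).2 ⟨k, rfl⟩, one_smul _ _⟩
  have hG : Good kQ π T ((1 : G) : G ⧸ π.range) 405 := fun d hd => Good.zero.run C kr d hd
  have e1 : (ev [ev [x, y, y⁻¹] wd, ev [x, y, y⁻¹] we, ev [x, y, y⁻¹] wf, 1, 1, 1, t] [0, 6, 1, 6, 1, 6, 2])⁻¹ =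
      (y * ((y * x) ^ 4 * y⁻¹ * x)⁻¹ * t * ((y * x) ^ 4 * y⁻¹ * x)) ^ 3 := by
    simp only [ev_cons, ev_nil, List.getD_cons_zero, List.getD_cons_succ, ed, ee, ef]
    generalize (y * x) ^ 4 * y⁻¹ * x = w
    simp only [mul_inv_rev, inv_eq_of_mul_eq_one_right htt, pow_succ]; group
  have e2 : vtx kQ T ((1 : G) : G ⧸ π.range) 3 =
      (y * ((y * x) ^ 4 * y⁻¹ * x)⁻¹ * t * ((y * x) ^ 4 * y⁻¹ * x)) ^ 3 • ((1 : G) : G ⧸ π.range) := by
    change (T (GE.fam (lab jP 762)) * (T (GE.fam (lab jP 2569)) * (T (GE.fam (lab jP 3278)) * 1))) • _ = _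
    rw [hT (1 :: wd) _ (by decide +kernel), hT (1 :: 1 :: wd) _ (by decide +kernel), hT wd _ (by decide +kernel)]
    simp only [ev_cons, List.getD_cons_zero, List.getD_cons_succ, ed]
    generalize (y * x) ^ 4 * y⁻¹ * x = w
    have : y * w⁻¹ * t * (y * w⁻¹)⁻¹ * (y * (y * w⁻¹) * t * (y * (y * w⁻¹))⁻¹ * (w⁻¹ * t * w⁻¹⁻¹ * 1)) =
        (y * w⁻¹ * t * w) ^ 2 * y * (y ^ 3)⁻¹ * (w⁻¹ * t * w) * 1 := by simp only [pow_succ]; group
    rw [this, h2]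
    congr 1
    simp only [pow_succ]; group
  have e3 : vtx kQ T ((1 : G) : G ⧸ π.range) 0 = ((1 : G) : G ⧸ π.range) := one_smul _ _
  obtain ⟨g0, q0, i0, -, a1, a2⟩ := walk_spec C' hG _ ksq (Acts.one (G := MM))
  rw [beq_iff] at a1
  rw [a1, e1, e2, e3, map_one, mul_one, smul_smul, C.fix, hω] at a2
  obtain ⟨k2, hk2⟩ := a2
  generalize (y * ((y * x) ^ 4 * y⁻¹ * x)⁻¹ * t * ((y * x) ^ 4 * y⁻¹ * x)) ^ 3 = e at *
  have he : ∀ g : MM, g • GE.fam kS0 = GE.fam kS0 → ∃ g', e * π g = π g' * e := fun g hg => by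
    have := kv3.stab_eq hG rfl kS0_mem kfix hg
    change π g • vtx kQ T _ 3 = vtx kQ T _ 3 at this
    rw [e2, smul_smul, ← inv_smul_eq_iff, smul_smul, hω] at this
    obtain ⟨k, hk⟩ := this
    refine ⟨k2 * k * k2⁻¹, ?_⟩
    rw [map_mul, map_mul, map_inv, hk, hk2]; group
  have ok : ∀ r ∈ [kV0, kV3, kV6], SOk' kQ 405 r := by
    simp only [List.forall_mem_cons]; exact ⟨kv0, kv3, kv6, by simp⟩
  obtain ⟨b, c⟩ := ncard_cover' hG ok
  let Y : G ⧸ π.range → Prop := fun y => ∃ r ∈ [kV0, kV3, kV6], ∃ k, y = π k • vtx kQ T ((1 : G) : G ⧸ π.range) r.i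
  have hK : ∀ k y, Y y → Y (π k • y) := by
    rintro k _ ⟨r, hr, k', rfl⟩; exact ⟨r, hr, k * k', by rw [map_mul, mul_smul]⟩
  have hE : ∀ y, Y y → Y (e • y) := by
    rintro _ ⟨r, hr, k, rfl⟩
    obtain ⟨j, hj, k', h⟩ : ∃ j ∈ [0, 3, 6], ∃ k', e • π k • vtx kQ T ((1 : G) : G ⧸ π.range) r.i =
        π k' • vtx kQ T ((1 : G) : G ⧸ π.range) j := by
      simp only [List.mem_cons, List.not_mem_nil, or_false] at hr
      rcases hr with rfl | rfl | rfl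
      exacts [e1 ▸ kv0.ent C' hG ke0 kS0_mem (e1 ▸ he) k, e1 ▸ kv3.ent C' hG ke3 kS0_mem (e1 ▸ he) k,
        e1 ▸ kv6.ent C' hG ke6 kS0_mem (e1 ▸ he) k]
    simp only [List.mem_cons, List.not_mem_nil, or_false] at hj
    rcases hj with rfl | rfl | rfl
    exacts [⟨kV0, by simp, k', h⟩, ⟨kV3, by simp, k', h⟩, ⟨kV6, by simp, k', h⟩]
  refine bd_of_orbit b (c.trans (by decide +kernel)) (fun g hg => ?_) (H := π.range)
    ⟨Finite.of_surjective _ π.rangeRestrict_surjective, card_MM ▸ Nat.card_le_card_of_surjective _ π.rangeRestrict_surjective⟩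
  suffices ∀ y, Y y → Y (g • y) from this _ ⟨kV0, by simp, 1, by rw [map_one, one_smul]; exact e3.symm⟩
  have hx' : π (ev (mN.map mm) [0]) = x := (hπ [0]).trans e0
  have hy' : π (ev (mN.map mm) [1]) = y := (hπ [1]).trans (ev_single _ _)
  induction hg using Subgroup.closure_induction'' with
  | one => simp
  | mem g hg =>
    rcases hg with rfl | rfl | rfl
    exacts [hx' ▸ hK _, hy' ▸ hK _, hE]
  | inv_mem g hg =>
    rcases hg with rfl | rfl | rfl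
    · exact hx' ▸ map_inv π _ ▸ hK _
    · exact hy' ▸ map_inv π _ ▸ hK _
    · intro y hy
      rw [show g⁻¹ = π k2⁻¹ * g by rw [map_inv, hk2]; group, mul_smul]
      exact hK _ _ (hE y hy)
  | mul a b _ _ iha ihb => exact fun y hy => mul_smul a b y ▸ iha _ (ihb y hy)

end H7.JD
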