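import Cfsg.Agent.H7.J4i

/-! Fixed points on the cosets of `2^11 : M24` in `J4`. -/

set_option maxRecDepth 100000
set_option autoImplicit false

namespace H7.JD
open H27 H28 H28.Dc H7.J4 Cfsg MulAction
open scoped Pointwise

theorem card_stab_trio {T : Finset (Finset GolayPt)} (h : T ∈ trios) : Nat.card (stabilizer MM T) = 64512 := by
  obtain ⟨g, hg⟩ := exists_smul_eT h
  exact card_stab_top _ (m := 3795) (by rw [← hg, orbit_smul, tabT'.ncard]) (by norm_num) card_MM

theorem ncard_un {α β : Type} (O : α → Set β) (l : List α) :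
    {y | ∃ r ∈ l, y ∈ O r}.ncard ≤ (l.map fun r => (O r).ncard).sum := by
  induction l with
  | nil => simp
  | cons r s ih =>
    have : {y | ∃ r' ∈ r :: s, y ∈ O r'} = O r ∪ {y | ∃ r ∈ s, y ∈ O r} := by ext y; simp
    rw [this]
    exact (Set.ncard_union_le _ _).trans (Nat.add_le_add le_rfl ih)

theorem in253 {K : Type} [Group K] [Finite K] {S : Subgroup K} (hS : Nat.card S = 253) {a b : K} (ha : orderOf a = 23)
    (hb : orderOf b = 23) (aS : a ∈ S) (bS : b ∈ S) : S ≤ Subgroup.normalizer (Subgroup.zpowers a : Set K) ∧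
      b ∈ Subgroup.zpowers a := by
  have h1 : Subgroup.zpowers a ≤ S := Subgroup.zpowers_le.2 aS
  have h2 : ((Subgroup.zpowers a).subgroupOf S).index = 11 := by
    have := ((Subgroup.zpowers a).subgroupOf S).card_mul_index
    rw [Nat.card_congr (Subgroup.subgroupOfEquivOfLe h1).toEquiv, Nat.card_zpowers, ha, hS] at this
    omega
  have h3 : ((Subgroup.zpowers a).subgroupOf S).Normal :=
    Subgroup.normal_of_index_eq_minFac_card (by rw [h2, hS]; norm_num)
  refine ⟨(Subgroup.normal_subgroupOf_iff_le_normalizer h1).1 h3, ?_⟩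
  have h4 := Subgroup.pow_index_mem (H := (Subgroup.zpowers a).subgroupOf S) ⟨b, bS⟩
  rw [h2] at h4
  have h5 : (b ^ 11) ^ 21 = b := by
    rw [← pow_mul, show 11 * 21 = 23 * 10 + 1 from rfl, pow_succ, pow_mul, ← hb, pow_orderOf_eq_one, one_pow, one_mul]
  exact h5 ▸ pow_mem (show b ^ 11 ∈ _ from h4) 21

theorem fixp {G : Type} [Group G] {x y t : G} (h1 : x ^ 2 = 1) (h2 : y ^ 3 = 1) (h3 : (x * y) ^ 23 = 1)
    (h4 : (x⁻¹ * y⁻¹ * x * y) ^ 12 = 1)
    (h5 : (x⁻¹ * (y * x * y)⁻¹ * x * (y * x * y)) ^ 5 = 1) (h6 : (x * y * ((x * y * x * (y⁻¹)) ^ 3)) ^ 4 = 1)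
    (h7 : ((x * y * x * y * x * (y⁻¹)) ^ 3) * ((x * y * x * (y⁻¹) * x * (y⁻¹)) ^ 3) = 1) (h8 : t ^ 2 = 1)
    (h9 : t⁻¹ * (y * x * y * ((x * (y⁻¹)) ^ 2) * ((x * y) ^ 3))⁻¹ * t * (y * x * y * ((x * (y⁻¹)) ^ 2) * ((x * y) ^ 3)) = 1)
    (h10 : t⁻¹ * x⁻¹ * t * x = 1)
    (h11 : (y * ((y * x * (y⁻¹) * x * y * x * (y⁻¹) * x)⁻¹ * t * (y * x * (y⁻¹) * x * y * x * (y⁻¹) * x))) ^ 3 = 1)
    (h12 : (((y * x * y * x * y * x * y) ^ 3) * t * ((((x * y) ^ 3) * y * ((x * y) ^ 6) * y)⁻¹ * t *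
      (((x * y) ^ 3) * y * ((x * y) ^ 6) * y))) ^ 2 = 1)
    (htop : Subgroup.closure {x, y, t} = ⊤) (H : Subgroup G) (hx : x ∈ H) (hy : y ∈ H)
    (he : (y * ((y * x) ^ 4 * y⁻¹ * x)⁻¹ * t * ((y * x) ^ 4 * y⁻¹ * x)) ^ 3 ∈ H) (hi : H.index = 173067389) :
    ∃ π : MM →* G, (∀ w, π (ev (mN.map mm) w) = ev [x, y, y⁻¹] w) ∧
      (∀ g ∈ stabilizer MM (GE.fam jP.l0), π g * t = t * π g) ∧
      ((∀ s : MM, orderOf s = 23 → Nat.card (Subgroup.normalizer (Subgroup.zpowers s : Set MM)) = 253) →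
        ∀ s : MM, orderOf s = 23 → ∃ q : G ⧸ H, ∀ p : G ⧸ H, π s • p = p → p = ((1 : G) : G ⧸ H) ∨ p = q) ∧
      (Subgroup.normalizer (stabilizer MM (GE.fam jP.l0) : Set MM) = stabilizer MM (GE.fam jP.l0) →
        ∀ p : G ⧸ H, (∀ u ∈ stabilizer MM (GE.fam jP.l0), π u • p = p) → p = ((1 : G) : G ⧸ H) ∨ p = (t : G ⧸ H)) := by
  have hr := rels7 h1 h2 h3 h4 h5 h6 h7
  obtain ⟨π, hπ⟩ := hom hr
  have hxx : x * x = 1 := by rwa [← sq]
  have htt : t * t = 1 := by rwa [← sq]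
  have hX : x⁻¹ = x := inv_eq_of_mul_eq_one_right hxx
  have ea : ev [x, y, y⁻¹] wa = (y * x * (y⁻¹) * x * y * x * (y⁻¹) * x) * y * (y * x * (y⁻¹) * x * y * x * (y⁻¹) * x)⁻¹ := by
    simp only [wa, ev_cons, ev_nil, List.getD_cons_zero, List.getD_cons_succ, mul_one, mul_inv_rev, hX, inv_inv,
      mul_assoc]
  have eb : ev [x, y, y⁻¹] wb = (((x * y) ^ 3) * y * ((x * y) ^ 6) * y)⁻¹ := by
    simp only [wb, ev_cons, ev_nil, List.getD_cons_zero, List.getD_cons_succ, mul_one, mul_inv_rev, hX, inv_inv,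
      mul_assoc, pow_succ, pow_zero, one_mul]
  have ec : ev [x, y, y⁻¹] wc = (((x * y) ^ 3) * y * ((x * y) ^ 6) * y) * ((y * x * y * x * y * x * y) ^ 3) := by
    simp only [wc, ev_cons, ev_nil, List.getD_cons_zero, List.getD_cons_succ, mul_one, mul_inv_rev, hX, inv_inv,
      mul_assoc, pow_succ, pow_zero, one_mul]
  have eu : ev [x, y, y⁻¹] wu = y * x * y * ((x * (y⁻¹)) ^ 2) * ((x * y) ^ 3) := by
    simp only [wu, ev_cons, ev_nil, List.getD_cons_zero, List.getD_cons_succ, mul_one, mul_inv_rev, hX, inv_inv,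
      mul_assoc, pow_succ, pow_zero, one_mul]
  have ed : ev [x, y, y⁻¹] wd = ((y * x) ^ 4 * y⁻¹ * x)⁻¹ := by
    simp only [wd, ev_cons, ev_nil, List.getD_cons_zero, List.getD_cons_succ, mul_one, mul_inv_rev, hX, inv_inv,
      mul_assoc, pow_succ, pow_zero, one_mul]
  have e0 : ev [x, y, y⁻¹] [0] = x := ev_single _ _
  have hR := rr (a := ev [x, y, y⁻¹] wa) (b := ev [x, y, y⁻¹] wb) (c := ev [x, y, y⁻¹] wc) htt (by
      rw [ea]
      generalize y * x * (y⁻¹) * x * y * x * (y⁻¹) * x = w at h11 ⊢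
      rw [show w * y * w⁻¹ * t = w * (y * (w⁻¹ * t * w)) * w⁻¹ by group, conj_pow, h11]; simp) (by
      rw [eb, ec]
      generalize ((x * y) ^ 3) * y * ((x * y) ^ 6) * y = w at h12 ⊢
      generalize (y * x * y * x * y * x * y) ^ 3 = v at h12 ⊢
      rw [show w * v * t * w⁻¹ * t = w * (v * t * (w⁻¹ * t * w)) * w⁻¹ by group, conj_pow, h12]; simp)
  have hcm : ∀ g ∈ stabilizer MM (GE.fam jP.l0), π g * t = t * π g := fun g hg => by
    rw [stab_l0] at hg
    refine ((Subgroup.mem_centralizer_iff.1 (cl_le (H := (Subgroup.centralizer {t}).comap π)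
      (fun g hg => ?_) hg)) _ rfl).symm
    rw [Subgroup.mem_comap, Subgroup.mem_centralizer_iff]
    intro t' ht'
    rw [show t' = t from ht']
    simp only [List.map_cons, List.map_nil, List.mem_cons, List.not_mem_nil, or_false] at hg
    rcases hg with rfl | rfl
    · rw [hπ, e0]
      calc _ = x * t * (t⁻¹ * x⁻¹ * t * x) := by group
        _ = _ := by rw [h10, mul_one]
    · rw [hπ, eu]
      generalize y * x * y * ((x * (y⁻¹)) ^ 2) * ((x * y) ^ 3) = u at h9 ⊢
      calc _ = u * t * (t⁻¹ * u⁻¹ * t * u) := by group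
        _ = _ := by rw [h9, mul_one]
  obtain ⟨T, T0, eqv⟩ := exists_T' hcm
  have hH : ∀ k, π k ∈ H := fun k => cl_le (H := H.comap π) (gs := mN.map mm) (fun g hg => by
    obtain ⟨i, hi, rfl⟩ := List.getElem_of_mem hg
    rw [Subgroup.mem_comap, ← List.getD_eq_getElem _ 1, ← ev_single, hπ, ev_single]
    rcases i with _ | _ | _ | i
    exacts [hx, hy, inv_mem hy, one_mem _]) (mN_top ▸ Subgroup.mem_top k)
  have hT : ∀ w l, fm (catN mN w) jP.l0 (lab jP l) = true →
      T (GE.fam (lab jP l)) = ev [x, y, y⁻¹] w * t * (ev [x, y, y⁻¹] w)⁻¹ := fun w l h => by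
    rw [← fm_spec (acts_catN mN_acts w) h, ← hπ, ← T0, eqv, mul_inv_cancel_right]
  have C : Ctx jP (jW.map (ev (mN.map mm))) π t T _ ((1 : G) : G ⧸ H) := ⟨jW_acts, T0, eqv, htt, fun a ha => by
      interval_cases a <;> simp only [jW, List.map_cons, List.getD_cons_zero, List.getD_cons_succ, hπ, ev_iv hxx],
    rfl, hR, fun k => by rw [← mem_stabilizer_iff, stabilizer_quotient]; exact hH k, by
      rw [← mem_stabilizer_iff, stabilizer_quotient]
      simp only [jP, List.map_cons, List.map_nil, List.prod_cons, List.prod_nil]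
      rw [if_pos (by norm_num), if_pos (by norm_num), if_pos (by norm_num)]
      change T (GE.fam (lab jP 762)) * (T (GE.fam (lab jP 2569)) * (T (GE.fam (lab jP 3278)) * 1)) ∈ H
      rw [hT (1 :: wd) _ (by decide +kernel), hT (1 :: 1 :: wd) _ (by decide +kernel), hT wd _ (by decide +kernel)]
      simp only [ev_cons, List.getD_cons_zero, List.getD_cons_succ, ed]
      generalize (y * x) ^ 4 * y⁻¹ * x = w at he ⊢
      have : y * w⁻¹ * t * (y * w⁻¹)⁻¹ * (y * (y * w⁻¹) * t * (y * (y * w⁻¹))⁻¹ * (w⁻¹ * t * w⁻¹⁻¹ * 1)) =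
          (y * w⁻¹ * t * w) ^ 2 * y * (y ^ 3)⁻¹ * (w⁻¹ * t * w) * 1 := by simp only [pow_succ]; group
      rw [this, h2]
      convert he using 1
      simp only [pow_succ]; group⟩
  have hG : Good jP π T ((1 : G) : G ⧸ H) 3280 :=
    ((((((((((((((((Good.zero.run C jr0).run C jr205).run C jr410).run C jr615).run C jr820).run C jr1025).run C jr1230).run C jr1435).run C jr1640).run C jr1845).run C jr2050).run C jr2255).run C jr2460).run C jr2665).run C jr2870).run C jr3075)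
  have hu : {y | ∃ r ∈ jVs, ∃ k, y = π k • vtx jP T ((1 : G) : G ⧸ H) r.i} = Set.univ := by
    refine Set.eq_univ_of_forall fun q => ?_
    obtain ⟨g, rfl⟩ := QuotientGroup.mk_surjective q
    have := cover C jP_lab hG jVs_ok rfl (by simp) rfl l0_mem (A := {x, y, t}) (g := g) (by
      rintro _ (rfl | rfl | rfl)
      exacts [Or.inl ⟨_, (hπ [0]).trans e0⟩, Or.inl ⟨_, (hπ [1]).trans (ev_single _ _)⟩, Or.inr rfl])
      (htop ▸ Subgroup.mem_top g)
    rwa [Quotient.smul_mk, smul_eq_mul, mul_one] at this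
  set v := vtx jP T ((1 : G) : G ⧸ H) with hv
  have v0 : v 0 = ((1 : G) : G ⧸ H) := one_smul _ _
  have hcov : ∀ p : G ⧸ H, ∃ r ∈ jVs, ∃ k, p = π k • v r.i := fun p => hu.ge (Set.mem_univ p)
  have hex : ∀ r ∈ jVs, Nat.card (stabilizer MM (α := Via π (G ⧸ H)) (v r.i)) = r.c := by
    intro r hr
    have h1 : (Set.range fun k => π k • v r.i).ncard = 244823040 / r.c := by
      refine le_antisymm ((jVs_ok r hr).card hG) (not_lt.1 fun hlt => ?_)
      have a1 := List.sum_lt_sum (l := jVs) (fun r => (Set.range fun k => π k • v r.i).ncard) (fun r => 244823040 / r.c)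
        (fun r hr => (jVs_ok r hr).card hG) ⟨r, hr, hlt⟩
      have a2 := ncard_un (fun r : Vr => Set.range fun k => π k • v r.i) jVs
      rw [Set.eq_univ_of_forall (s := {y | ∃ r ∈ jVs, y ∈ Set.range fun k => π k • v r.i}) (fun p =>
        let ⟨r, hr, k, h⟩ := hcov p; ⟨r, hr, k, h.symm⟩), Set.ncard_univ] at a2
      have a3 : (jVs.map fun r => 244823040 / r.c).sum = 173067389 := by decide +kernel
      exact absurd (a2.trans_lt a1) (by rw [a3, ← hi]; exact lt_irrefl _)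
    have h3 := card_eq_orbit_mul_top (G := MM) (Ω := Via π (G ⧸ H)) (v r.i)
    rw [card_MM, show (orbit MM (α := Via π (G ⧸ H)) (v r.i)).ncard = _ from h1] at h3
    obtain ⟨h4, h5⟩ := (by decide +kernel : ∀ r ∈ jVs, 244823040 = 244823040 / r.c * r.c ∧ 0 < 244823040 / r.c) r hr
    exact Nat.eq_of_mul_eq_mul_left h5 (h3.symm.trans h4)
  have mv : ∀ {s k : MM} {i}, π s • π k • v i = π k • v i → k⁻¹ * s * k ∈ stabilizer MM (α := Via π (G ⧸ H)) (v i) :=
    fun {s k i} h => by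
      change π (k⁻¹ * s * k) • v i = v i
      rw [map_mul, map_mul, map_inv, mul_smul, mul_smul, h, inv_smul_smul]
  refine ⟨π, hπ, hcm, fun hN s hs => ?_, fun hN p hp => ?_⟩
  · have oc : ∀ k : MM, orderOf (k⁻¹ * s * k) = 23 := fun k => by
      rw [← hs]; exact (MulAut.conj k⁻¹).orderOf_eq s ▸ by simp
    by_cases h0 : ∃ k0, π s • π k0 • v 21 = π k0 • v 21
    · obtain ⟨k0, h0⟩ := h0
      refine ⟨π k0 • v 21, fun p hp => ?_⟩
      obtain ⟨r, hr, k, rfl⟩ := hcov p
      have h1 := mv hp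
      have h2 := Subgroup.orderOf_dvd_natCard _ h1
      rw [oc, hex r hr] at h2
      rcases (by decide +kernel : ∀ r ∈ jVs, 23 ∣ r.c → r.i = 0 ∨ r.i = 21) r hr h2 with h | h <;> rw [h] at h1 ⊢
      · exact Or.inl (by rw [v0, C.fix])
      · have hS := hex jV21 (by simp [jVs])
        obtain ⟨b1, b2⟩ := in253 hS (oc k0) (oc k) (mv h0) h1
        have b3 := Subgroup.eq_of_le_of_card_ge b1 (by rw [hN _ (oc k0)]; exact hS.ge)
        have b4 : k0⁻¹ * k ∈ Subgroup.normalizer (Subgroup.zpowers (k0⁻¹ * s * k0) : Set MM) := by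
          rw [← inv_mem_iff]
          refine Subgroup.mem_normalizer_fintype fun n hn => ?_
          obtain ⟨j, rfl⟩ := hn
          rw [← conj_zpow]
          refine Subgroup.zpow_mem _ ?_ j
          convert b2 using 1
          group
        rw [← b3] at b4
        right
        rw [show k = k0 * (k0⁻¹ * k) by group, map_mul, mul_smul]
        exact congrArg _ b4
    · refine ⟨((1 : G) : G ⧸ H), fun p hp => ?_⟩
      obtain ⟨r, hr, k, rfl⟩ := hcov p
      have h2 := Subgroup.orderOf_dvd_natCard _ (mv hp)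
      rw [oc, hex r hr] at h2
      rcases (by decide +kernel : ∀ r ∈ jVs, 23 ∣ r.c → r.i = 0 ∨ r.i = 21) r hr h2 with h | h <;> rw [h] at hp ⊢
      · exact Or.inl (by rw [v0, C.fix])
      · exact absurd ⟨k, hp⟩ h0
  · obtain ⟨r, hr, k, rfl⟩ := hcov p
    have h1 : stabilizer MM (k⁻¹ • GE.fam jP.l0) ≤ stabilizer MM (α := Via π (G ⧸ H)) (v r.i) := fun g hg => by
      have := mv (hp (k * g * k⁻¹) (by
        rw [mem_stabilizer_iff, mul_smul, mul_smul, show g • k⁻¹ • GE.fam jP.l0 = _ from hg, smul_inv_smul]))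
      rwa [show k⁻¹ * (k * g * k⁻¹) * k = g by group] at this
    have h2 := Subgroup.card_dvd_of_le h1
    have h3 := card_stab_trio (smul_mem_trios k⁻¹ l0_mem)
    rw [h3, hex r hr] at h2
    rcases (by decide +kernel : ∀ r ∈ jVs, 64512 ∣ r.c → r.i = 0 ∨ r.i = 1) r hr h2 with h | h <;> rw [h] at h1 ⊢
    · exact Or.inl (by rw [v0, C.fix])
    · have hS : Nat.card (stabilizer MM (α := Via π (G ⧸ H)) (v 1)) = 64512 := hex jV1 (by simp [jVs])
      have v1 : v 1 = T (eT 3278) • ((1 : G) : G ⧸ H) := by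
        rw [jP_lab _ (by norm_num)]
        change (T (GE.fam (lab jP 3278)) * 1) • _ = _
        rw [mul_one]
      have m1 := tabT.mem 3278 (by norm_num)
      have hm : ∀ g : MM, π g • v 1 = T (g • eT 3278) • ((1 : G) : G ⧸ H) := fun g => by
        rw [v1, smul_smul, eqv, mul_smul, C.fix]
      have h4 : stabilizer MM (eT 3278) ≤ stabilizer MM (α := Via π (G ⧸ H)) (v 1) := fun g hg => by
        change π g • v 1 = v 1
        rw [hm, show g • eT 3278 = _ from hg, v1]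
      have h5 := (Subgroup.eq_of_le_of_card_ge h1 (by rw [hS, h3])).trans
        (Subgroup.eq_of_le_of_card_ge h4 (by rw [hS, card_stab_trio m1])).symm
      obtain ⟨a, ha⟩ := exists_smul_eT l0_mem
      obtain ⟨b, hb⟩ := exists_smul_eT m1
      have h6 : eT 3278 = (b * a⁻¹) • GE.fam jP.l0 := by rw [← ha, mul_smul, inv_smul_smul, hb]
      have h7 : k * (b * a⁻¹) ∈ stabilizer MM (GE.fam jP.l0) := by
        rw [← hN]
        refine Subgroup.mem_normalizer_fintype fun n hn => ?_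
        have : (b * a⁻¹) * n * (b * a⁻¹)⁻¹ ∈ stabilizer MM (eT 3278) := by
          rw [mem_stabilizer_iff, h6, mul_smul, mul_smul, inv_smul_smul, show n • GE.fam jP.l0 = _ from hn]
        rw [← h5, mem_stabilizer_iff] at this
        change _ • GE.fam jP.l0 = _
        rw [show k * (b * a⁻¹) * n * (k * (b * a⁻¹))⁻¹ = k * ((b * a⁻¹) * n * (b * a⁻¹)⁻¹) * k⁻¹ by group, mul_smul,
          mul_smul, this, smul_inv_smul]
      right
      rw [hm, h6, ← mul_smul, show _ • GE.fam jP.l0 = _ from h7, T0, Quotient.smul_mk, smul_eq_mul, mul_one]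

end H7.JD
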