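import Cfsg.Agent.H7.J4p
import Cfsg.Agent.H7.J4r
import Cfsg.Agent.H22.M24ab
import Cfsg.Agent.H12.M24ab
import Cfsg.Agent.H6.J4a
import Cfsg.Agent.H21.Cmp4
import Cfsg.Agent.H11.Abs2
import Cfsg.Agent.H13.J15
import Cfsg.Prelude.Def_KGroupFacts

/-! The outer automorphism group of `J4`. -/

set_option autoImplicit false

namespace H7.JD
open Cfsg Cfsg.Spor H29.J4m Subgroup H27 H28 H7.J4
open scoped Pointwise
theorem comp : ∃ (E : Subgroup J4) (d b : J4), Nat.card E = 2 ^ 11 ∧ (∀ g ∈ E, g * g = 1) ∧ je ∈ E ∧ E ≤ closure {jx, jy, je} ∧ jx ∈ normalizer (E : Set J4) ∧ jy ∈ normalizer (E : Set J4) ∧ d ∈ E ∧ d ≠ 1 ∧ (∀ g, g⁻¹ * d * g ∈ E → g ∈ closure {jx, jy, je}) ∧ ¬ IsConj d je ∧ b ∈ closure {jx, jy} ∧ orderOf b = 11 ∧ Commute b d ∧ IsConj d jx ∧ (∃ g, orderOf (d * (g * d * g⁻¹)) = 23) ∧ ∀ v ∈ E, (v * jx) ^ 2 = 1 → (v * jx * (jx * jy)) ^ 3 = 1 → v = 1 ∨ IsConj (v * jx) je := H21.Cmp.comp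
theorem m24a (s : MM) (hs : orderOf s = 23) : Nat.card (normalizer (zpowers s : Set MM)) = 253 := H22.M24ab.m24a s hs
theorem m24b {T : Finset (Finset GolayPt)} (hT : T ∈ trios) : IsCoatom (MulAction.stabilizer MM T) ∧ centralizer (MulAction.stabilizer MM T : Set MM) = ⊥ ∧ normalizer (MulAction.stabilizer MM T : Set MM) = MulAction.stabilizer MM T := H12.M24ab.m24b hT
theorem abs1 {G : Type*} [Group G] [Finite G] (h23 : ¬ 23 ^ 2 ∣ Nat.card G) {s d g : G} (hs : orderOf s = 23) (hN : ¬ 4 ∣ Nat.card (normalizer (zpowers s : Set G))) (hd : orderOf d = 2) (hg : orderOf (d * (g * d * g⁻¹)) = 23) (σ : MulAut G) : IsConj d (σ d) := H13.J15.abs1 h23 hs hN hd hg σ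
theorem abs2 {G : Type} [Group G] [Finite G] (π : MM →* G) (hπ : Function.Injective π) (E : Subgroup G) (hE : Nat.card E = 2 ^ 11) (h2 : ∀ g ∈ E, g * g = 1) (hKE : π.range ≤ normalizer (E : Set G)) {d : G} (dE : d ∈ E) (hD : ∀ g, g⁻¹ * d * g ∈ E → g ∈ E ⊔ π.range) {b : MM} (hb : orderOf b = 11) (hbd : Commute (π b) d) (σ : MulAut G) (hσ : σ d = d) : E.map σ.toMonoidHom = E ∧ (E ⊔ π.range).map σ.toMonoidHom = E ⊔ π.range := H11.Abs2.abs2 π hπ E hE h2 hKE dE hD hb hbd σ hσ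
theorem abs3 {G : Type} [Group G] [Finite G] (π : MM →* G) (hπ : Function.Injective π) (E : Subgroup G) (hE : Nat.card E = 2 ^ 11) (h2 : ∀ g ∈ E, g * g = 1) (hKE : π.range ≤ normalizer (E : Set G)) (hnt : ¬ π.range ≤ centralizer (E : Set G)) {s : MM} (hs : orderOf s = 23) (σ : MulAut G) (h1 : E.map σ.toMonoidHom = E) (h3 : (E ⊔ π.range).map σ.toMonoidHom = E ⊔ π.range) : ∃ h : G, h * σ (π s) * h⁻¹ = π s ∧ ∀ k : MM, ∃ v ∈ E, h * σ (π k) * h⁻¹ = v * π k := H6.J4a.abs3 π hπ E hE h2 hKE hnt hs σ h1 h3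
theorem abs4 {G : Type} [Group G] [Finite G] (π : MM →* G) (hπ : Function.Injective π) (E : Subgroup G) (hE : Nat.card E = 2 ^ 11) (hKE : π.range ≤ normalizer (E : Set G)) (hnt : ¬ π.range ≤ centralizer (E : Set G)) {U : Subgroup MM} (hU : IsCoatom U) (hc : Nat.card U = 64512) (hC : centralizer (U : Set MM) = ⊥) {c : G} (hc1 : c ∈ E ⊔ π.range) (hc2 : ∀ u ∈ U, Commute c (π u)) : c = 1 := H6.J4a.abs4 π hπ E hE hKE hnt hU hc hC hc1 hc2
theorem abs5 {G : Type} [Group G] [Finite G] (π : MM →* G) (hπ : Function.Injective π) (E : Subgroup G) (hE : Nat.card E = 2 ^ 11) (hKE : π.range ≤ normalizer (E : Set G)) (hnt : ¬ π.range ≤ centralizer (E : Set G)) {s : MM} (hs : orderOf s = 23) (hN : Nat.card (normalizer (zpowers s : Set MM)) = 253) (q : G ⧸ (E ⊔ π.range)) (hq : ∀ p : G ⧸ (E ⊔ π.range), π s • p = p → p = ((1 : G) : G ⧸ (E ⊔ π.range)) ∨ p = q) : ¬ 4 ∣ Nat.card (normalizer (zpowers (π s) : Set G)) := H13.J15.abs5 π hπ E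 hE hKE hnt hs hN q hq

theorem out_main (σ : MulAut J4) : ∃ g : J4, ∀ a, σ a = g * a * g⁻¹ := by
  have hJ := H7.JD.j_main
  have : Finite J4 := Nat.finite_of_card_ne_zero (by rw [hJ.2.1.2]; norm_num)
  obtain ⟨E, d, b, hE, h2, eE, EH, xE, yE, dE, d1, hD, nde, bK, ob, bd, dx, ⟨g0, hg0⟩, hv⟩ := comp
  have h : ∀ r ∈ J4.extra, PresentedGroup.mk (coxRelators J4.edges ∪ {r | r ∈ J4.extra}) r = 1 :=
    fun r hr => PresentedGroup.one_of_mem (Or.inr hr)
  simp only [J4.extra, List.forall_mem_cons, map_mul, map_pow, map_inv] at h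
  obtain ⟨r1, r2, r3, r4, r5, r6, r7, r8, r9, r10, r11, r12, -⟩ := h
  obtain ⟨π, hπ, hcm, fS, fU⟩ := fixp (x := jx) (y := jy) (t := jt) r1 r2 r3 r4 r5 r6 r7 r8 r9 r10 r11 r12 j_top
    (closure {jx, jy, je}) (subset_closure (Or.inl rfl))
    (subset_closure (Or.inr (Or.inl rfl))) (subset_closure (Or.inr (Or.inr rfl))) hJ.1
  have hx : π (ev (mN.map mm) [0]) = jx := (hπ [0]).trans (ev_single _ _)
  have hy : π (ev (mN.map mm) [1]) = jy := (hπ [1]).trans (ev_single _ _)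
  have hK : π.range = closure {jx, jy} := by
    refine le_antisymm ?_ ((closure_le _).2 (by rintro _ (rfl | rfl); exacts [⟨_, hx⟩, ⟨_, hy⟩]))
    rintro _ ⟨k, rfl⟩
    refine cl_le (H := (closure {jx, jy}).comap π) (gs := mN.map mm) (fun g hg => ?_) (mN_top ▸ mem_top k)
    obtain ⟨i, hi, rfl⟩ := List.getElem_of_mem hg
    rw [mem_comap, ← List.getD_eq_getElem _ 1, ← ev_single, hπ, ev_single]
    have a1 : jx ∈ closure {jx, jy} := subset_closure (Or.inl rfl)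
    have a2 : jy ∈ closure {jx, jy} := subset_closure (Or.inr rfl)
    rcases i with _ | _ | _ | i
    exacts [a1, a2, inv_mem a2, one_mem _]
  have := simple_MM
  have hinj : Function.Injective π := by
    rw [← MonoidHom.ker_eq_bot_iff]
    refine π.normal_ker.eq_bot_or_eq_top.resolve_right fun h => H7.J4.x_ne_one ?_
    exact hx.symm.trans (h.ge (mem_top _))
  have hKE : π.range ≤ normalizer (E : Set J4) := hK ▸ (closure_le _).2 (by rintro _ (rfl | rfl); exacts [xE, yE])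
  have hH : E ⊔ π.range = closure {jx, jy, je} := by
    refine le_antisymm (sup_le EH (hK ▸ closure_mono (by rintro _ (rfl | rfl) <;> simp))) ((closure_le _).2 ?_)
    rintro _ (rfl | rfl | rfl)
    exacts [mem_sup_right ⟨_, hx⟩, mem_sup_right ⟨_, hy⟩, mem_sup_left eE]
  rw [← hH] at fS fU hD
  have hs : orderOf (ev (mN.map mm) [0, 1]) = 23 := by
    have := Fact.mk (by norm_num : Nat.Prime 23)
    rw [← orderOf_injective π hinj, hπ]
    refine orderOf_eq_prime (by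
      have a3 : (jx * jy) ^ 23 = 1 := r3
      simpa [ev_cons, ev_nil] using a3) fun h => H7.J4.x_ne_one ?_
    simp only [ev_cons, ev_nil, List.getD_cons_zero, List.getD_cons_succ, mul_one] at h
    have a1 : jx ^ 2 = 1 := r1
    have a2 : jy ^ 3 = 1 := r2
    rw [eq_inv_of_mul_eq_one_right h, inv_pow, inv_eq_one, pow_succ, a1, one_mul] at a2
    exact a2
  have hs' : π (ev (mN.map mm) [0, 1]) = jx * jy := by rw [hπ]; simp [ev_cons, ev_nil]
  have hnt : ¬ π.range ≤ centralizer (E : Set J4) := fun c => by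
    obtain ⟨φ, -, -, h, -⟩ := mat
    exact h (Commute.map (c ⟨_, hx⟩ je eE) φ)
  obtain ⟨q, hq⟩ := fS m24a _ hs
  have hN := abs5 π hinj E hE hKE hnt hs (m24a _ hs) q hq
  have od : orderOf d = 2 := orderOf_eq_prime (by rw [sq]; exact h2 d dE) d1
  have cls : ∀ τ : MulAut J4, IsConj d (τ d) := abs1 (by rw [hJ.2.1.2]; norm_num)
    ((orderOf_injective π hinj _).trans hs) hN od hg0
  obtain ⟨b', rfl⟩ := hK.ge bK
  obtain ⟨c, hc⟩ := isConj_iff.1 (cls σ).symm
  obtain ⟨e1, e2⟩ := abs2 π hinj E hE h2 hKE dE hD ((orderOf_injective π hinj _).symm.trans ob) bd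
    (MulAut.conj c * σ) hc
  obtain ⟨h, f1, f2⟩ := abs3 π hinj E hE h2 hKE hnt hs _ e1 e2
  set τ : MulAut J4 := MulAut.conj h * (MulAut.conj c * σ) with hτ
  have t1 : τ (jx * jy) = jx * jy := hs' ▸ f1
  obtain ⟨v, vE, t2⟩ := f2 (ev (mN.map mm) [0])
  rw [hx] at t2
  replace t2 : τ jx = v * jx := t2
  have a1 : jx ^ 2 = 1 := r1
  have a2 : jy ^ 3 = 1 := r2
  have e3 : jx * (jx * jy) = jy := by rw [← mul_assoc, ← sq, a1, one_mul]
  have v1 : v = 1 := (hv v vE (by rw [← t2, ← map_pow, a1, map_one])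
    (by rw [← t2, ← t1, ← map_mul, e3, ← map_pow, a2, map_one])).resolve_right fun c =>
      nde ((cls τ).trans ((τ.toMonoidHom.map_isConj dx).trans (t2 ▸ c)))
  rw [v1, one_mul] at t2
  have t3 : τ jy = jy := by rw [← e3, map_mul, t1, t2]
  have tK : ∀ k, τ (π k) = π k := fun k =>
    (closure_le (τ.toMonoidHom.eqLocus (MonoidHom.id _))).2 (by rintro _ (rfl | rfl); exacts [t2, t3]) (hK.le ⟨k, rfl⟩)
  obtain ⟨m1, m2, m3⟩ := m24b l0_mem
  have cU : ∀ u ∈ MulAction.stabilizer MM (GE.fam jP.l0), Commute (τ jt) (π u) := fun u hu => by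
    have := congrArg τ (hcm u hu)
    rw [map_mul, map_mul, tK] at this
    exact this.symm
  have a8 : jt * jt = 1 := by rw [← sq]; exact r8
  have t4 : τ jt = jt := by
    rcases fU m3 (τ jt : J4 ⧸ (E ⊔ π.range)) (fun u hu => by
      rw [MulAction.Quotient.smul_mk, smul_eq_mul, ← (cU u hu).eq, QuotientGroup.eq]
      simpa using mem_sup_right (S := E) (show π u⁻¹ ∈ π.range from ⟨_, rfl⟩)) with h | h
    · have := abs4 π hinj E hE hKE hnt m1 (card_stab_trio l0_mem) m2 (c := τ jt)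
        (by simpa using QuotientGroup.eq.1 h.symm) cU
      rw [map_eq_one_iff τ τ.injective] at this
      refine absurd ?_ (show ¬ (closure {jx, jy, je}).index = 1 by rw [hJ.1]; norm_num)
      rw [index_eq_one, eq_top_iff, ← j_top, closure_le]
      rintro _ (rfl | rfl | rfl)
      exacts [subset_closure (Or.inl rfl), subset_closure (Or.inr (Or.inl rfl)), this ▸ one_mem _]
    · have := abs4 π hinj E hE hKE hnt m1 (card_stab_trio l0_mem) m2 (QuotientGroup.eq.1 h.symm)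
        fun u hu => Commute.mul_left (Commute.inv_left (hcm u hu).symm) (cU u hu)
      exact (inv_mul_eq_one.1 this).symm
  refine ⟨(h * c)⁻¹, fun a => ?_⟩
  have : τ a = a := (closure_le (τ.toMonoidHom.eqLocus (MonoidHom.id _))).2
    (by rintro _ (rfl | rfl | rfl); exacts [t2, t3, t4]) (j_top.ge (mem_top a))
  have h' : h * (c * σ a * c⁻¹) * h⁻¹ = a := this
  calc σ a = (h * c)⁻¹ * (h * (c * σ a * c⁻¹) * h⁻¹) * (h * c)⁻¹⁻¹ := by group
    _ = _ := by rw [h']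

theorem out_one : Nat.card (Out J4) = 1 := by
  have : Inn J4 = ⊤ := eq_top_iff.2 fun σ _ => let ⟨g, hg⟩ := out_main σ; ⟨g, MulEquiv.ext fun a => (hg a).symm⟩
  rw [← index_eq_card, this, index_top]

end H7.JD
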