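import Cfsg.Agent.H7.Jh
import Cfsg.Agent.H14.Ka
import Cfsg.Agent.H23.Mod1
import Cfsg.Agent.H24.CardX
import Cfsg.Agent.H4.Mod2
import Cfsg.Agent.H6.Invs
import Cfsg.Agent.H19.Fz
import Cfsg.Agent.H17.Exa
import Cfsg.Agent.H26.Nv
import Cfsg.Agent.H20.Cnt7
import Cfsg.Agent.H12.Gen
import Cfsg.Agent.H28.Pr33

/-! The identification of `PSp4(3)` by an involution centralizer. -/

set_option autoImplicit false
open Subgroup Equiv H7J

namespace H7.Jm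
variable {G : Type*} [Group G] [Finite G] {ψ : P →* G}
theorem mod1 {F : Type*} [Field F] [Fintype F] (hF : Fintype.card F = 3) : ∃ ψ : P →* Cfsg.PSp 2 F, Hy ψ := H23.Mod1.mod1 hF
theorem cardX {F : Type*} [Field F] [Fintype F] (hF : Fintype.card F = 3) : Nat.card (Cfsg.PSp 2 F) = 25920 := H24.CardX.cardX hF
theorem mod2 {X : Type*} [Group X] [Finite X] (hX : Nat.card X = 25920) {χ : P →* X} (h : Hy χ) (U : Sylow 2 X) (t₀ : X) (o : orderOf t₀ = 2) (m : t₀ ∈ (U : Subgroup X)) (c : ∀ u ∈ (U : Subgroup X), u * t₀ = t₀ * u) (t : G) (ht : orderOf t = 2) (e : centralizer ({t} : Set G) ≃* centralizer ({t₀} : Set X)) : ∃ ψ : P →* G, Hy ψ := H4.Mod2.mod2 hX h U t₀ o m c t ht e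
theorem invs (h : Hy ψ) (x : G) (x2 : x * x = 1) (x1 : x ≠ 1) : IsConj x (ψ z0) ∨ IsConj x (ψ a0) ∨ IsConj x (ψ (pt 1)) ∨ IsConj x (ψ (pt 1 * z0)) := H6.Invs.invs h x x2 x1
theorem fz (h : Hy ψ) (hG : ∀ H : Subgroup G, H.index ≠ 2) : IsConj (ψ z0) (ψ a0) ∨ IsConj (ψ z0) (ψ (pt 1)) ∨ IsConj (ψ z0) (ψ (pt 1 * z0)) := H19.Fz.fz h hG
theorem exa (h : Hy ψ) : ¬ IsConj (ψ z0) (ψ a0) := H17.Exa.exa h
theorem nv (h : Hy ψ) (na : ¬ IsConj (ψ z0) (ψ a0)) (c : IsConj (ψ z0) (ψ (pt 1))) : H2 ψ := H26Nv.nv h na c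
theorem ka (h : H2 ψ) : KA ψ := H14.Ka.ka h
theorem cnt (h : H2 ψ) (k : KA ψ) (iv : ∀ x : G, x * x = 1 → x ≠ 1 → IsConj x (ψ z0) ∨ IsConj x (ψ a0)) : Nat.card G = 25920 ∧ (∀ x, IsConj (ψ z0) x → ∃ i, x * ψ (pt i) = ψ (pt i) * x) ∧ ∀ x y, IsConj (ψ z0) x → IsConj (ψ z0) y → x * y = y * x ∨ (x * y) ^ 3 = 1 := H20.Cnt7.cnt h k iv
theorem gen (h : H2 ψ) (k : KA ψ) (c : ∀ x, IsConj (ψ z0) x → ∃ i, x * ψ (pt i) = ψ (pt i) * x) (d : ∀ x y, IsConj (ψ z0) x → IsConj (ψ z0) y → x * y = y * x ∨ (x * y) ^ 3 = 1) : ∃ s t u v w : G, R33 s t u v w ∧ s * t ≠ t * s := H12.Gen.gen h k c d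
theorem pres {F : Type*} [Field F] [Fintype F] (hF : Fintype.card F = 3) {Y : Type*} [Group Y] {s t u v w : Y} (r : R33 s t u v w) (n : s * t ≠ t * s) : ∃ f : Cfsg.PSp 2 F →* Y, Function.Injective f := H28.Pr33.pres hF r n

theorem ms (p q : P) : (p * q).s = xor p.s q.s := by
  rcases p with ⟨a, b, _ | _⟩ <;> rcases q with ⟨c, d, _ | _⟩ <;> rfl

theorem sw (h : Hy ψ) : ∃ χ : P →* G, Hy χ ∧ χ z0 = ψ z0 ∧ χ a0 = ψ a0 ∧ χ (pt 1) = ψ (pt 1 * z0) := by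
  have c : ∀ p, ψ p * ψ z0 = ψ z0 * ψ p := fun p => (h.cz _).2 ⟨p, rfl⟩
  have zz : ψ z0 * ψ z0 = 1 := by rw [← map_mul, show z0 * z0 = 1 by decide +kernel, map_one]
  let χ : P →* G := MonoidHom.mk' (fun p => if p.s then ψ p * ψ z0 else ψ p) fun p q => by
    simp only [ms, map_mul]
    cases p.s <;> cases q.s <;> simp
    · rw [mul_assoc]
    · rw [mul_assoc, c q, mul_assoc]
    · rw [mul_assoc, c q, ← mul_assoc (ψ z0), zz, one_mul]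
  have e : ∀ p, χ p = if p.s then ψ p * ψ z0 else ψ p := fun _ => rfl
  have ez : χ z0 = ψ z0 := e _
  refine ⟨χ, ⟨fun p => ?_, fun g => ?_⟩, ez, e _, (e _).trans (map_mul ψ _ _).symm⟩
  · rw [e]
    split_ifs with hp
    · rw [← map_mul, h.ker]
      have h1 : (p * z0).s = true := by rw [ms, hp]; rfl
      constructor
      · rintro (h | h) <;> rw [h] at h1 <;> cases h1
      · rintro (h | h) <;> rw [h] at hp <;> cases hp
    · exact h.ker p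
  · rw [ez, h.cz]
    constructor
    · rintro ⟨p, rfl⟩
      by_cases hp : p.s
      · refine ⟨p * z0, ?_⟩
        have h1 : (p * z0).s = true := by rw [ms, hp]; rfl
        rw [e, if_pos h1, map_mul, mul_assoc, zz, mul_one]
      · exact ⟨p, by rw [e, if_neg hp]⟩
    · rintro ⟨p, rfl⟩
      rw [e]
      split_ifs
      exacts [⟨p * z0, map_mul _ _ _⟩, ⟨p, rfl⟩]

theorem fin2 {F : Type*} [Field F] [Fintype F] (hF : Fintype.card F = 3) (h : H2 ψ) :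
    Nonempty (G ≃* Cfsg.PSp 2 F) := by
  have k := ka h
  have c1 : IsConj (ψ (pt 1)) (ψ z0) := by
    obtain ⟨n, hn⟩ := h.nv (swap 0 1 * swap 2 3) (by decide)
    exact isConj_iff.2 ⟨n, hn 1⟩
  have c2 : IsConj (ψ (pt 1 * z0)) (ψ a0) := by
    obtain ⟨n, hn⟩ := h.nv (swap 0 2 * swap 3 4) (by decide)
    refine isConj_iff.2 ⟨n, ?_⟩
    have a := hn 1
    have b := hn 0
    rw [show a0 = pt ((swap 0 2 * swap 3 4 : Perm (Fin 5)) 1) * pt ((swap 0 2 * swap 3 4 : Perm (Fin 5)) 0) from rfl,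
      map_mul, map_mul, ← a, ← b, show pt 0 = z0 from rfl]
    group
  obtain ⟨n, c, d⟩ := cnt h k fun x x2 x1 => by
    rcases invs h.toHy x x2 x1 with e | e | e | e
    exacts [.inl e, .inr e, .inl (e.trans c1), .inr (e.trans c2)]
  obtain ⟨s, t, u, v, w, r, st⟩ := gen h k c d
  obtain ⟨f, hf⟩ := pres hF r st
  exact ⟨(MulEquiv.ofBijective f ((Nat.bijective_iff_injective_and_card f).2 ⟨hf, by rw [n, cardX hF]⟩)).symm⟩

theorem main (hG : ∀ H : Subgroup G, H.index ≠ 2) {F : Type*} [Field F] [Fintype F] (hF : Fintype.card F = 3)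
    (U : Sylow 2 (Cfsg.PSp 2 F)) (t₀ : Cfsg.PSp 2 F) (ht₀ : orderOf t₀ = 2) (ht₀U : t₀ ∈ (U : Subgroup (Cfsg.PSp 2 F)))
    (ht₀c : ∀ u ∈ (U : Subgroup (Cfsg.PSp 2 F)), u * t₀ = t₀ * u) (t : G) (ht : orderOf t = 2)
    (e : ↥(Subgroup.centralizer ({t} : Set G)) ≃* ↥(Subgroup.centralizer ({t₀} : Set (Cfsg.PSp 2 F)))) :
    Nonempty (G ≃* Cfsg.PSp 2 F) := by
  have : Finite (Cfsg.PSp 2 F) := Nat.finite_of_card_ne_zero (by rw [cardX hF]; norm_num)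
  obtain ⟨χ, hχ⟩ := mod1 hF
  obtain ⟨ψ, h⟩ := mod2 (cardX hF) hχ U t₀ ht₀ ht₀U ht₀c t ht e
  have na := exa h
  rcases fz h hG with c | c | c
  · exact (na c).elim
  · exact fin2 hF (nv h na c)
  · obtain ⟨χ, h', e1, e2, e3⟩ := sw h
    exact fin2 hF (nv h' (by rwa [e1, e2]) (by rwa [e1, e3]))

end H7.Jm
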