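import Cfsg.Agent.H7.Meta

/-! Metacyclic `p`-groups for odd `p`: subgroups and centralizers. -/

namespace H7

open Subgroup Cfsg H9
open scoped commutatorElement Pointwise

universe u

variable {G : Type*} [Group G] {p : ℕ} [hp : Fact p.Prime] [Finite G] {n : ℕ}

omit hp [Finite G] in
theorem card_commutator_eq (K : Subgroup G) :
    Nat.card (commutator K) = Nat.card (⁅K, K⁆ : Subgroup G) := by
  rw [← map_subtype_commutator, card_map_of_injective K.subtype_injective]

namespace MC

theorem card_commutator_of_index (h : MC p G) (hn : Nat.card (commutator G) = p ^ n)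
    {M : Subgroup G} (hM : M.index = p) : Nat.card (commutator M) = p ^ (n - 1) := by
  obtain ⟨m, hm⟩ := card_eq_pow (h.pg.to_subgroup M) (commutator M)
  rcases Nat.eq_zero_or_pos n with rfl | h0
  · have := card_le_of_le (commutator_mono (le_top (a := M)) (le_top (a := M)))
    rw [← card_commutator_eq, ← commutator_def, hn] at this
    exact le_antisymm this Nat.card_pos
  have h1 : powerClosure p 1 ⊤ ≤ M :=
    h.frattini_eq ▸ frattini_le_coatom (isCoatom_of_index_eq_prime hM)
  have h2 := h.index_mho hn h0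
  obtain ⟨y, hy, hy'⟩ := SetLike.exists_of_lt (lt_of_le_of_ne h1 fun e => by
    rw [e, hM] at h2
    have := Nat.pow_right_injective hp.out.two_le ((pow_one p).trans h2)
    omega)
  obtain ⟨x, hxy⟩ := h.exists_pair hy'
  have h3 : powerClosure p 1 ⊤ ⊔ zpowers y = M := by
    refine eq_of_le_of_card_ge (sup_le h1 (zpowers_le.2 hy)) ?_
    rw [card_sup_zpowers hp.out (le_normalizer_of_normal (mem_top y)) hy'
      (pow_mem_powerClosure_one trivial)]
    refine Nat.le_of_mul_le_mul_right ?_ hp.out.pos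
    have := (powerClosure p 1 (⊤ : Subgroup G)).card_mul_index
    rw [← M.card_mul_index, hM, h2] at this
    rw [← this]
    exact le_of_eq (by ring)
  have h4 : ⁅M, M⁆ ≤ powerClosure p 1 (commutator G) := by
    have h5 := h.wreg.commutator_powerClosure_le h.pg 1 ⊤
    rw [← h3]
    refine commutator_sup_le ((commutator_mono le_rfl le_top).trans h5) ?_
    rw [commutator_comm]
    refine commutator_sup_le ((commutator_mono le_rfl le_top).trans h5) ?_
    rw [commutator_self_eq_bot_iff.2 inferInstance]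
    exact bot_le
  have h5 := card_le_of_le h4
  rw [h.card_mho_commutator hn h0, ← card_commutator_eq, hm,
    Nat.pow_le_pow_iff_right hp.out.one_lt] at h5
  have h6 := mem_center_iff.1 ((h.subgroup M).mho_le_center hm (pow_mem_powerClosure
    (mem_top ⟨x ^ p, h1 (pow_mem_powerClosure_one trivial)⟩))) ⟨y, hy⟩
  have h7 := (h.commute_iff hn hxy (m + 1) 0).1 (by
    rw [pow_zero, pow_one, pow_succ', pow_mul]
    exact (congrArg Subtype.val h6).symm)
  rw [hm, show n - 1 = m by omega]

theorem card_commutator_subgroup_aux (d : ℕ) : ∀ {G : Type u} [Group G] [Finite G] {n : ℕ},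
    MC p G → Nat.card (commutator G) = p ^ n → ∀ L : Subgroup G, L.index = p ^ d →
      Nat.card (commutator L) = p ^ (n - d) := by
  induction d with
  | zero =>
    intro G _ _ n h hn L hL
    rw [index_eq_one.1 hL, card_commutator_eq]
    exact hn
  | succ d ih =>
    intro G _ _ n h hn L hL
    obtain ⟨M, hM, hLM⟩ := H1.exists_coatom_ge (H := L) fun e => by
      rw [e, index_top] at hL
      exact (Nat.one_lt_pow d.succ_ne_zero hp.out.one_lt).ne hL
    have h1 := index_of_isCoatom h.pg hM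
    have h2 := relIndex_mul_index hLM
    rw [h1, hL, pow_succ] at h2
    have := ih (h.subgroup M) (h.card_commutator_of_index hn h1) (L.subgroupOf M)
      (Nat.eq_of_mul_eq_mul_right hp.out.pos h2)
    rw [card_commutator_eq, ← card_map_of_injective M.subtype_injective, map_commutator,
      subgroupOf_map_subtype, inf_eq_left.2 hLM, ← card_commutator_eq] at this
    rw [this, Nat.sub_sub, add_comm]

theorem card_commutator_subgroup (h : MC p G) (hn : Nat.card (commutator G) = p ^ n)
    {L : Subgroup G} {d : ℕ} (hL : L.index = p ^ d) : Nat.card (commutator L) = p ^ (n - d) :=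
  card_commutator_subgroup_aux d h hn L hL

theorem comm_iff_index (h : MC p G) (hn : Nat.card (commutator G) = p ^ n) {L : Subgroup G} :
    IsMulCommutative L ↔ p ^ n ≤ L.index := by
  obtain ⟨d, hd⟩ := h.pg.index L
  rw [← commutator_eq_bot_iff, ← card_eq_one, h.card_commutator_subgroup hn hd, hd,
    Nat.pow_le_pow_iff_right hp.out.one_lt, Nat.pow_eq_one, Nat.sub_eq_zero_iff_le]
  simp [hp.out.ne_one]

theorem comm_iff_card (h : MC p G) {L : Subgroup G} :
    IsMulCommutative L ↔ Nat.card L ≤ (commutator G).index := by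
  obtain ⟨n, hn⟩ := card_eq_pow h.pg (commutator G)
  have h1 := (commutator G).card_mul_index.trans L.card_mul_index.symm
  have h2 : 0 < Nat.card L := Nat.card_pos
  have h3 : 0 < p ^ n := hn ▸ Nat.card_pos
  rw [h.comm_iff_index hn]
  rw [hn] at h1
  constructor <;> intro h4 <;> nlinarith

theorem maximal_iff_card (h : MC p G) {L : Subgroup G} :
    Maximal (fun K : Subgroup G => IsMulCommutative K) L ↔ Nat.card L = (commutator G).index := by
  refine ⟨fun h1 => by_contra fun h2 => ?_, fun h1 => ⟨h.comm_iff_card.2 h1.le, fun K hK hLK =>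
    (eq_of_le_of_card_ge hLK (h1 ▸ h.comm_iff_card.1 hK)).ge⟩⟩
  have h3 := lt_of_le_of_ne (h.comm_iff_card.1 h1.1) h2
  obtain ⟨k, hk⟩ := card_eq_pow h.pg L
  obtain ⟨d, hd⟩ := h.pg.index (commutator G)
  rw [hk, hd, Nat.pow_lt_pow_iff_right hp.out.one_lt] at h3
  obtain ⟨K, hK, hLK⟩ := Sylow.exists_subgroup_card_pow_succ
    ((pow_dvd_pow p h3).trans (hd ▸ (commutator G).index_dvd_card)) hk
  have := card_le_of_le (h1.2 (h.comm_iff_card.2 (by
    rw [hK, hd]; exact Nat.pow_le_pow_right hp.out.pos h3)) hLK)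
  rw [hK, hk, Nat.pow_le_pow_iff_right hp.out.one_lt] at this
  omega

theorem card_mul_card_center (h : MC p G) :
    Nat.card G * Nat.card (center G) = (commutator G).index ^ 2 := by
  have h1 := (center G).card_mul_index
  have h2 := (commutator G).card_mul_index
  rw [h.index_center] at h1
  refine Nat.eq_of_mul_eq_mul_right (pow_pos (Nat.card_pos (α := commutator G)) 2) ?_
  rw [mul_assoc, h1, ← mul_pow, mul_comm (commutator G).index, h2, sq]

theorem card_mul_card_center_of_not_comm (h : MC p G) {R : Subgroup G} (hR : ¬ IsMulCommutative R) :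
    Nat.card R * Nat.card (center R) = (commutator G).index ^ 2 := by
  obtain ⟨n, hn⟩ := card_eq_pow h.pg (commutator G)
  obtain ⟨d, hd⟩ := h.pg.index R
  rw [h.comm_iff_index hn, hd, Nat.pow_le_pow_iff_right hp.out.one_lt] at hR
  rw [(h.subgroup R).card_mul_card_center]
  congr 1
  have h1 := (commutator R).card_mul_index
  have h2 := (commutator G).card_mul_index
  rw [← R.card_mul_index, ← h1, h.card_commutator_subgroup hn hd, hn, hd, mul_right_comm, ← pow_add,
    Nat.sub_add_cancel (by omega)] at h2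
  exact (Nat.eq_of_mul_eq_mul_left (pow_pos hp.out.pos n) h2).symm

theorem exists_mul_of_pair (h : MC p G) {x y : G} (hxy : zpowers x ⊔ zpowers y = ⊤) (g : G) :
    ∃ a ∈ zpowers y ⊔ center G, ∃ b ∈ zpowers x, g = a * b := by
  obtain ⟨n, hn⟩ := card_eq_pow h.pg (commutator G)
  refine exists_mul_of_card_le le_top le_top ?_ (mem_top g)
  have h1 : zpowers y ⊔ center G ≤ centralizer {y ^ p ^ 0} :=
    sup_le (zpowers_le.2 (mem_centralizer_singleton_iff.2 (by simp))) (center_le_centralizer _)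
  have h2 := card_inf_mul_relIndex (centralizer {y ^ p ^ 0}) (zpowers x)
  have h3 := card_le_of_le (inf_le_inf_right (zpowers x) h1)
  have h4 := card_mul_relIndex (le_sup_right : center G ≤ zpowers y ⊔ center G)
  have h5 := (center G).card_mul_index
  rw [h.relIndex_centralizer hn hxy, Nat.sub_zero] at h2
  rw [relIndex_sup_right, ← h.mho_eq_center hn,
    relIndex_zpowers_eq_pow h.pg (h.pow_mem_mho_iff hn ((sup_comm _ _).trans hxy) le_rfl),
    h.mho_eq_center hn] at h4
  rw [h.index_center, hn] at h5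
  rw [card_top, ← h5, ← h4, ← h2]
  calc _ ≤ Nat.card (center G) * (p ^ n) ^ 2 * Nat.card ↥(centralizer {y ^ p ^ 0} ⊓ zpowers x) :=
        Nat.mul_le_mul_left _ h3
    _ = _ := by ring

theorem exists_eq_sup (h : MC p G) (hn : Nat.card (commutator G) = p ^ n) {R : Subgroup G}
    (hR : center G ≤ R) : ∃ (x y : G) (t u : ℕ), zpowers x ⊔ zpowers y = ⊤ ∧ t ≤ n ∧ u ≤ n ∧
      y ^ p ^ t ∈ R ∧ x ^ p ^ u ∈ R ∧
      ∀ g ∈ R, ∃ a ∈ zpowers (y ^ p ^ t) ⊔ center G, ∃ b ∈ zpowers (x ^ p ^ u), a * b = g := by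
  classical
  obtain ⟨x, y, t, hxy, ht, h1, h2⟩ : ∃ (x y : G) (t : ℕ), zpowers x ⊔ zpowers y = ⊤ ∧ t ≤ n ∧
      R ≤ powerClosure p t ⊤ ∧ y ^ p ^ t ∈ R := by
    rcases h.exists_level R n with h1 | ⟨t, ht, h1, y, hy, h2⟩
    · obtain ⟨x, y, -, hxy⟩ := isMetacyclic_iff.1 h.mc
      exact ⟨x, y, n, hxy, le_rfl, h1, hR (h.mho_le_center hn (pow_mem_powerClosure trivial))⟩
    · obtain ⟨x, hxy⟩ := h.exists_pair hy
      exact ⟨x, y, t, hxy, ht.le, h1, h2⟩
  have h3 : x ^ p ^ n ∈ R := hR (h.mho_le_center hn (pow_mem_powerClosure trivial))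
  have hex : ∃ u, x ^ p ^ u ∈ R := ⟨n, h3⟩
  have h4 : ∀ s, x ^ p ^ s ∈ R ↔ Nat.find hex ≤ s := fun s => ⟨Nat.find_min' hex, fun hs => by
    obtain ⟨k, rfl⟩ := Nat.exists_eq_add_of_le hs
    rw [pow_add, pow_mul]
    exact pow_mem (Nat.find_spec hex) _⟩
  refine ⟨x, y, t, _, hxy, ht, (h4 n).1 h3, h2, Nat.find_spec hex, fun g hg => ?_⟩
  obtain ⟨a, ha, _, ⟨j, rfl⟩, rfl⟩ := h.exists_mul_of_pair hxy g
  obtain ⟨_, ⟨i, rfl⟩, z, hz, rfl⟩ := mem_sup_of_normal_right.1 ha
  have h5 : y ^ i ∈ centralizer ({x ^ p ^ (n - t)} : Set G) := by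
    have := mem_centralizer_singleton_iff.2 (h.commute_of_mem_mho hn (s := t) (t := n - t)
      (by omega) (h1 hg) (pow_mem_powerClosure (mem_top x))).eq
    rwa [mul_mem_cancel_right (zpow_mem (mem_centralizer_singleton_iff.2
      ((Commute.refl x).pow_right _).eq) j), mul_mem_cancel_right (center_le_centralizer _ hz)] at this
  obtain ⟨k, rfl⟩ := (zpow_mem_iff_of_pow_mem_iff h.pg (m := t) (fun s => by
    rw [mem_centralizer_singleton_iff]
    exact (h.commute_iff hn ((sup_comm _ _).trans hxy) s (n - t)).trans (by omega)) i).1 h5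
  simp only [zpow_mul, zpow_natCast] at hg ⊢
  obtain ⟨l, rfl⟩ := (zpow_mem_iff_of_pow_mem_iff h.pg h4 j).1
    ((mul_mem_cancel_left (mul_mem (zpow_mem h2 k) (hR hz))).1 hg)
  rw [zpow_mul, zpow_natCast]
  exact ⟨_, mul_mem_sup (zpow_mem_zpowers _ k) hz, _, zpow_mem_zpowers _ l, rfl⟩

theorem card_mul_card_centralizer (h : MC p G) {R : Subgroup G} (hR : center G ≤ R) :
    Nat.card R * Nat.card (centralizer (R : Set G)) = (commutator G).index ^ 2 := by
  obtain ⟨n, hn⟩ := card_eq_pow h.pg (commutator G)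
  obtain ⟨x, y, t, u, hxy, ht, hu, h1, h2, h3⟩ := h.exists_eq_sup hn hR
  have hyx := (sup_comm _ _).trans hxy
  have h4 : centralizer (R : Set G) = centralizer {y ^ p ^ t} ⊓ centralizer {x ^ p ^ u} := by
    refine le_antisymm (le_inf (centralizer_le (by simpa using h1))
      (centralizer_le (by simpa using h2))) fun g hg r hr => ?_
    obtain ⟨a, ha, _, ⟨j, rfl⟩, rfl⟩ := h3 r hr
    obtain ⟨_, ⟨i, rfl⟩, z, hz, rfl⟩ := mem_sup_of_normal_right.1 ha
    exact ((((Commute.zpow_left (hg.1 _ rfl) i).mul_left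
      (commute_of_mem_center hz g).symm)).mul_left (Commute.zpow_left (hg.2 _ rfl) j)).eq
  have h5 : (centralizer (R : Set G)).index = p ^ (n - t) * p ^ (n - u) := by
    rw [h4, ← relIndex_mul_index inf_le_right, inf_relIndex_right, h.index_centralizer hn hyx hu]
    congr 1
    refine le_antisymm ?_ ?_
    · rw [← h.index_centralizer hn hxy ht, ← relIndex_top_right]
      exact relIndex_le_of_le_right le_top FiniteIndex.index_ne_zero
    · rw [← h.relIndex_centralizer hn hxy]
      exact relIndex_le_of_le_right (zpowers_le.2 (mem_centralizer_singleton_iff.2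
        ((Commute.refl x).pow_right _))) FiniteIndex.index_ne_zero
  have h6 := card_mul_relIndex (le_sup_right : center G ≤ zpowers (y ^ p ^ t) ⊔ center G)
  rw [relIndex_sup_right, relIndex_zpowers_eq_pow h.pg (m := n - t) fun s => by
    rw [← pow_mul, ← pow_add, ← h.mho_eq_center hn, h.pow_mem_mho_iff hn hyx le_rfl]; omega] at h6
  have h7 := card_inf_mul_relIndex (zpowers (y ^ p ^ t) ⊔ center G) (zpowers (x ^ p ^ u))
  rw [relIndex_zpowers_eq_pow h.pg (m := n - u) fun s => ⟨fun hs => by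
    have := (sup_le (zpowers_le.2 (mem_centralizer_singleton_iff.2
      ((Commute.refl y).pow_pow _ _).eq)) (center_le_centralizer {y ^ p ^ 0})) hs
    rw [mem_centralizer_singleton_iff, ← pow_mul, ← pow_add] at this
    have := (h.commute_iff hn hxy _ _).1 this
    omega, fun hs => mem_sup_right (by
      rw [← pow_mul, ← pow_add, ← h.mho_eq_center hn, h.pow_mem_mho_iff hn hxy le_rfl]; omega)⟩] at h7
  have h8 := card_mul_set (zpowers (y ^ p ^ t) ⊔ center G) (zpowers (x ^ p ^ u))
  rw [show ((zpowers (y ^ p ^ t) ⊔ center G : Subgroup G) : Set G) * (zpowers (x ^ p ^ u) : Set G)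
    = R from Set.ext fun g => ⟨by
      rintro ⟨a, ha, b, hb, rfl⟩
      exact mul_mem (sup_le (zpowers_le.2 h1) hR ha) (zpowers_le.2 h2 hb), h3 g⟩, ← h7, ← h6,
    mul_comm _ (p ^ (n - u)), ← mul_assoc, mul_left_inj' Nat.card_pos.ne'] at h8
  rw [← h.card_mul_card_center, ← (centralizer (R : Set G)).card_mul_index, h5]
  exact (congrArg (· * _) h8).trans (by ring)

theorem card_mul_card_centralizer_le (h : MC p G) (R : Subgroup G) :
    Nat.card R * Nat.card (centralizer (R : Set G)) ≤ (commutator G).index ^ 2 ∧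
    (Nat.card R * Nat.card (centralizer (R : Set G)) = (commutator G).index ^ 2 → center G ≤ R) := by
  have h1 : centralizer (R : Set G) = centralizer ((R ⊔ center G : Subgroup G) : Set G) := by
    refine le_antisymm (le_centralizer_iff.2 (sup_le (le_centralizer_iff.1 le_rfl)
      (center_le_centralizer _))) (centralizer_le (le_sup_left : R ≤ R ⊔ center G))
  rw [← h.card_mul_card_centralizer (le_sup_right : center G ≤ R ⊔ center G), ← h1]
  refine ⟨Nat.mul_le_mul_right _ (card_le_of_le le_sup_left), fun h2 => ?_⟩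
  exact le_sup_right.trans (eq_of_le_of_card_ge le_sup_left
    (Nat.eq_of_mul_eq_mul_right Nat.card_pos h2).ge).ge

theorem centralizer_centralizer (h : MC p G) {R : Subgroup G} (hR : center G ≤ R) :
    centralizer (centralizer (R : Set G) : Set G) = R := by
  refine (eq_of_le_of_card_ge (le_centralizer_iff.1 le_rfl) ?_).symm
  have h1 := h.card_mul_card_centralizer (center_le_centralizer (R : Set G))
  rw [← h.card_mul_card_centralizer hR, mul_comm] at h1
  exact (Nat.eq_of_mul_eq_mul_right Nat.card_pos h1).le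

theorem exists_cyclic_factorization (h : MC p G) : ∃ a b : G, zpowers a ⊓ zpowers b = ⊥ ∧
    orderOf a * orderOf b = Nat.card G := by
  classical
  by_cases hc : IsCyclic G
  · obtain ⟨a, ha⟩ := isCyclic_iff_exists_zpowers_eq_top.1 hc
    exact ⟨a, 1, by simp, by rw [orderOf_one, mul_one, ← Nat.card_zpowers, ha, card_top]⟩
  obtain ⟨a, ha⟩ := Finite.exists_max (orderOf : G → ℕ)
  obtain ⟨e, he⟩ := IsPGroup.iff_orderOf.1 h.pg a
  have h1 : a ∉ powerClosure p 1 ⊤ := fun h1 => by
    obtain ⟨y, rfl⟩ := h.mem_mho.1 h1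
    obtain ⟨f, hf⟩ := IsPGroup.iff_orderOf.1 h.pg y
    rcases f with _ | f
    · refine hc (@isCyclic_of_subsingleton G _ (subsingleton_of_forall_eq 1 fun g => ?_))
      have := ha g
      rw [orderOf_eq_one_iff.1 hf, one_pow, orderOf_one] at this
      exact orderOf_eq_one_iff.1 (le_antisymm this (orderOf_pos g))
    · have := ha y
      rw [orderOf_pow_prime_pow (i := f) (hf.trans (by rw [add_comm])), hf,
        Nat.pow_le_pow_iff_right hp.out.one_lt] at this
      omega
  have hex : ∃ f, ∃ b, zpowers b ⊔ zpowers a = ⊤ ∧ b ^ p ^ f = 1 := by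
    obtain ⟨b, hb⟩ := h.exists_pair h1
    obtain ⟨f, hf⟩ := h.pg b
    exact ⟨f, b, hb, hf⟩
  obtain ⟨b, hb, hbf⟩ := Nat.find_spec hex
  have hmin := fun m => Nat.find_min' hex (m := m)
  generalize Nat.find hex = f at hbf hmin
  have hbo : orderOf b = p ^ f := by
    obtain ⟨k, hk, hk'⟩ := (Nat.dvd_prime_pow hp.out).1 (orderOf_dvd_of_pow_eq_one hbf)
    rw [hk', le_antisymm hk (hmin k ⟨b, hb, hk' ▸ pow_orderOf_eq_one b⟩)]
  have hfe : f ≤ e := by simpa [hbo, he, Nat.pow_le_pow_iff_right hp.out.one_lt] using ha b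
  have h2 : zpowers a ⊓ zpowers b = ⊥ := by
    by_contra h2
    obtain ⟨⟨w, hwa, hwb⟩, hw⟩ := ne_bot_iff_exists_ne_one.1 h2
    obtain ⟨j, hj1, hj2⟩ := H9.exists_pow_not_mem_pow_mem h.pg (N := ⊥) (x := w)
      fun e => hw (Subtype.ext e)
    rcases f with _ | f
    · rw [pow_zero, pow_one] at hbf
      rw [hbf, zpowers_one_eq_bot] at hwb
      exact hj1 (pow_mem hwb _)
    obtain ⟨k, hk⟩ := zpow_mem_zpowers_of_pow_eq_one (i := 1) hbo (pow_mem hwb (p ^ j))
      (by rw [pow_one]; exact hj2)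
    have h3 : b ^ p ^ f ∈ zpowers a := mem_of_zpow_mem_of_isPGroup h.pg (j := k) (by
      rintro ⟨l, rfl⟩
      refine hj1 ?_
      rw [← hk]
      simp only [zpow_mul, zpow_natCast]
      rw [← pow_mul, ← pow_succ, hbf, one_zpow]
      exact one_mem _) (by simp only at hk; rw [hk]; exact pow_mem hwa _)
    obtain ⟨m, rfl⟩ := Nat.exists_eq_add_of_le hfe
    obtain ⟨i, hi⟩ := zpow_mem_zpowers_of_pow_eq_one (m := f + m) (i := 1)
      (he.trans (by congr 1; omega)) h3 (by rw [← pow_mul, ← pow_add, hbf])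
    have h4 : (a ^ (p ^ m * i : ℤ)) ^ p ^ f = b ^ p ^ f := by
      rw [← hi]
      simp only [← zpow_natCast, ← zpow_mul]
      congr 1
      push_cast
      ring
    have := hmin f ⟨_, ?_, (h.wreg.pow_pow_eq_iff h.pg f _ _).1 h4⟩
    · omega
    rw [eq_top_iff, ← hb]
    refine sup_le (zpowers_le.2 ?_) le_sup_right
    exact (mul_mem_cancel_left (inv_mem (mem_sup_right (zpow_mem_zpowers a _)))).1
      (mem_sup_left (mem_zpowers _))
  refine ⟨a, b, h2, le_antisymm ?_ ?_⟩
  · have := card_mul_card_le (zpowers a) (zpowers b)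
    rwa [h2, sup_comm, hb, card_bot, card_top, mul_one, Nat.card_zpowers, Nat.card_zpowers] at this
  obtain ⟨n, hn⟩ := card_eq_pow h.pg (commutator G)
  have h3 : n ≤ f := by simpa [hbf] using (h.commute_iff hn hb f 0).1
  have h4 : ∀ c ∈ ⁅(⊤ : Subgroup G), (⊤ : Subgroup G)⁆, c ^ p ^ f = 1 := fun c hc => by
    obtain ⟨m, rfl⟩ := Nat.exists_eq_add_of_le h3
    rw [pow_add, pow_mul, ← hn,
      show c ^ _ = 1 from congrArg Subtype.val (pow_card_eq_one' (x := (⟨c, hc⟩ : commutator G))),
      one_pow]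
  let φ : G →* G := MonoidHom.mk' (· ^ p ^ f) fun x y =>
    h.wreg.mul_pow_pow_of_exponent h.pg f h4 trivial trivial
  have h5 : powerClosure p f ⊤ ≤ zpowers (a ^ p ^ f) := powerClosure_le_iff.2 fun x _ =>
    (show ⊤ ≤ (zpowers (a ^ p ^ f)).comap φ from hb ▸ sup_le
      (zpowers_le.2 (show b ^ p ^ f ∈ zpowers (a ^ p ^ f) from hbf ▸ one_mem _)) (zpowers_le.2 (mem_zpowers _))) trivial
  obtain ⟨m, rfl⟩ := Nat.exists_eq_add_of_le hfe
  have h6 := card_le_of_le h5
  rw [Nat.card_zpowers, orderOf_pow_prime_pow he] at h6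
  rw [← (powerClosure p f ⊤).card_mul_index, he, hbo]
  exact (Nat.mul_le_mul h6 (h.index_mho_le f)).trans (le_of_eq (by ring))

end MC

end H7
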